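import Cfsg.Agent.Lib.MinDegree.TwoE6.Cofactor

/-!
A divisor of the order of `²E₆(q)` within two of the minimal degree is not below it.
-/

set_option autoImplicit false

namespace Cfsg.Agent.MinDegree.TwoE6

theorem small_one : ∀ q ∈ Finset.Icc (2 : ℕ) 5,
    ¬ (q ^ 7 + q ^ 5 + q ^ 3 + q - (q ^ 4 + q ^ 2 + 1)) ∣ 117649 := by decide +kernel

theorem small_two : ∀ q ∈ Finset.Icc (2 : ℕ) 140,
    ¬ (2 + q + q ^ 2 + q ^ 3 + 2 * q ^ 4 + q ^ 5 + q ^ 6 + q ^ 8 + q ^ 9 + q ^ 10) ∣ 3081759181814101966848 := by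
  decide +kernel

theorem no_one {q : ℕ} (hq : 2 ≤ q)
    (h : (-1 + (q : ℤ) - q ^ 2 + q ^ 3 - q ^ 4 + q ^ 5 + q ^ 7) ∣ 117649) : False := by
  by_cases h5 : q ≤ 5
  · refine small_one q (Finset.mem_Icc.2 ⟨hq, h5⟩) ?_
    have hle : q ^ 4 + q ^ 2 + 1 ≤ q ^ 7 + q ^ 5 + q ^ 3 + q := by
      have h1 : q ^ 4 ≤ q ^ 5 := Nat.pow_le_pow_right (by omega) (by omega)
      have h2 : q ^ 2 ≤ q ^ 3 := Nat.pow_le_pow_right (by omega) (by omega)
      omega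
    rw [← Int.natCast_dvd_natCast, Nat.cast_sub hle]
    push_cast
    convert h using 1
    ring
  have h6 : (6 : ℤ) ≤ q := by exact_mod_cast (show 6 ≤ q by omega)
  have h7 : (279936 : ℤ) ≤ (q : ℤ) ^ 7 := by
    calc (279936 : ℤ) = 6 ^ 7 := by norm_num
      _ ≤ (q : ℤ) ^ 7 := pow_le_pow_left₀ (by norm_num) h6 7
  have hle := Int.le_of_dvd (by norm_num) h
  nlinarith [mul_le_mul_of_nonneg_left (by linarith : (1 : ℤ) ≤ q) (pow_nonneg (by linarith : (0 : ℤ) ≤ q) 4),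
    mul_le_mul_of_nonneg_left (by linarith : (1 : ℤ) ≤ q) (pow_nonneg (by linarith : (0 : ℤ) ≤ q) 2)]

theorem no_two {q : ℕ} (hq : 2 ≤ q)
    (h : (2 + (q : ℤ) + q ^ 2 + q ^ 3 + 2 * q ^ 4 + q ^ 5 + q ^ 6 + q ^ 8 + q ^ 9 + q ^ 10) ∣
      3081759181814101966848) : False := by
  by_cases hs : q ≤ 140
  · refine small_two q (Finset.mem_Icc.2 ⟨hq, hs⟩) ?_
    rw [← Int.natCast_dvd_natCast]
    push_cast
    exact h
  have h141 : (141 : ℤ) ≤ q := by exact_mod_cast (show 141 ≤ q by omega)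
  have h10 : (141 : ℤ) ^ 10 ≤ (q : ℤ) ^ 10 := pow_le_pow_left₀ (by norm_num) h141 10
  have hle := Int.le_of_dvd (by norm_num) h
  have h0 : (0 : ℤ) ≤ q := by linarith
  linarith [pow_nonneg h0 2, pow_nonneg h0 3, pow_nonneg h0 4, pow_nonneg h0 5, pow_nonneg h0 6, pow_nonneg h0 8,
    pow_nonneg h0 9]

/-- A divisor of the order at least two below the minimal degree is at least the minimal degree. -/
theorem degree_step {q d : ℕ} (hq : 2 ≤ q) (hd : q * (q ^ 6 - q ^ 3 + 1) * (q ^ 4 + 1) ≤ d + 2)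
    (hdvd : d ∣ q ^ 36 *
      ((q ^ 2 - 1) * (q ^ 5 + 1) * (q ^ 6 - 1) * (q ^ 8 - 1) * (q ^ 9 + 1) * (q ^ 12 - 1))) :
    q * (q ^ 6 - q ^ 3 + 1) * (q ^ 4 + 1) ≤ d := by
  by_contra hlt
  push Not at hlt
  have h1 : ∀ n, 1 ≤ q ^ n := fun n => Nat.one_le_pow _ _ (by omega)
  have h36 : q ^ 3 ≤ q ^ 6 := Nat.pow_le_pow_right (by omega) (by omega)
  have hT : ((q * (q ^ 6 - q ^ 3 + 1) * (q ^ 4 + 1) : ℕ) : ℤ) =
      (q : ℤ) * ((q : ℤ) ^ 6 - (q : ℤ) ^ 3 + 1) * ((q : ℤ) ^ 4 + 1) := by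
    push_cast [Nat.cast_sub h36]
    ring
  have hM : (d : ℤ) ∣ (q : ℤ) ^ 36 * (((q : ℤ) ^ 12 - 1) * ((q : ℤ) ^ 9 + 1) * ((q : ℤ) ^ 8 - 1) *
      ((q : ℤ) ^ 6 - 1) * ((q : ℤ) ^ 5 + 1) * ((q : ℤ) ^ 2 - 1)) := by
    have h := Int.natCast_dvd_natCast.2 hdvd
    push_cast [Nat.cast_sub (h1 2), Nat.cast_sub (h1 6), Nat.cast_sub (h1 8), Nat.cast_sub (h1 12)] at h
    convert h using 1
    ring
  rw [order_factor] at hM
  set x : ℤ := (q : ℤ) with hx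
  have hx2 : 2 ≤ x := by rw [hx]; exact_mod_cast hq
  rcases (show d + 1 = q * (q ^ 6 - q ^ 3 + 1) * (q ^ 4 + 1) ∨ d + 2 = q * (q ^ 6 - q ^ 3 + 1) * (q ^ 4 + 1) by
    omega) with e | e
  · have e' : (d : ℤ) = (1 - x ^ 2 + x ^ 4) * (-1 + x - x ^ 2 + x ^ 3 - x ^ 4 + x ^ 5 + x ^ 7) := by
      have h := congrArg (fun n : ℕ => (n : ℤ)) e
      simp only [Nat.cast_add, Nat.cast_one] at h
      rw [hT] at h
      linear_combination h
    have hne : (1 - x ^ 2 + x ^ 4) ≠ 0 := by nlinarith [sq_nonneg (x ^ 2 - 1), sq_nonneg x]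
    refine no_one hq (cofactor_one ((mul_dvd_mul_iff_left hne).1 ?_))
    rw [← e']
    exact hM.trans (dvd_of_eq (by ring))
  · have e' : (d : ℤ) = (-1 + x) * (2 + x + x ^ 2 + x ^ 3 + 2 * x ^ 4 + x ^ 5 + x ^ 6 + x ^ 8 + x ^ 9 + x ^ 10) := by
      have h := congrArg (fun n : ℕ => (n : ℤ)) e
      simp only [Nat.cast_add, Nat.cast_ofNat] at h
      rw [hT] at h
      linear_combination h
    have hne : (-1 + x) ≠ 0 := by omega
    refine no_two hq (cofactor_two ((mul_dvd_mul_iff_left hne).1 ?_))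
    rw [← e']
    exact hM.trans (dvd_of_eq (by ring))

end Cfsg.Agent.MinDegree.TwoE6
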