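import Mathlib

/-!
The two degrees below the minimal one for `²E₆(q)` do not divide the group order.
-/

set_option autoImplicit false

namespace Cfsg.Agent.MinDegree.TwoE6

theorem dvd_swap {A P f u v c : ℤ} (m : ℕ) (hb : u * A + v * f = c) (h : A ∣ P * f ^ m) : A ∣ P * c ^ m := by
  have h1 : A ∣ c ^ m - (v * f) ^ m :=
    dvd_trans ⟨u, by linear_combination (-1 : ℤ) * hb⟩ (sub_dvd_pow_sub_pow c (v * f) m)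
  have e : P * c ^ m = P * (c ^ m - (v * f) ^ m) + v ^ m * (P * f ^ m) := by ring
  rw [e]
  exact dvd_add (dvd_mul_of_dvd_right h1 _) (dvd_mul_of_dvd_right h _)

theorem order_factor (q : ℤ) :
    q ^ 36 * ((q ^ 12 - 1) * (q ^ 9 + 1) * (q ^ 8 - 1) * (q ^ 6 - 1) * (q ^ 5 + 1) * (q ^ 2 - 1)) =
      q ^ 36 * (-1 + q) ^ 4 * (1 + q) ^ 6 * (1 + q + q ^ 2) ^ 2 * (1 + q ^ 2) ^ 2 * (1 - q + q ^ 2) ^ 3 * (1 + q ^ 4) ^ 1 * (1 - q + q ^ 2 - q ^ 3 + q ^ 4) ^ 1 * (1 - q ^ 2 + q ^ 4) ^ 1 * (1 - q ^ 3 + q ^ 6) ^ 1 := by ring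

theorem cofactor_one {q : ℤ} (h : (-1 + q - q ^ 2 + q ^ 3 - q ^ 4 + q ^ 5 + q ^ 7) ∣
    (q) ^ 36 * (-1 + q) ^ 4 * (1 + q) ^ 6 * (1 + q + q ^ 2) ^ 2 * (1 + q ^ 2) ^ 2 * (1 - q + q ^ 2) ^ 3 * (1 + q ^ 4) ^ 1 * (1 - q + q ^ 2 - q ^ 3 + q ^ 4) ^ 1 * (1 - q ^ 3 + q ^ 6) ^ 1) : (-1 + q - q ^ 2 + q ^ 3 - q ^ 4 + q ^ 5 + q ^ 7) ∣ 117649 := by
  have h := h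
  replace h := dvd_swap (P := (-1 + q) ^ 4 * (1 + q) ^ 6 * (1 + q + q ^ 2) ^ 2 * (1 + q ^ 2) ^ 2 * (1 - q + q ^ 2) ^ 3 * (1 + q ^ 4) ^ 1 * (1 - q + q ^ 2 - q ^ 3 + q ^ 4) ^ 1 * (1 - q ^ 3 + q ^ 6) ^ 1) (f := q) (c := 1) 36
    (show (-1) * (-1 + q - q ^ 2 + q ^ 3 - q ^ 4 + q ^ 5 + q ^ 7) + (1 - q + q ^ 2 - q ^ 3 + q ^ 4 + q ^ 6) * (q) = 1 by ring) (h.trans (dvd_of_eq (by ac_rfl)))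
  replace h := dvd_swap (P := (1 : ℤ) ^ 36 * (1 + q) ^ 6 * (1 + q + q ^ 2) ^ 2 * (1 + q ^ 2) ^ 2 * (1 - q + q ^ 2) ^ 3 * (1 + q ^ 4) ^ 1 * (1 - q + q ^ 2 - q ^ 3 + q ^ 4) ^ 1 * (1 - q ^ 3 + q ^ 6) ^ 1) (f := -1 + q) (c := 1) 4
    (show (1) * (-1 + q - q ^ 2 + q ^ 3 - q ^ 4 + q ^ 5 + q ^ 7) + (-2 - q - 2 * q ^ 2 - q ^ 3 - 2 * q ^ 4 - q ^ 5 - q ^ 6) * (-1 + q) = 1 by ring) (h.trans (dvd_of_eq (by ac_rfl)))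
  replace h := dvd_swap (P := (1 : ℤ) ^ 36 * (1 : ℤ) ^ 4 * (1 + q + q ^ 2) ^ 2 * (1 + q ^ 2) ^ 2 * (1 - q + q ^ 2) ^ 3 * (1 + q ^ 4) ^ 1 * (1 - q + q ^ 2 - q ^ 3 + q ^ 4) ^ 1 * (1 - q ^ 3 + q ^ 6) ^ 1) (f := 1 + q) (c := 7) 6
    (show (-1) * (-1 + q - q ^ 2 + q ^ 3 - q ^ 4 + q ^ 5 + q ^ 7) + (6 - 5 * q + 4 * q ^ 2 - 3 * q ^ 3 + 2 * q ^ 4 - q ^ 5 + q ^ 6) * (1 + q) = 7 by ring) (h.trans (dvd_of_eq (by ac_rfl)))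
  replace h := dvd_swap (P := (1 : ℤ) ^ 36 * (1 : ℤ) ^ 4 * (7 : ℤ) ^ 6 * (1 + q ^ 2) ^ 2 * (1 - q + q ^ 2) ^ 3 * (1 + q ^ 4) ^ 1 * (1 - q + q ^ 2 - q ^ 3 + q ^ 4) ^ 1 * (1 - q ^ 3 + q ^ 6) ^ 1) (f := 1 + q + q ^ 2) (c := 1) 2
    (show (-1 - q) * (-1 + q - q ^ 2 + q ^ 3 - q ^ 4 + q ^ 5 + q ^ 7) + (q ^ 6) * (1 + q + q ^ 2) = 1 by ring) (h.trans (dvd_of_eq (by ac_rfl)))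
  replace h := dvd_swap (P := (1 : ℤ) ^ 36 * (1 : ℤ) ^ 4 * (7 : ℤ) ^ 6 * (1 : ℤ) ^ 2 * (1 - q + q ^ 2) ^ 3 * (1 + q ^ 4) ^ 1 * (1 - q + q ^ 2 - q ^ 3 + q ^ 4) ^ 1 * (1 - q ^ 3 + q ^ 6) ^ 1) (f := 1 + q ^ 2) (c := 1) 2
    (show (-1) * (-1 + q - q ^ 2 + q ^ 3 - q ^ 4 + q ^ 5 + q ^ 7) + (q - q ^ 2 + q ^ 5) * (1 + q ^ 2) = 1 by ring) (h.trans (dvd_of_eq (by ac_rfl)))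
  replace h := dvd_swap (P := (1 : ℤ) ^ 36 * (1 : ℤ) ^ 4 * (7 : ℤ) ^ 6 * (1 : ℤ) ^ 2 * (1 : ℤ) ^ 2 * (1 + q ^ 4) ^ 1 * (1 - q + q ^ 2 - q ^ 3 + q ^ 4) ^ 1 * (1 - q ^ 3 + q ^ 6) ^ 1) (f := 1 - q + q ^ 2) (c := 1) 3
    (show (1 - q) * (-1 + q - q ^ 2 + q ^ 3 - q ^ 4 + q ^ 5 + q ^ 7) + (2 - 2 * q ^ 3 + q ^ 6) * (1 - q + q ^ 2) = 1 by ring) (h.trans (dvd_of_eq (by ac_rfl)))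
  replace h := dvd_swap (P := (1 : ℤ) ^ 36 * (1 : ℤ) ^ 4 * (7 : ℤ) ^ 6 * (1 : ℤ) ^ 2 * (1 : ℤ) ^ 2 * (1 : ℤ) ^ 3 * (1 - q + q ^ 2 - q ^ 3 + q ^ 4) ^ 1 * (1 - q ^ 3 + q ^ 6) ^ 1) (f := 1 + q ^ 4) (c := 1) 1
    (show (q ^ 2) * (-1 + q - q ^ 2 + q ^ 3 - q ^ 4 + q ^ 5 + q ^ 7) + (1 + q ^ 2 - q ^ 3 - q ^ 5) * (1 + q ^ 4) = 1 by ring) (h.trans (dvd_of_eq (by ac_rfl)))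
  replace h := dvd_swap (P := (1 : ℤ) ^ 36 * (1 : ℤ) ^ 4 * (7 : ℤ) ^ 6 * (1 : ℤ) ^ 2 * (1 : ℤ) ^ 2 * (1 : ℤ) ^ 3 * (1 : ℤ) ^ 1 * (1 - q ^ 3 + q ^ 6) ^ 1) (f := 1 - q + q ^ 2 - q ^ 3 + q ^ 4) (c := 1) 1
    (show (-q + q ^ 2) * (-1 + q - q ^ 2 + q ^ 3 - q ^ 4 + q ^ 5 + q ^ 7) + (1 + q ^ 2 - q ^ 5) * (1 - q + q ^ 2 - q ^ 3 + q ^ 4) = 1 by ring) (h.trans (dvd_of_eq (by ac_rfl)))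
  replace h := dvd_swap (P := (1 : ℤ) ^ 36 * (1 : ℤ) ^ 4 * (7 : ℤ) ^ 6 * (1 : ℤ) ^ 2 * (1 : ℤ) ^ 2 * (1 : ℤ) ^ 3 * (1 : ℤ) ^ 1 * (1 : ℤ) ^ 1) (f := 1 - q ^ 3 + q ^ 6) (c := 1) 1
    (show (-1 + q ^ 2 - q ^ 4) * (-1 + q - q ^ 2 + q ^ 3 - q ^ 4 + q ^ 5 + q ^ 7) + (q + q ^ 5) * (1 - q ^ 3 + q ^ 6) = 1 by ring) (h.trans (dvd_of_eq (by ac_rfl)))
  convert h using 1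
  all_goals norm_num

theorem cofactor_two {q : ℤ} (h : (2 + q + q ^ 2 + q ^ 3 + 2 * q ^ 4 + q ^ 5 + q ^ 6 + q ^ 8 + q ^ 9 + q ^ 10) ∣
    (q) ^ 36 * (-1 + q) ^ 3 * (1 + q) ^ 6 * (1 + q + q ^ 2) ^ 2 * (1 + q ^ 2) ^ 2 * (1 - q + q ^ 2) ^ 3 * (1 + q ^ 4) ^ 1 * (1 - q + q ^ 2 - q ^ 3 + q ^ 4) ^ 1 * (1 - q ^ 2 + q ^ 4) ^ 1 * (1 - q ^ 3 + q ^ 6) ^ 1) : (2 + q + q ^ 2 + q ^ 3 + 2 * q ^ 4 + q ^ 5 + q ^ 6 + q ^ 8 + q ^ 9 + q ^ 10) ∣ 3081759181814101966848 := by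
  have h := h
  replace h := dvd_swap (P := (-1 + q) ^ 3 * (1 + q) ^ 6 * (1 + q + q ^ 2) ^ 2 * (1 + q ^ 2) ^ 2 * (1 - q + q ^ 2) ^ 3 * (1 + q ^ 4) ^ 1 * (1 - q + q ^ 2 - q ^ 3 + q ^ 4) ^ 1 * (1 - q ^ 2 + q ^ 4) ^ 1 * (1 - q ^ 3 + q ^ 6) ^ 1) (f := q) (c := 2) 36
    (show (1) * (2 + q + q ^ 2 + q ^ 3 + 2 * q ^ 4 + q ^ 5 + q ^ 6 + q ^ 8 + q ^ 9 + q ^ 10) + (-1 - q - q ^ 2 - 2 * q ^ 3 - q ^ 4 - q ^ 5 - q ^ 7 - q ^ 8 - q ^ 9) * (q) = 2 by ring) (h.trans (dvd_of_eq (by ac_rfl)))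
  replace h := dvd_swap (P := (2 : ℤ) ^ 36 * (1 + q) ^ 6 * (1 + q + q ^ 2) ^ 2 * (1 + q ^ 2) ^ 2 * (1 - q + q ^ 2) ^ 3 * (1 + q ^ 4) ^ 1 * (1 - q + q ^ 2 - q ^ 3 + q ^ 4) ^ 1 * (1 - q ^ 2 + q ^ 4) ^ 1 * (1 - q ^ 3 + q ^ 6) ^ 1) (f := -1 + q) (c := 12) 3
    (show (1) * (2 + q + q ^ 2 + q ^ 3 + 2 * q ^ 4 + q ^ 5 + q ^ 6 + q ^ 8 + q ^ 9 + q ^ 10) + (-10 - 9 * q - 8 * q ^ 2 - 7 * q ^ 3 - 5 * q ^ 4 - 4 * q ^ 5 - 3 * q ^ 6 - 3 * q ^ 7 - 2 * q ^ 8 - q ^ 9) * (-1 + q) = 12 by ring) (h.trans (dvd_of_eq (by ac_rfl)))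
  replace h := dvd_swap (P := (2 : ℤ) ^ 36 * (12 : ℤ) ^ 3 * (1 + q + q ^ 2) ^ 2 * (1 + q ^ 2) ^ 2 * (1 - q + q ^ 2) ^ 3 * (1 + q ^ 4) ^ 1 * (1 - q + q ^ 2 - q ^ 3 + q ^ 4) ^ 1 * (1 - q ^ 2 + q ^ 4) ^ 1 * (1 - q ^ 3 + q ^ 6) ^ 1) (f := 1 + q) (c := 4) 6
    (show (1) * (2 + q + q ^ 2 + q ^ 3 + 2 * q ^ 4 + q ^ 5 + q ^ 6 + q ^ 8 + q ^ 9 + q ^ 10) + (2 - 3 * q + 2 * q ^ 2 - 3 * q ^ 3 + q ^ 4 - 2 * q ^ 5 + q ^ 6 - q ^ 7 - q ^ 9) * (1 + q) = 4 by ring) (h.trans (dvd_of_eq (by ac_rfl)))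
  replace h := dvd_swap (P := (2 : ℤ) ^ 36 * (12 : ℤ) ^ 3 * (4 : ℤ) ^ 6 * (1 + q ^ 2) ^ 2 * (1 - q + q ^ 2) ^ 3 * (1 + q ^ 4) ^ 1 * (1 - q + q ^ 2 - q ^ 3 + q ^ 4) ^ 1 * (1 - q ^ 2 + q ^ 4) ^ 1 * (1 - q ^ 3 + q ^ 6) ^ 1) (f := 1 + q + q ^ 2) (c := 3) 2
    (show (1 - q) * (2 + q + q ^ 2 + q ^ 3 + 2 * q ^ 4 + q ^ 5 + q ^ 6 + q ^ 8 + q ^ 9 + q ^ 10) + (1 - q ^ 2 + q ^ 3 - q ^ 4 + q ^ 5 - q ^ 8 + q ^ 9) * (1 + q + q ^ 2) = 3 by ring) (h.trans (dvd_of_eq (by ac_rfl)))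
  replace h := dvd_swap (P := (2 : ℤ) ^ 36 * (12 : ℤ) ^ 3 * (4 : ℤ) ^ 6 * (3 : ℤ) ^ 2 * (1 - q + q ^ 2) ^ 3 * (1 + q ^ 4) ^ 1 * (1 - q + q ^ 2 - q ^ 3 + q ^ 4) ^ 1 * (1 - q ^ 2 + q ^ 4) ^ 1 * (1 - q ^ 3 + q ^ 6) ^ 1) (f := 1 + q ^ 2) (c := 4) 2
    (show (1 - q) * (2 + q + q ^ 2 + q ^ 3 + 2 * q ^ 4 + q ^ 5 + q ^ 6 + q ^ 8 + q ^ 9 + q ^ 10) + (2 + q - 2 * q ^ 2 - q ^ 3 + q ^ 4 + 2 * q ^ 5 - q ^ 6 - q ^ 7 + q ^ 9) * (1 + q ^ 2) = 4 by ring) (h.trans (dvd_of_eq (by ac_rfl)))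
  replace h := dvd_swap (P := (2 : ℤ) ^ 36 * (12 : ℤ) ^ 3 * (4 : ℤ) ^ 6 * (3 : ℤ) ^ 2 * (4 : ℤ) ^ 2 * (1 + q ^ 4) ^ 1 * (1 - q + q ^ 2 - q ^ 3 + q ^ 4) ^ 1 * (1 - q ^ 2 + q ^ 4) ^ 1 * (1 - q ^ 3 + q ^ 6) ^ 1) (f := 1 - q + q ^ 2) (c := 1) 3
    (show (-1 + q) * (2 + q + q ^ 2 + q ^ 3 + 2 * q ^ 4 + q ^ 5 + q ^ 6 + q ^ 8 + q ^ 9 + q ^ 10) + (3 + 2 * q - q ^ 2 - 3 * q ^ 3 - q ^ 4 + q ^ 5 + 2 * q ^ 6 - q ^ 8 - q ^ 9) * (1 - q + q ^ 2) = 1 by ring) (h.trans (dvd_of_eq (by ac_rfl)))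
  replace h := dvd_swap (P := (2 : ℤ) ^ 36 * (12 : ℤ) ^ 3 * (4 : ℤ) ^ 6 * (3 : ℤ) ^ 2 * (4 : ℤ) ^ 2 * (1 : ℤ) ^ 3 * (1 - q + q ^ 2 - q ^ 3 + q ^ 4) ^ 1 * (1 - q ^ 2 + q ^ 4) ^ 1 * (1 - q ^ 3 + q ^ 6) ^ 1) (f := 1 + q ^ 4) (c := 2) 1
    (show (1 - q) * (2 + q + q ^ 2 + q ^ 3 + 2 * q ^ 4 + q ^ 5 + q ^ 6 + q ^ 8 + q ^ 9 + q ^ 10) + (q - q ^ 4 + q ^ 7) * (1 + q ^ 4) = 2 by ring) (h.trans (dvd_of_eq (by ac_rfl)))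
  replace h := dvd_swap (P := (2 : ℤ) ^ 36 * (12 : ℤ) ^ 3 * (4 : ℤ) ^ 6 * (3 : ℤ) ^ 2 * (4 : ℤ) ^ 2 * (1 : ℤ) ^ 3 * (2 : ℤ) ^ 1 * (1 - q ^ 2 + q ^ 4) ^ 1 * (1 - q ^ 3 + q ^ 6) ^ 1) (f := 1 - q + q ^ 2 - q ^ 3 + q ^ 4) (c := 11) 1
    (show (6 - 3 * q - q ^ 2 - q ^ 3) * (2 + q + q ^ 2 + q ^ 3 + 2 * q ^ 4 + q ^ 5 + q ^ 6 + q ^ 8 + q ^ 9 + q ^ 10) + (-1 - q - q ^ 2 - q ^ 3 - 7 * q ^ 4 - 4 * q ^ 5 + 3 * q ^ 6 + 7 * q ^ 7 + 3 * q ^ 8 + q ^ 9) * (1 - q + q ^ 2 - q ^ 3 + q ^ 4) = 11 by ring) (h.trans (dvd_of_eq (by ac_rfl)))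
  replace h := dvd_swap (P := (2 : ℤ) ^ 36 * (12 : ℤ) ^ 3 * (4 : ℤ) ^ 6 * (3 : ℤ) ^ 2 * (4 : ℤ) ^ 2 * (1 : ℤ) ^ 3 * (2 : ℤ) ^ 1 * (11 : ℤ) ^ 1 * (1 - q ^ 3 + q ^ 6) ^ 1) (f := 1 - q ^ 2 + q ^ 4) (c := 1) 1
    (show (1 - q) * (2 + q + q ^ 2 + q ^ 3 + 2 * q ^ 4 + q ^ 5 + q ^ 6 + q ^ 8 + q ^ 9 + q ^ 10) + (-1 + q - q ^ 2 + q ^ 3 - q ^ 4 + q ^ 5 + q ^ 7) * (1 - q ^ 2 + q ^ 4) = 1 by ring) (h.trans (dvd_of_eq (by ac_rfl)))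
  replace h := dvd_swap (P := (2 : ℤ) ^ 36 * (12 : ℤ) ^ 3 * (4 : ℤ) ^ 6 * (3 : ℤ) ^ 2 * (4 : ℤ) ^ 2 * (1 : ℤ) ^ 3 * (2 : ℤ) ^ 1 * (11 : ℤ) ^ 1 * (1 : ℤ) ^ 1) (f := 1 - q ^ 3 + q ^ 6) (c := 2) 1
    (show (1 - q) * (2 + q + q ^ 2 + q ^ 3 + 2 * q ^ 4 + q ^ 5 + q ^ 6 + q ^ 8 + q ^ 9 + q ^ 10) + (q + q ^ 5) * (1 - q ^ 3 + q ^ 6) = 2 by ring) (h.trans (dvd_of_eq (by ac_rfl)))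
  convert h using 1
  all_goals norm_num
end Cfsg.Agent.MinDegree.TwoE6
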