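import Mathlib

/-!
Coordinates in a group generated by one-parameter subgroups that commute up to a central subgroup.
-/

set_option autoImplicit false

namespace Cfsg.Agent.MinDegree.TwoE6

variable {G : Type*} [Group G] {A : Type*} [AddCommGroup A] {n : ℕ}

/-- One-parameter subgroups commuting up to a central subgroup. -/
structure Coords (G : Type*) [Group G] (A : Type*) [AddCommGroup A] (n : ℕ) where
  /-- the one-parameter subgroups -/
  x : Fin n → A → G
  /-- the central subgroup -/
  Z : Subgroup G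
  x_add : ∀ i a b, x i a * x i b = x i (a + b)
  central : ∀ z ∈ Z, ∀ i a, Commute z (x i a)
  swap : ∀ i j a b, ∃ z ∈ Z, x i a * x j b = x j b * x i a * z

namespace Coords

variable (C : Coords G A n)

/-- The ordered product along a list. -/
def lp (l : List (Fin n)) (c : Fin n → A) : G := (l.map fun i => C.x i (c i)).prod

/-- The element with given coordinates. -/
def el (c : Fin n → A) : G := C.lp (List.finRange n) c

/-- An element has the given coordinates up to the centre. -/
def Cls (g : G) (c : Fin n → A) : Prop := ∃ z ∈ C.Z, g = C.el c * z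

theorem x_zero (i : Fin n) : C.x i 0 = 1 := by
  have h := C.x_add i 0 0
  rw [add_zero] at h
  exact mul_eq_left.1 h

theorem commute_lp {z : G} (hz : z ∈ C.Z) (l : List (Fin n)) (c : Fin n → A) : Commute z (C.lp l c) :=
  Commute.list_prod_right _ _ fun y hy => by
    obtain ⟨i, -, rfl⟩ := List.mem_map.1 hy
    exact C.central z hz i _

theorem lp_move (l : List (Fin n)) (c : Fin n → A) (j : Fin n) (b : A) :
    ∃ z ∈ C.Z, C.lp l c * C.x j b = C.x j b * C.lp l c * z := by
  induction l with
  | nil => exact ⟨1, one_mem _, by simp [lp]⟩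
  | cons i l ih =>
    obtain ⟨z, hz, h⟩ := ih
    obtain ⟨w, hw, h'⟩ := C.swap i j (c i) b
    refine ⟨w * z, mul_mem hw hz, ?_⟩
    show C.x i (c i) * C.lp l c * C.x j b = C.x j b * (C.x i (c i) * C.lp l c) * (w * z)
    rw [mul_assoc, h, ← mul_assoc, ← mul_assoc, h', mul_assoc _ w, (C.commute_lp hw l c).eq]
    simp only [mul_assoc]

theorem lp_mul_x {l : List (Fin n)} (hl : l.Nodup) {j : Fin n} (hj : j ∈ l) (c : Fin n → A) (b : A) :
    ∃ z ∈ C.Z, C.lp l c * C.x j b = C.lp l (c + Pi.single j b) * z := by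
  induction l with
  | nil => simp at hj
  | cons i l ih =>
    obtain ⟨hil, hl⟩ := List.nodup_cons.1 hl
    by_cases hji : j = i
    · subst hji
      obtain ⟨z, hz, h⟩ := C.lp_move l c j b
      refine ⟨z, hz, ?_⟩
      have e : C.lp l (c + Pi.single j b) = C.lp l c := congrArg List.prod <| List.map_congr_left fun k hk => by
        rw [Pi.add_apply, Pi.single_eq_of_ne (fun e => hil (by rwa [e] at hk)), add_zero]
      show C.x j (c j) * C.lp l c * C.x j b = C.x j ((c + (Pi.single j b : Fin n → A)) j) * C.lp l (c + Pi.single j b) * z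
      rw [e, Pi.add_apply, Pi.single_eq_same, ← C.x_add, mul_assoc, h]
      simp only [mul_assoc]
    · obtain ⟨z, hz, h⟩ := ih hl ((List.mem_cons.1 hj).resolve_left hji)
      refine ⟨z, hz, ?_⟩
      show C.x i (c i) * C.lp l c * C.x j b = C.x i ((c + (Pi.single j b : Fin n → A)) i) * C.lp l (c + Pi.single j b) * z
      rw [Pi.add_apply, Pi.single_eq_of_ne (Ne.symm hji), add_zero, mul_assoc, h, mul_assoc]

theorem el_zero : C.el 0 = 1 :=
  List.prod_eq_one fun y hy => by
    obtain ⟨i, -, rfl⟩ := List.mem_map.1 hy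
    exact C.x_zero i

theorem cls_el (c : Fin n → A) : C.Cls (C.el c) c := ⟨1, one_mem _, (mul_one _).symm⟩

theorem cls_of_mem {z : G} (hz : z ∈ C.Z) : C.Cls z 0 := ⟨z, hz, by rw [el_zero, one_mul]⟩

theorem cls_one : C.Cls 1 0 := C.cls_of_mem (one_mem _)

theorem commute_el {z : G} (hz : z ∈ C.Z) (c : Fin n → A) : Commute z (C.el c) := C.commute_lp hz _ c

theorem cls_mul_x {g : G} {c : Fin n → A} (h : C.Cls g c) (j : Fin n) (b : A) :
    C.Cls (g * C.x j b) (c + Pi.single j b) := by
  obtain ⟨z, hz, rfl⟩ := h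
  obtain ⟨w, hw, h'⟩ := C.lp_mul_x (List.nodup_finRange n) (List.mem_finRange j) c b
  refine ⟨w * z, mul_mem hw hz, ?_⟩
  rw [mul_assoc, (C.central z hz j b).eq, ← mul_assoc, el, h', mul_assoc]
  rfl

theorem cls_x (j : Fin n) (b : A) : C.Cls (C.x j b) (Pi.single j b) := by
  simpa using C.cls_mul_x C.cls_one j b

theorem cls_mul_lp {g : G} {c : Fin n → A} (h : C.Cls g c) (l : List (Fin n)) (d : Fin n → A) :
    C.Cls (g * C.lp l d) (c + (l.map fun i => Pi.single i (d i)).sum) := by
  induction l generalizing g c with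
  | nil => simpa [lp] using h
  | cons i l ih =>
    have := ih (C.cls_mul_x h i (d i))
    simpa [lp, mul_assoc, add_assoc] using this

theorem sum_single (d : Fin n → A) : ((List.finRange n).map fun i => (Pi.single i (d i) : Fin n → A)).sum = d := by
  rw [← Fin.sum_univ_def, Finset.univ_sum_single]

theorem cls_mul {g h : G} {c d : Fin n → A} (hg : C.Cls g c) (hh : C.Cls h d) : C.Cls (g * h) (c + d) := by
  obtain ⟨w, hw, rfl⟩ := hh
  obtain ⟨z, hz, e⟩ := C.cls_mul_lp hg (List.finRange n) d
  rw [sum_single] at e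
  refine ⟨z * w, mul_mem hz hw, ?_⟩
  rw [← mul_assoc g, show g * C.el d = _ from e, mul_assoc]

theorem el_mul (c d : Fin n → A) : C.Cls (C.el c * C.el d) (c + d) := C.cls_mul (C.cls_el c) (C.cls_el d)

theorem cls_map {f : G →* G} (hf : ∀ z ∈ C.Z, f z ∈ C.Z) {M : (Fin n → A) →+ (Fin n → A)}
    (h : ∀ i a, C.Cls (f (C.x i a)) (M (Pi.single i a))) {g : G} {c : Fin n → A} (hg : C.Cls g c) :
    C.Cls (f g) (M c) := by
  obtain ⟨z, hz, rfl⟩ := hg
  have key : ∀ l : List (Fin n), C.Cls (f (C.lp l c)) (M (l.map fun i => Pi.single i (c i)).sum) := by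
    intro l
    induction l with
    | nil => simpa [lp] using C.cls_one
    | cons i l ih => simpa [lp, map_add] using C.cls_mul (h i (c i)) ih
  have := C.cls_mul (key (List.finRange n)) (C.cls_of_mem (hf z hz))
  rw [sum_single, add_zero, ← map_mul] at this
  exact this

/-- An element acts linearly on the coordinates. -/
def Acts (g : G) (M : (Fin n → A) →+ (Fin n → A)) : Prop :=
  (∀ z ∈ C.Z, g * z * g⁻¹ ∈ C.Z) ∧ ∀ i a, C.Cls (g * C.x i a * g⁻¹) (M (Pi.single i a))

theorem Acts.cls {g : G} {M : (Fin n → A) →+ (Fin n → A)} (hg : C.Acts g M) {h : G} {c : Fin n → A}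
    (hh : C.Cls h c) : C.Cls (g * h * g⁻¹) (M c) :=
  C.cls_map (f := (MulAut.conj g).toMonoidHom) hg.1 hg.2 hh

theorem Acts.mul {g g' : G} {M M' : (Fin n → A) →+ (Fin n → A)} (hg : C.Acts g M) (hg' : C.Acts g' M') :
    C.Acts (g * g') (M.comp M') := by
  refine ⟨fun z hz => ?_, fun i a => ?_⟩
  · rw [show g * g' * z * (g * g')⁻¹ = g * (g' * z * g'⁻¹) * g⁻¹ by group]
    exact hg.1 _ (hg'.1 z hz)
  · rw [show g * g' * C.x i a * (g * g')⁻¹ = g * (g' * C.x i a * g'⁻¹) * g⁻¹ by group]
    exact Acts.cls C hg (hg'.2 i a)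

theorem acts_one : C.Acts 1 (AddMonoidHom.id _) := ⟨fun z hz => by simpa using hz, fun i a => by
  simpa using C.cls_x i a⟩

end Coords

end Cfsg.Agent.MinDegree.TwoE6
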