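import Cfsg.Agent.Lib.Chev.TwistE6Group
import Cfsg.Agent.Lib.Chev.TwistTorus
import Cfsg.Agent.Lib.Chev.TwistPerfect

/-!
Root elements of `E₆` under the automorphism defining `²E₆`, and the elements they give in the twisted group.
-/

set_option autoImplicit false
set_option maxRecDepth 4000

namespace Cfsg.Agent.MinDegree.TwoE6

open Cfsg.Lie Cfsg.Agent.Chev Cfsg.Agent.Chev.BNSetup

variable {K : Type*} [Field K] (φ : K ≃+* K)

/-- The root element. -/
noncomputable abbrev X (r : ℕ) (t : K) : GL chevE6.Idx K := xe E6.good r t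

/-- The twisted group. -/
noncomputable abbrev GT : Subgroup (GL chevE6.Idx K) := (tw2E6 φ).Gt

/-- The symmetry of the roots. -/
def bar (r : ℕ) : ℕ := graphE6.rho.getD r 0

/-- The sign of the symmetry at a root. -/
def sgn (r : ℕ) : ℤ := graphE6.sgn.getD r 1

/-- The automorphism. -/
noncomputable abbrev sigma : GL chevE6.Idx K ≃* GL chevE6.Idx K := GraphTab.aut orbE6_ok.1 φ

theorem X_add {r : ℕ} (hr : r < 72) (t u : K) : X r t * X r u = X r (t + u) := xe_add E6.good hr t u

theorem X_zero {r : ℕ} (hr : r < 72) : X (K := K) r 0 = 1 := xe_zero E6.good hr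

theorem X_inj {r : ℕ} (hr : r < 72) {t u : K} (h : X r t = X r u) : t = u :=
  xe_inj E6.good facts_chevE6 hr h

theorem X_inv {r : ℕ} (hr : r < 72) (t : K) : (X r t)⁻¹ = X r (-t) := xe_inv E6.good hr t

/-- The condition for two root elements to commute. -/
def commB (r s : ℕ) : Bool :=
  decide (r < 72) && decide (s < 72) &&
    (decide (s = r) || (decide (s ≠ chevE6.neg r) && decide (chevE6.commTerms r s = [])))

/-- The single root occurring in a commutator. -/
def oneB (r s p : ℕ) (m : ℤ) : Bool :=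
  decide (r < 72) && decide (s < 72) && decide (s ≠ r) && decide (s ≠ chevE6.neg r) &&
    decide (chevE6.commTerms r s = [(p, m, 1, 1)])

theorem X_commute {r s : ℕ} (h : commB r s = true) (t u : K) : Commute (X r t) (X s u) := by
  simp only [commB, Bool.and_eq_true, Bool.or_eq_true, decide_eq_true_eq] at h
  obtain ⟨⟨hr, hs⟩, h3⟩ := h
  rcases eq_or_ne s r with rfl | hne
  · exact (X_add hs t u).trans ((congrArg (X s) (add_comm t u)).trans (X_add hs u t).symm)
  obtain ⟨h1, h2⟩ := h3.resolve_left hne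
  have e := E6.good.xg_comm (F := K) hr hs hne h1 t u
  rw [show chevE6.commWord K r s t u = [] by rw [ChevalleyDatum.commWord, h2, List.map_nil],
    show wordG chevE6 K [] = 1 by simp [wordG], mul_one, xg_eq_xe E6.good, xg_eq_xe E6.good] at e
  exact e.symm

theorem X_swap {r s p : ℕ} {m : ℤ} (h : oneB r s p m = true) (t u : K) :
    X s u * X r t = X r t * X s u * X p ((m : K) * (-t) * u) := by
  simp only [oneB, Bool.and_eq_true, decide_eq_true_eq] at h
  obtain ⟨⟨⟨⟨hr, hs⟩, h1⟩, h2⟩, h3⟩ := h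
  have e := E6.good.xg_comm (F := K) hr hs h1 h2 t u
  rw [show chevE6.commWord K r s t u = [(p, (m : K) * (-t) * u)] by
      rw [ChevalleyDatum.commWord, h3]; simp,
    show wordG chevE6 K [(p, (m : K) * (-t) * u)] = xg chevE6 K p ((m : K) * (-t) * u) by simp [wordG]] at e
  simpa only [xg_eq_xe E6.good] using e

/-- Conjugation by a root element. -/
theorem X_conj {r s p : ℕ} {m : ℤ} (h : oneB r s p m = true) (t u : K) :
    X r t * X s u * (X r t)⁻¹ = X s u * X p ((m : K) * t * u) := by
  have h1 := X_swap h (-t) u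
  have hr : r < 72 := by
    simp only [oneB, Bool.and_eq_true, decide_eq_true_eq] at h
    exact h.1.1.1.1
  rw [neg_neg] at h1
  rw [X_inv hr, mul_assoc, h1, ← mul_assoc, ← mul_assoc, X_add hr, add_neg_cancel, X_zero hr, one_mul]

theorem sign_cast_sq {m : ℤ} (h : m * m = 1) : (m : K) * (m : K) = 1 := by
  rw [← Int.cast_mul, h, Int.cast_one]

/-- The measure of the recursion over the roots. -/
def depth (r : ℕ) : ℕ := if 36 ≤ r then r else 71 - r

/-- A step of the recursion. -/
def stepB (r a b : ℕ) : Bool :=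
  match chevE6.commTerms a b, chevE6.commTerms (bar a) (bar b) with
  | [c], [c'] => decide (depth a < depth r) && decide (depth b < depth r) && decide (a < 72) && decide (b < 72) &&
      oneB a b r c.2.1 && oneB (bar a) (bar b) (bar r) c'.2.1 &&
      decide (c'.2.1 * sgn a * sgn b = c.2.1 * sgn r) && decide (c.2.1 * c.2.1 = 1)
  | _, _ => false

/-- The fundamental roots and their negatives. -/
def simples : List ℕ :=
  (List.range 6).map chevE6.simple ++ (List.range 6).map fun i => chevE6.neg (chevE6.simple i)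

theorem sigma_table : ∀ r < 72, r ∈ simples ∨ (simples.any fun a =>
    stepB r a ((chevE6.chainRoot (chevE6.neg a) r 1).getD 0)) = true := by
  decide +kernel

theorem sgn_simple : ∀ i < 6, sgn (chevE6.simple i) = 1 ∧ sgn (chevE6.neg (chevE6.simple i)) = 1 := by
  decide +kernel

/-- The automorphism on all root elements. -/
theorem sigma_X {r : ℕ} (hr : r < 72) (t : K) : sigma φ (X r t) = X (bar r) ((sgn r : K) * φ t) := by
  induction h : depth r using Nat.strong_induction_on generalizing r t with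
  | _ n ih =>
    subst h
    rcases sigma_table r hr with hs | ht
    · obtain ⟨i, hi, hor⟩ : ∃ i < 6, r = chevE6.simple i ∨ r = chevE6.neg (chevE6.simple i) := by
        simp only [simples, List.mem_append, List.mem_map, List.mem_range] at hs
        rcases hs with ⟨i, hi, rfl⟩ | ⟨i, hi, rfl⟩
        exacts [⟨i, hi, Or.inl rfl⟩, ⟨i, hi, Or.inr rfl⟩]
      have h1 := sgn_simple i hi
      rw [show sgn r = 1 by rcases hor with rfl | rfl; exacts [h1.1, h1.2], Int.cast_one, one_mul]
      exact GraphTab.aut_xe_simple E6.good orbE6_ok.1 graphE6_cols φ hi hor t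
    obtain ⟨a, -, ht⟩ := List.any_eq_true.1 ht
    generalize (chevE6.chainRoot (chevE6.neg a) r 1).getD 0 = b at ht
    unfold stepB at ht
    split at ht
    swap
    · exact absurd ht Bool.false_ne_true
    rename_i c c' _ _
    simp only [Bool.and_eq_true, decide_eq_true_eq, and_assoc] at ht
    obtain ⟨hda, hdb, ha, hb, h1, h2, hs, hm⟩ := ht
    have hm' := sign_cast_sq (K := K) hm
    have e := congrArg (sigma φ) (X_swap h1 (-((c.2.1 : K) * t)) 1)
    simp only [map_mul, map_neg, ih _ hda ha _ rfl, ih _ hdb hb _ rfl] at e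
    rw [X_swap h2, show (c.2.1 : K) * -(-((c.2.1 : K) * t)) * 1 = t by linear_combination t * hm'] at e
    rw [← mul_left_cancel e]
    congr 1
    have hs' : (c'.2.1 : K) * sgn a * sgn b = (c.2.1 : K) * sgn r := by
      simpa only [Int.cast_mul] using congrArg (fun x : ℤ => (x : K)) hs
    simp only [map_intCast, map_one]
    linear_combination (φ t * (c.2.1 : K)) * hs' + (sgn r : K) * φ t * hm'

theorem bar_lt : ∀ r < 72, bar r < 72 ∧ bar (bar r) = r ∧ sgn r * sgn (bar r) = 1 ∧ (bar r = r → sgn r = 1) ∧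
    (bar r ≠ r → commB r (bar r) = true) := by decide +kernel

theorem mem_GT {r : ℕ} (hr : r < 72) {y : GL chevE6.Idx K}
    (hy : y ∈ (tw2E6 φ).Xorb ((tw2E6 φ).orb ⟨r, hr⟩)) (hfix : sigma φ y = y) : y ∈ GT φ :=
  RootBN.Twist.X'_le_Gt _ ⟨hy, RootBN.Twist.mem_Fix.2 hfix⟩

theorem X_mem_Xorb {r s : ℕ} (hr : r < 72) (hs : s < 72) (h : orbE6.orbF 48 s = orbE6.orbF 48 r) (t : K) :
    X s t ∈ (tw2E6 φ).Xorb ((tw2E6 φ).orb ⟨r, hr⟩) :=
  RootBN.Twist.X_le_Xorb (T := tw2E6 φ) (r := ⟨s, hs⟩) h ((mem_rootSubgroup E6.good hs).2 ⟨t, rfl⟩)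

/-- A root element of a root fixed by the symmetry. -/
theorem X_mem {r : ℕ} (hr : r < 72) (hb : bar r = r) {t : K} (ht : φ t = t) : X r t ∈ GT φ :=
  mem_GT φ hr (X_mem_Xorb φ hr hr rfl t)
    (by rw [sigma_X φ hr, hb, (bar_lt r hr).2.2.2.1 hb, ht, Int.cast_one, one_mul])

/-- The element of an orbit of two roots. -/
noncomputable def Y (r : ℕ) (t : K) : GL chevE6.Idx K := X r t * X (bar r) ((sgn r : K) * φ t)

theorem Y_mem (hinv : ∀ x, φ (φ x) = x) {r : ℕ} (hr : r < 72) (hb : bar r ≠ r) (t : K) : Y φ r t ∈ GT φ := by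
  obtain ⟨hlt, hbb, hsg, -, hc⟩ := bar_lt r hr
  refine mem_GT φ hr (Subgroup.mul_mem _ (X_mem_Xorb φ hr hr rfl t)
    (X_mem_Xorb φ hr hlt ((orbE6_ok.2.1.2 r hr).2.2) _)) ?_
  have hsg' : (sgn r : K) * sgn (bar r) = 1 := by rw [← Int.cast_mul, hsg, Int.cast_one]
  rw [Y, map_mul, sigma_X φ hr, sigma_X φ hlt, hbb, map_mul, map_intCast, hinv,
    show (sgn (bar r) : K) * ((sgn r : K) * t) = t by linear_combination t * hsg']
  exact (X_commute (hc hb) _ _).eq.symm

theorem sigma_eq_of_mem {g : GL chevE6.Idx K} (h : g ∈ GT φ) : sigma φ g = g :=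
  RootBN.Twist.mem_Fix.1 (RootBN.Twist.Gt_le_Fix h)

end Cfsg.Agent.MinDegree.TwoE6
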