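import Cfsg.Agent.Lib.MinDegree.TwoE6.Weights

/-!
The eigenspaces of the centre for nontrivial characters, and the existence of a nontrivial weight on the
fixed space of the centre.
-/

set_option autoImplicit false
set_option linter.unusedSectionVars false
set_option maxRecDepth 4000

namespace Cfsg.Agent.MinDegree.TwoE6

open Cfsg.Lie Cfsg.Agent.Chev Cfsg.Agent.Chev.BNSetup Module

variable {K : Type*} [Field K] [Fintype K] {φ : K ≃+* K} (hinv : ∀ x, φ (φ x) = x) (hmove : ∃ x, φ x ≠ x)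
variable {W : Type*} [AddCommGroup W] [Module ℂ W] [FiniteDimensional ℂ W]
variable (ρ : Representation ℂ ↥(GT φ) W)

include hmove in
theorem heis_dims {q : ℕ} (hk : Nat.card (kfix φ) = q) (hK : Fintype.card K = q ^ 2)
    (hscale : ∀ a, φ a = a → a ≠ 0 → ∃ g M, Norm φ g M a)
    (hker : ρ ⟨X 71 1, z_mem_iff.2 (map_one φ)⟩ ≠ 1)
    (hfuse : ∃ c : V φ, c ≠ 0 ∧ ∃ g : ↥(GT φ), ∃ t : K, ∃ h : φ t = t, t ≠ 0 ∧
      g * Hg hinv c * g⁻¹ = ⟨X 71 t, z_mem_iff.2 h⟩) :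
    (q - 1) * q ^ 10 + finrank ℂ (MZ ρ) ≤ finrank ℂ W ∧
      ∀ ψ : AddChar (kfix φ) ℂ, ψ ≠ 1 → ∃ c : V φ, c ≠ 0 ∧ D hinv ρ ψ c ≠ 0 := by
  classical
  let inst : Fintype (kfix φ) := Fintype.ofFinite _
  let instV : Fintype (V φ) := Fintype.ofFinite _
  have hop := isOp_opz (φ := φ) ρ
  set d : AddChar (kfix φ) ℂ → ℕ := fun ψ => finrank ℂ (eigen (opz ρ) ψ) with hd
  obtain ⟨ψ0, hψ0⟩ : ∃ ψ : AddChar (kfix φ) ℂ, ψ ≠ 1 := by
    have : Nontrivial (AddChar (kfix φ) ℂ) := Fintype.one_lt_card_iff_nontrivial.1 (by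
      rw [AddChar.card_eq]; exact Fintype.one_lt_card)
    exact exists_ne 1
  have hdle : ∀ (ψ : AddChar (kfix φ) ℂ) (a : kfix φ), a ≠ 0 → d ψ ≤ d (AddChar.mulShift ψ a⁻¹) := by
    intro ψ a ha
    obtain ⟨g, M, hg⟩ := hscale a.1 a.2 (fun e => ha (Subtype.ext e))
    have hmap : ∀ x ∈ eigen (opz ρ) ψ, ρ ⟨g, hg.mem⟩ x ∈ eigen (opz ρ) (AddChar.mulShift ψ a⁻¹) := by
      intro x hx
      rw [mem_eigen] at hx ⊢
      intro t
      have e : (⟨X 71 t.1, z_mem_iff.2 t.2⟩ : ↥(GT φ)) * ⟨g, hg.mem⟩ =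
          ⟨g, hg.mem⟩ * ⟨X 71 (a⁻¹ * t : kfix φ).1, z_mem_iff.2 (a⁻¹ * t : kfix φ).2⟩ := Subtype.ext (by
        show X 71 t.1 * g = g * X 71 (a.1⁻¹ * t.1)
        rw [mul_inv_eq_iff_eq_mul.1 (hg.central (a.1⁻¹ * t.1)), ← mul_assoc, mul_inv_cancel₀ hg.ne_zero, one_mul])
      show ρ ⟨X 71 t.1, z_mem_iff.2 t.2⟩ (ρ ⟨g, hg.mem⟩ x) = _
      rw [← Module.End.mul_apply, ← map_mul, e, map_mul, Module.End.mul_apply, AddChar.mulShift_apply,
        ← map_smul]
      exact congrArg _ (hx (a⁻¹ * t))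
    exact LinearMap.finrank_le_finrank_of_injective (f := (ρ ⟨g, hg.mem⟩).restrict hmap)
      fun x y h => Subtype.ext (rho_inj ρ _ (congrArg Subtype.val h))
  have hshift : Function.Bijective fun a : kfix φ => AddChar.mulShift ψ0 a :=
    (Fintype.bijective_iff_injective_and_card _).2
      ⟨AddChar.to_mulShift_inj_of_isPrimitive (AddChar.IsPrimitive.of_ne_one hψ0), AddChar.card_eq.symm⟩
  have hdeq : ∀ ψ, ψ ≠ 1 → d ψ = d ψ0 := by
    intro ψ hψ
    obtain ⟨a, rfl⟩ := hshift.2 ψ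
    have ha : a ≠ 0 := fun h => hψ (by simp only [h, AddChar.mulShift_zero])
    refine le_antisymm ?_ ?_
    · have h := hdle (AddChar.mulShift ψ0 a) a ha
      rwa [AddChar.mulShift_mulShift, mul_inv_cancel₀ ha, AddChar.mulShift_one] at h
    · have h := hdle ψ0 a⁻¹ (inv_ne_zero ha)
      rwa [inv_inv] at h
  have hkq : Fintype.card (kfix φ) = q := by rw [← Nat.card_eq_fintype_card, hk]
  have hsum : d 1 + (q - 1) * d ψ0 = finrank ℂ W := by
    rw [← sum_finrank_eigen hop, ← Finset.add_sum_erase _ _ (Finset.mem_univ (1 : AddChar (kfix φ) ℂ)),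
      Finset.sum_congr rfl fun ψ hψ => hdeq ψ (Finset.ne_of_mem_erase hψ), Finset.sum_const,
      Finset.card_erase_of_mem (Finset.mem_univ _), Finset.card_univ, AddChar.card_eq, smul_eq_mul, hkq]
  have hd0 : d ψ0 ≠ 0 := by
    intro h0
    rw [h0, mul_zero, add_zero] at hsum
    have htop : eigen (opz ρ) (1 : AddChar (kfix φ) ℂ) = ⊤ := Submodule.eq_top_of_finrank_eq hsum
    refine hker (LinearMap.ext fun v => ?_)
    exact (mem_MZ ρ).1 (show v ∈ eigen (opz ρ) (1 : AddChar (kfix φ) ℂ) by rw [htop]; exact Submodule.mem_top) 1 (map_one φ)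
  -- the action of the special subgroup on the eigenspaces
  have hQe : ∀ ψ (c : V φ), ∀ w ∈ eigen (opz ρ) ψ, ρ (Hg hinv c) w ∈ eigen (opz ρ) ψ := by
    intro ψ c w hw
    rw [mem_eigen] at hw ⊢
    intro t
    show ρ ⟨X 71 t.1, z_mem_iff.2 t.2⟩ (ρ (Hg hinv c) w) = _
    rw [← Module.End.mul_apply, ← map_mul, show (⟨X 71 t.1, z_mem_iff.2 t.2⟩ : ↥(GT φ)) * Hg hinv c =
      Hg hinv c * ⟨X 71 t.1, z_mem_iff.2 t.2⟩ from Subtype.ext (z_commute t.1 c.1).eq, map_mul,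
      Module.End.mul_apply, ← map_smul]
    exact congrArg _ (hw t)
  let Re : ∀ ψ : AddChar (kfix φ) ℂ, V φ → Module.End ℂ (eigen (opz ρ) ψ) :=
    fun ψ c => (ρ (Hg hinv c)).restrict (hQe ψ c)
  have hmul : ∀ ψ (a b : V φ), ∃ u : ℂ, u ≠ 0 ∧ Re ψ a * Re ψ b = u • Re ψ (a + b) := by
    intro ψ a b
    obtain ⟨z, hz, e⟩ := Hg_add hinv a b
    refine ⟨ψ ⟨z, hz⟩, (AddChar.val_isUnit ψ _).ne_zero, LinearMap.ext fun w => Subtype.ext ?_⟩
    show ρ (Hg hinv a) (ρ (Hg hinv b) w.1) = ψ ⟨z, hz⟩ • ρ (Hg hinv (a + b)) w.1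
    rw [← Module.End.mul_apply, ← map_mul, e, map_mul, Module.End.mul_apply, ← map_smul]
    exact congrArg _ (mem_eigen.1 w.2 ⟨z, hz⟩)
  have htr0 : ∀ ψ, ψ ≠ 1 → ∀ c : V φ, c ≠ 0 → LinearMap.trace ℂ (eigen (opz ρ) ψ) (Re ψ c) = 0 := by
    intro ψ hψ c hc
    obtain ⟨u, hu⟩ : ∃ u, ψ u ≠ 1 := by
      by_contra h
      push Not at h
      exact hψ (DFunLike.ext _ _ fun u => by rw [h u, AddChar.one_apply])
    obtain ⟨e, he, hce⟩ := exists_omega_ne hinv hmove c.2 (fun h => hc (Subtype.ext h)) (t := u.1) u.2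
    have h1 : Re ψ c * Re ψ ⟨e, he⟩ = ψ u • (Re ψ ⟨e, he⟩ * Re ψ c) := by
      refine LinearMap.ext fun w => Subtype.ext ?_
      show ρ (Hg hinv c) (ρ (Hg hinv ⟨e, he⟩) w.1) = ψ u • ρ (Hg hinv ⟨e, he⟩) (ρ (Hg hinv c) w.1)
      have hc' : Hg hinv c * Hg hinv ⟨e, he⟩ =
          Hg hinv ⟨e, he⟩ * ⟨X 71 u.1, z_mem_iff.2 u.2⟩ * Hg hinv c := Subtype.ext (by
        show H c.1 * H e = H e * X 71 u.1 * H c.1
        rw [← hce, ← H_conj]; group)
      rw [← Module.End.mul_apply, ← map_mul, hc', map_mul, map_mul, Module.End.mul_apply, Module.End.mul_apply,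
        ← map_smul]
      exact congrArg _ (mem_eigen.1 (hQe ψ c w.1 w.2) u)
    obtain ⟨v, hv, hv'⟩ := hmul ψ (-⟨e, he⟩) ⟨e, he⟩
    have hz0 : Re ψ 0 = 1 := LinearMap.ext fun w => Subtype.ext (by
      show ρ (Hg hinv 0) w.1 = w.1
      rw [show Hg hinv (0 : V φ) = 1 from Subtype.ext CQ.el_zero, map_one]
      rfl)
    rw [neg_add_cancel, hz0] at hv'
    have h2 := congrArg (fun f => LinearMap.trace ℂ _ (Re ψ (-⟨e, he⟩) * f)) h1
    simp only [mul_smul_comm, map_smul, smul_eq_mul] at h2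
    rw [← mul_assoc, ← mul_assoc (Re ψ (-⟨e, he⟩)) (Re ψ ⟨e, he⟩) (Re ψ c), hv', smul_mul_assoc, one_mul,
      map_smul, smul_eq_mul, LinearMap.trace_mul_comm, ← mul_assoc] at h2
    obtain ⟨v', hv'', hv3⟩ := hmul ψ ⟨e, he⟩ (-⟨e, he⟩)
    rw [add_neg_cancel, hz0] at hv3
    rw [hv3, smul_mul_assoc, one_mul, map_smul, smul_eq_mul] at h2
    have hvv : v' = v := by
      have : Nontrivial (eigen (opz ρ) ψ) := Module.nontrivial_of_finrank_pos (R := ℂ)
        (Nat.pos_of_ne_zero (show d ψ ≠ 0 by rw [hdeq ψ hψ]; exact hd0))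
      have e1 : Re ψ ⟨e, he⟩ * (Re ψ (-⟨e, he⟩) * Re ψ ⟨e, he⟩) =
          Re ψ ⟨e, he⟩ * Re ψ (-⟨e, he⟩) * Re ψ ⟨e, he⟩ := (mul_assoc _ _ _).symm
      rw [hv', hv3, mul_smul_comm, mul_one, smul_mul_assoc, one_mul] at e1
      have e2 : (v - v') • Re ψ ⟨e, he⟩ = 0 := LinearMap.ext fun w => by
        rw [LinearMap.smul_apply, sub_smul, LinearMap.zero_apply, sub_eq_zero]
        exact congrArg (fun f : Module.End ℂ _ => f w) e1
      refine (sub_eq_zero.1 ((smul_eq_zero.1 e2).resolve_right fun h => ?_)).symm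
      have := congrArg (fun f => Re ψ (-⟨e, he⟩) * f) h
      simp only [mul_zero, hv'] at this
      exact hv ((smul_eq_zero.1 this).resolve_right one_ne_zero)
    subst hvv
    have h3 : v' * (1 - ψ u) * LinearMap.trace ℂ (eigen (opz ρ) ψ) (Re ψ c) = 0 := by linear_combination h2
    exact (mul_eq_zero.1 h3).resolve_left (mul_ne_zero hv'' (sub_ne_zero.2 (Ne.symm hu)))
  have hm : q ^ 10 ≤ d ψ0 := by
    have li : LinearIndependent ℂ (Re ψ0) := by
      rw [Fintype.linearIndependent_iff]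
      intro a ha v
      have h1 := congrArg (fun f => LinearMap.trace ℂ (eigen (opz ρ) ψ0) (Re ψ0 (-v) * f)) ha
      simp only [Finset.mul_sum, mul_smul_comm, map_sum, map_smul, mul_zero, map_zero, smul_eq_mul] at h1
      rw [Finset.sum_eq_single v (fun w _ hw => ?_) (by simp)] at h1
      · obtain ⟨u, hu, e⟩ := hmul ψ0 (-v) v
        rw [e, neg_add_cancel, map_smul, show Re ψ0 0 = 1 from LinearMap.ext fun w => Subtype.ext (by
            show ρ (Hg hinv 0) w.1 = w.1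
            rw [show Hg hinv (0 : V φ) = 1 from Subtype.ext CQ.el_zero, map_one]
            rfl), LinearMap.trace_one, smul_eq_mul] at h1
        exact (mul_eq_zero.1 h1).resolve_right (mul_ne_zero hu (Nat.cast_ne_zero.2 hd0))
      · obtain ⟨u, -, e⟩ := hmul ψ0 (-v) w
        rw [e, map_smul, htr0 ψ0 hψ0 _ (fun h => hw (neg_add_eq_zero.1 h).symm), smul_zero, mul_zero]
    have h := li.fintype_card_le_finrank
    rw [Module.finrank_linearMap, ← Nat.card_eq_fintype_card] at h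
    have hV : Nat.card (V φ) = (q ^ 10) ^ 2 := by
      refine Nat.pow_left_injective (n := 2) (by norm_num) ?_
      show Nat.card (V φ) ^ 2 = ((q ^ 10) ^ 2) ^ 2
      rw [card_V hinv hmove, hK, ← pow_mul, ← pow_mul, ← pow_mul]
    rw [hV] at h
    by_contra hlt
    push Not at hlt
    exact absurd h (not_le.2 (by nlinarith))
  refine ⟨?_, fun ψc hψc => ?_⟩
  · have := Nat.mul_le_mul_left (q - 1) hm
    show (q - 1) * q ^ 10 + d 1 ≤ _
    omega
  -- a nontrivial weight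
  obtain ⟨c0, hc0, g0, t0, ht0, htne, hg0⟩ := hfuse
  by_contra hall
  push Not at hall
  have htr : LinearMap.trace ℂ W (ρ (Hg hinv c0)) = (d 1 : ℂ) := by
    rw [trace_eq_sum hop, Finset.sum_eq_single (1 : AddChar (kfix φ) ℂ) (fun ψ _ hψ => by
      rw [trace_restrict_eigen hop _ _ (hQe ψ c0)]; exact htr0 ψ hψ c0 hc0) (by simp),
      trace_restrict_eigen hop _ _ (hQe 1 c0)]
    have hone : opV hinv ρ c0 = 1 := by
      have hfull : eigen (opV hinv ρ) (chi hinv ψc 0) = ⊤ := by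
        refine Submodule.eq_top_of_finrank_eq ?_
        have := sum_D hinv hmove ρ hψc
        rwa [Finset.sum_eq_single (0 : V φ) (fun c _ hc => hall c hc) (by simp)] at this
      refine LinearMap.ext fun w => ?_
      rw [mem_eigen.1 (show w ∈ eigen (opV hinv ρ) (chi hinv ψc 0) from hfull ▸ Submodule.mem_top) c0,
        chi_apply, show omk hinv 0 c0 = 0 from Subtype.ext (by simp [omk, omega]), AddChar.map_zero_eq_one,
        one_smul]
      rfl
    show LinearMap.trace ℂ (MZ ρ) (opV hinv ρ c0) = _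
    rw [hone, LinearMap.trace_one]
  have htz : LinearMap.trace ℂ W (opz ρ ⟨t0, ht0⟩) = (d 1 : ℂ) - d ψ0 := by
    rw [trace_eq_sum hop, Finset.sum_congr rfl fun ψ _ =>
      trace_of_scalar hop (opz ρ ⟨t0, ht0⟩) ψ (ψ ⟨t0, ht0⟩) fun x hx => mem_eigen.1 hx _]
    rw [← Finset.add_sum_erase _ _ (Finset.mem_univ (1 : AddChar (kfix φ) ℂ)), AddChar.one_apply, one_mul,
      Finset.sum_congr rfl fun ψ hψ => by
        rw [show finrank ℂ (eigen (opz ρ) ψ) = d ψ0 from hdeq ψ (Finset.ne_of_mem_erase hψ)],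
      ← Finset.sum_mul]
    have h1 := Finset.add_sum_erase Finset.univ (fun ψ : AddChar (kfix φ) ℂ => ψ ⟨t0, ht0⟩) (Finset.mem_univ 1)
    rw [AddChar.sum_apply_eq_ite, if_neg (fun h => htne (congrArg Subtype.val h))] at h1
    rw [show ∑ ψ ∈ Finset.univ.erase (1 : AddChar (kfix φ) ℂ), ψ ⟨t0, ht0⟩ = -1 from
      eq_neg_of_add_eq_zero_right (by simpa using h1)]
    ring
  have hconj : LinearMap.trace ℂ W (ρ (Hg hinv c0)) = LinearMap.trace ℂ W (opz ρ ⟨t0, ht0⟩) := by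
    show _ = LinearMap.trace ℂ W (ρ ⟨X 71 t0, z_mem_iff.2 ht0⟩)
    rw [← hg0, map_mul ρ, LinearMap.trace_mul_comm, ← map_mul ρ, inv_mul_cancel_left]
  rw [htz, htr] at hconj
  exact hd0 (by exact_mod_cast sub_eq_self.1 hconj.symm)

end Cfsg.Agent.MinDegree.TwoE6
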