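import Cfsg.Agent.Lib.MinDegree.TwoE6.Rational
import Cfsg.Agent.Lib.Chev.TwistTorusE6

/-!
The root, Weyl and torus elements of the Levi complement in the twisted group with their maps on coordinates.
-/

set_option autoImplicit false
set_option linter.unusedSectionVars false
set_option maxRecDepth 4000

namespace Cfsg.Agent.MinDegree.TwoE6

open Cfsg.Lie Cfsg.Agent.Chev Cfsg.Agent.Chev.BNSetup

variable {K : Type*} [Field K] (φ : K ≃+* K)

/-- The parameters of the root group of the orbit of a root. -/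
def Param (r : ℕ) : Type _ := {a : K // bar r = r → φ a = a}

/-- The element of the orbit of a root. -/
noncomputable def el (r : ℕ) (a : K) : GL chevE6.Idx K := if bar r = r then X r a else Y φ r a

/-- The map of the element of the orbit of a root. -/
def elMap (r : ℕ) (a : K) : (Fin 20 → K) →+ (Fin 20 → K) :=
  if bar r = r then op r a else (op r a).comp (op (bar r) ((sgn r : K) * φ a))

theorem bar_levi : ∀ r ∈ leviRoots, bar r ∈ leviRoots := by decide +kernel

variable {φ}

theorem el_mem (hinv : ∀ x, φ (φ x) = x) {r : ℕ} (hr : r < 72) (a : Param φ r) : el φ r a.1 ∈ GT φ := by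
  by_cases hb : bar r = r
  · rw [el, if_pos hb]; exact X_mem φ hr hb (a.2 hb)
  · rw [el, if_neg hb]; exact Y_mem φ hinv hr hb a.1

theorem norm_el (hinv : ∀ x, φ (φ x) = x) {r : ℕ} (hr : r ∈ leviRoots) (a : Param φ r) :
    Norm φ (el φ r a.1) (elMap φ r a.1) 1 := by
  obtain ⟨hlt, h71, -⟩ := ntab_table r hr
  refine ⟨el_mem hinv hlt a, ?_, fun z => ?_, map_one φ, one_ne_zero⟩
  · by_cases hb : bar r = r
    · rw [el, elMap, if_pos hb, if_pos hb]; exact acts_X hr a.1
    · rw [el, elMap, if_neg hb, if_neg hb]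
      exact (acts_X hr a.1).mul CQ (acts_X (bar_levi r hr) _)
  · have c : ∀ s ∈ leviRoots, ∀ b : K, Commute (X s b) (X 71 z) := fun s hs b =>
      X_commute (ntab_table s hs).2.1 b z
    have h : Commute (el φ r a.1) (X 71 z) := by
      by_cases hb : bar r = r
      · rw [el, if_pos hb]; exact c r hr _
      · rw [el, if_neg hb]; exact (c r hr _).mul_left (c _ (bar_levi r hr) _)
    rw [h.eq, mul_inv_cancel_right, one_mul]

/-- A parameter given by an element of the fixed field. -/
def Param.ofFixed (r : ℕ) {a : K} (ha : φ a = a) : Param φ r := ⟨a, fun _ => ha⟩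

theorem elMap_zero {r : ℕ} (c : Fin 20 → K) : elMap φ r 0 c = c := by
  have h : ∀ (s : ℕ) (d : Fin 20 → K), op s (0 : K) d = d := fun s d => funext fun j => by
    rw [op_apply]; rcases ntab s j with _ | ⟨i, m⟩ <;> simp
  by_cases hb : bar r = r
  · rw [elMap, if_pos hb, h]
  · rw [elMap, if_neg hb, AddMonoidHom.comp_apply, map_zero, mul_zero, h, h]

theorem el_zero {r : ℕ} (hr : r < 72) : el φ r 0 = 1 := by
  by_cases hb : bar r = r
  · rw [el, if_pos hb, X_zero hr]
  · rw [el, if_neg hb, Y, map_zero, mul_zero, X_zero hr, X_zero (bar_lt r hr).1, one_mul]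

/-- The permutation of the coordinates by the fundamental reflection at the central node. -/
def p4 : Fin 20 → Fin 20 :=
  ![1, 0, 2, 3, 4, 5, 10, 11, 12, 15, 6, 7, 8, 13, 14, 9, 16, 17, 19, 18]

/-- The permutation of the coordinates by the middle orbit of reflections. -/
def p35 : Fin 20 → Fin 20 :=
  ![0, 6, 3, 2, 7, 8, 1, 4, 5, 9, 10, 13, 14, 11, 12, 18, 17, 16, 15, 19]

/-- The permutation of the coordinates by the outer orbit of reflections. -/
def p16 : Fin 20 → Fin 20 :=
  ![0, 1, 4, 5, 2, 3, 9, 8, 7, 6, 15, 12, 11, 16, 17, 10, 13, 14, 18, 19]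

/-- The permutation of the coordinates at the node `0`. -/
def q0 : Fin 20 → Fin 20 :=
  ![0, 1, 2, 5, 4, 3, 8, 9, 6, 7, 12, 15, 10, 16, 14, 11, 13, 17, 18, 19]

/-- The permutation of the coordinates at the node `2`. -/
def q2 : Fin 20 → Fin 20 :=
  ![0, 3, 6, 1, 7, 5, 2, 4, 8, 9, 10, 11, 14, 13, 12, 17, 18, 15, 16, 19]

/-- The permutation of the coordinates at the node `4`. -/
def q4 : Fin 20 → Fin 20 :=
  ![0, 2, 1, 6, 4, 8, 3, 7, 5, 9, 10, 13, 12, 11, 14, 16, 15, 18, 17, 19]

/-- The permutation of the coordinates at the node `5`. -/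
def q5 : Fin 20 → Fin 20 :=
  ![0, 1, 4, 3, 2, 5, 7, 6, 9, 8, 11, 10, 15, 13, 17, 12, 16, 14, 18, 19]

variable (φ)

/-- A signed permutation of the coordinates given by an element of the group centralising the centre. -/
def IsWeyl (σ : Fin 20 → Fin 20) : Prop :=
  ∃ (g : GL chevE6.Idx K) (e : Fin 20 → K), (∀ j, e j * e j = 1) ∧ Norm φ g (monMap σ e) 1

variable {φ}

theorem ne'_fix {k : ℕ} (h : commB (chevE6.simple k) 71 = true ∧ commB (chevE6.neg (chevE6.simple k)) 71 = true)
    (z : K) : Commute (ne' E6.good (chevE6.simple k) 1) (X 71 z) :=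
  ((X_commute h.1 1 z).mul_left (X_commute h.2 _ z)).mul_left (X_commute h.1 1 z)

theorem isWeyl_p4 : IsWeyl φ p4 := by
  obtain ⟨e, he, ha⟩ := acts_n (K := K) (k := 3) (by norm_num) (σ := p4) (by decide +kernel) (by decide +kernel)
  refine ⟨_, e, he, ⟨?_, ha, fun z => ?_, map_one φ, one_ne_zero⟩⟩
  · have h := prod_ne'_mem_Gt E6.good orbE6_ok φ facts_chevE6 graphE6_cols negTri_chevE6 1 (a := fun _ => (1 : K))
      fun _ _ => (map_one φ).symm
    rw [show orbE6.Jl 4 1 = [3] from rfl, List.map_singleton, List.prod_singleton] at h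
    exact h
  · rw [(ne'_fix (by decide +kernel) z).eq, mul_inv_cancel_right, one_mul]

theorem isWeyl_pair {i j : ℕ} (hi : i < 6) (hj : j < 6) (jn : Fin 4) (hJ : orbE6.Jl 4 jn = [i, j])
    {σ τ π : Fin 20 → Fin 20} (hσ : ∀ x, chevE6.reflectRoot i (rQ x) = rQ (σ x) ∧ σ (σ x) = x)
    (hτ : ∀ x, chevE6.reflectRoot j (rQ x) = rQ (τ x) ∧ τ (τ x) = x) (hπ : ∀ x, τ (σ x) = π x)
    (h71 : chevE6.reflectRoot i 71 = 71 ∧ chevE6.reflectRoot j 71 = 71)
    (hc : (commB (chevE6.simple i) 71 = true ∧ commB (chevE6.neg (chevE6.simple i)) 71 = true) ∧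
      (commB (chevE6.simple j) 71 = true ∧ commB (chevE6.neg (chevE6.simple j)) 71 = true)) :
    IsWeyl φ π := by
  obtain ⟨e, he, ha⟩ := acts_n (K := K) hi hσ h71.1
  obtain ⟨e', he', ha'⟩ := acts_n (K := K) hj hτ h71.2
  refine ⟨ne' E6.good (chevE6.simple i) 1 * ne' E6.good (chevE6.simple j) 1, fun x => e x * e' (σ x), fun x => by rw [mul_mul_mul_comm, he, he', one_mul],
    ⟨?_, ?_, fun z => ?_, map_one φ, one_ne_zero⟩⟩
  rotate_left
  · have h := ha.mul CQ ha'
    have e0 : (monMap σ e).comp (monMap τ e') = monMap π fun x => e x * e' (σ x) :=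
      AddMonoidHom.ext fun c => funext fun x => by
        show e x * (e' (σ x) * c (τ (σ x))) = e x * e' (σ x) * c (π x)
        rw [hπ, mul_assoc]
    rwa [e0] at h
  · rw [((ne'_fix hc.1 z).mul_left (ne'_fix hc.2 z)).eq, mul_inv_cancel_right, one_mul]
  · have h := prod_ne'_mem_Gt E6.good orbE6_ok φ facts_chevE6 graphE6_cols negTri_chevE6 jn (a := fun _ => (1 : K))
      fun _ _ => (map_one φ).symm
    rw [hJ] at h
    simp only [List.map_cons, List.map_nil, List.prod_cons, List.prod_nil, mul_one] at h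
    exact h

theorem isWeyl_p35 : IsWeyl φ p35 :=
  isWeyl_pair (i := 2) (j := 4) (by norm_num) (by norm_num) 2 rfl (σ := q2) (τ := q4) (by decide +kernel)
    (by decide +kernel) (by decide +kernel) (by decide +kernel) (by decide +kernel)

theorem isWeyl_p16 : IsWeyl φ p16 :=
  isWeyl_pair (i := 0) (j := 5) (by norm_num) (by norm_num) 3 rfl (σ := q0) (τ := q5) (by decide +kernel)
    (by decide +kernel) (by decide +kernel) (by decide +kernel) (by decide +kernel)

theorem he_mem (j : Fin 4) {k : ℕ} (hj : orbE6.Jl 4 j = [k]) {a : K} (ha : φ a = a) :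
    he E6.good (chevE6.simple k) a ∈ GT φ := by
  have h := prod_he_mem_Gt E6.good orbE6_ok φ facts_chevE6 graphE6_cols negTri_chevE6 j (a := fun _ => a)
    fun _ _ => ha.symm
  rw [hj, List.map_singleton, List.prod_singleton] at h
  exact h

/-- The torus element at a node fixed by the symmetry. -/
theorem norm_he (j : Fin 4) {k : ℕ} (hk : k < 6) (hj : orbE6.Jl 4 j = [k]) {a : K} (ha : φ a = a) (h0 : a ≠ 0) :
    Norm φ (he E6.good (chevE6.simple k) a) (diagMap fun i => a ^ chevE6.cartan k (rQ i))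
      (a ^ chevE6.cartan k 71) :=
  ⟨he_mem j hj ha, acts_he hk h0, fun z => he_conj hk (by norm_num) h0 z, by rw [map_zpow₀, ha],
    zpow_ne_zero _ h0⟩

theorem norm_he46 {a : K} (ha : φ a = a) (h0 : a ≠ 0) :
    Norm φ (he E6.good 46 a) (diagMap fun i => a ^ chevE6.cartan 1 (rQ i)) a := by
  have h := norm_he (0 : Fin 4) (k := 1) (by norm_num) rfl ha h0
  rwa [show chevE6.simple 1 = 46 by decide +kernel, show chevE6.cartan 1 71 = 1 by decide +kernel, zpow_one] at h

theorem norm_he39 {a : K} (ha : φ a = a) (h0 : a ≠ 0) :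
    Norm φ (he E6.good 39 a) (diagMap fun i => a ^ chevE6.cartan 3 (rQ i)) 1 := by
  have h := norm_he (1 : Fin 4) (k := 3) (by norm_num) rfl ha h0
  rwa [show chevE6.simple 3 = 39 by decide +kernel, show chevE6.cartan 3 71 = 0 by decide +kernel, zpow_zero] at h

theorem diagMap_apply (w : Fin 20 → K) (c : Fin 20 → K) (i : Fin 20) : diagMap w c i = w i * c i := rfl

theorem monMap_apply (σ : Fin 20 → Fin 20) (e : Fin 20 → K) (c : Fin 20 → K) (i : Fin 20) :
    monMap σ e c i = e i * c (σ i) := rfl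

end Cfsg.Agent.MinDegree.TwoE6
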