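import Cfsg.Agent.Lib.MinDegree.TwoE6.Radical

/-!
A weight vector of multiplicity one for a coordinate at the top is fixed by the positive roots of the Levi
complement, these being commutators in its stabiliser.
-/

set_option autoImplicit false
set_option linter.unusedSectionVars false
set_option maxRecDepth 4000

namespace Cfsg.Agent.MinDegree.TwoE6

open Cfsg.Lie Cfsg.Agent.Chev Cfsg.Agent.Chev.BNSetup Module

/-- The roots of the Levi complement fixing the top coordinate. -/
def stabB (r : ℕ) : Bool :=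
  leviRoots.contains r && (List.finRange 20).all fun i => !((ntab r i).map Prod.fst == some 19)

/-- The coefficient of a single commutator term. -/
def mterm (r s : ℕ) : ℤ :=
  match chevE6.commTerms r s with
  | [(_, m, _, _)] => m
  | _ => 0

/-- The checks making an orbit of roots a commutator of two orbits in the stabiliser. -/
def pairB (r s p : ℕ) : Bool :=
  stabB r && stabB (bar r) && stabB s && stabB (bar s) && decide (bar r ≠ r) && decide (bar s ≠ s) &&
    commB r (bar s) && commB (bar r) s && oneB r s p (mterm r s) &&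
    oneB (bar r) (bar s) (bar p) (mterm (bar r) (bar s)) && commB r (bar p) && commB p (bar s) &&
    decide (mterm (bar r) (bar s) * sgn r * sgn s = mterm r s * sgn p) &&
    decide (mterm r s * mterm r s = 1) && leviRoots.contains p

/-- The positive roots of the Levi complement as commutators. -/
def commList : List (ℕ × ℕ × ℕ) :=
  [(36, 34, 38), (37, 35, 38), (38, 36, 37), (39, 14, 58), (40, 14, 59), (41, 29, 45), (42, 15, 57),
    (43, 15, 58), (44, 15, 59), (45, 38, 43), (56, 29, 57), (57, 42, 56), (58, 34, 59), (59, 37, 58),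
    (60, 36, 59)]

theorem commList_ok : ∀ e ∈ commList, pairB e.2.1 e.2.2 e.1 = true := by decide +kernel

/-- The positive roots of the Levi complement. -/
def posLevi : List ℕ := [36, 37, 38, 39, 40, 41, 42, 43, 44, 45, 56, 57, 58, 59, 60]

theorem posLevi_comm : ∀ p ∈ posLevi, p ∈ commList.map Prod.fst := by decide +kernel

/-- Two roots of an orbit are told apart on the coordinates. -/
def sepB (r : ℕ) : Bool :=
  (List.finRange 20).any fun i => (List.finRange 20).any fun j =>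
    ((ntab r j).map Prod.fst == some i) && !((ntab (bar r) j).map Prod.fst == some i)

theorem levi_sep : ∀ r ∈ leviRoots, bar r = r ∨ sepB r = true := by decide +kernel

variable {K : Type*} [Field K] {φ : K ≃+* K}

theorem X_eq_bar {r : ℕ} (hr : r ∈ leviRoots) (hb : bar r ≠ r) {x y : K} (h : X r x = X (bar r) y) : x = 0 := by
  have hs := (levi_sep r hr).resolve_left hb
  simp only [sepB, List.any_eq_true, Bool.and_eq_true, beq_iff_eq, Bool.not_eq_true', beq_eq_false_iff_ne] at hs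
  obtain ⟨i, -, j, -, h1, h2⟩ := hs
  obtain ⟨⟨i', m⟩, hm, rfl⟩ := Option.map_eq_some_iff.1 h1
  have ha := (acts_X hr x).cls CQ (CQ.cls_x i' 1)
  rw [h] at ha
  have e := congrFun (cls_unique ha ((acts_X (bar_levi r hr) y).cls CQ (CQ.cls_x i' 1))) j
  rw [op_single_of, op_single_of, hm, add_right_inj] at e
  simp only [if_true, mul_one] at e
  have e2 : (m : K) * x = 0 := by
    rw [e]
    rcases hn : ntab (bar r) j with _ | ⟨i'', m'⟩
    · rfl
    · rw [hn] at h2
      exact if_neg fun e' => h2 (by rw [e']; rfl)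
  exact (mul_eq_zero.1 e2).resolve_left (coefAt_ne' hr hm)
where
  coefAt_ne' {r : ℕ} (hr : r ∈ leviRoots) {i j : Fin 20} {m : ℤ} (h : ntab r j = some (i, m)) : (m : K) ≠ 0 := by
    have h' : ∀ r ∈ leviRoots, ∀ j, (match ntab r j with | some (_, m) => m * m | none => 1) = 1 := by
      decide +kernel
    have := h' r hr j
    rw [h] at this
    exact left_ne_zero_of_mul_eq_one (sign_cast_sq this)

theorem el_of_mem (hinv : ∀ x, φ (φ x) = x) {r : ℕ} (hr : r ∈ leviRoots) {g : ↥(GT φ)} (hg : InOrb r g) :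
    ∃ a : Param φ r, (g : GL chevE6.Idx K) = el φ r a.1 := by
  obtain ⟨a, b, e⟩ := hg
  have hlt := (ntab_table r hr).1
  obtain ⟨hblt, hbb, hsg, h1, hc⟩ := bar_lt r hlt
  by_cases hb : bar r = r
  · rw [hb, X_add hlt] at e
    have hm := sigma_eq_of_mem φ g.2
    rw [e, sigma_X φ hlt, hb, h1 hb, Int.cast_one, one_mul] at hm
    exact ⟨⟨a + b, fun _ => X_inj hlt hm⟩, by rw [e, el, if_pos hb]⟩
  refine ⟨⟨a, fun h => absurd h hb⟩, ?_⟩
  rw [el, if_neg hb, e, Y]
  congr 1
  set d := b - (sgn r : K) * φ a with hd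
  have hmem : X (bar r) d ∈ GT φ := by
    have h := Subgroup.mul_mem _ (Subgroup.inv_mem _ (Y_mem φ hinv hlt hb a)) g.2
    rw [e, Y, mul_inv_rev, X_inv hblt, mul_assoc, inv_mul_cancel_left, X_add hblt, neg_add_eq_sub] at h
    exact h
  have hfix := sigma_eq_of_mem φ hmem
  rw [sigma_X φ hblt, hbb] at hfix
  have h0 := X_eq_bar hr hb hfix
  have hs : (sgn (bar r) : K) ≠ 0 := by
    refine right_ne_zero_of_mul_eq_one (a := (sgn r : K)) ?_
    rw [← Int.cast_mul, hsg, Int.cast_one]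
  rw [sub_eq_zero.1 ((map_eq_zero φ).1 ((mul_eq_zero.1 h0).resolve_left hs))]

/-- The commutator of the elements of two orbits. -/
theorem el_comm (hinv : ∀ x, φ (φ x) = x) {r s p : ℕ} (h : pairB r s p = true) (a b : K) :
    el φ r a * el φ s b * (el φ r a)⁻¹ = el φ s b *
      (X p ((mterm r s : K) * a * b) * X (bar p) ((mterm r s : K) * sgn p * φ (a * b))) := by
  have _ := hinv
  simp only [pairB, Bool.and_eq_true, decide_eq_true_eq] at h
  obtain ⟨⟨⟨⟨⟨⟨⟨⟨⟨⟨⟨⟨⟨⟨hsr, hsr'⟩, hss⟩, hss'⟩, hbr⟩, hbs⟩, c1⟩, c2⟩, o1⟩, o2⟩, c3⟩, c4⟩, hm⟩, -⟩, -⟩ := h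
  have hlr : r < 72 := by
    simp only [stabB, Bool.and_eq_true, List.contains_iff_mem] at hsr
    exact (ntab_table r hsr.1).1
  rw [el, el, if_neg hbr, if_neg hbs, Y, Y]
  set a' := (sgn r : K) * φ a with ha
  set b' := (sgn s : K) * φ b with hb
  have e2 : (mterm (bar r) (bar s) : K) * a' * b' = (mterm r s : K) * sgn p * φ (a * b) := by
    have hm' : (mterm (bar r) (bar s) : K) * sgn r * sgn s = (mterm r s : K) * sgn p := by
      simpa only [Int.cast_mul] using congrArg (fun x : ℤ => (x : K)) hm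
    rw [map_mul, ha, hb]
    linear_combination φ a * φ b * hm'
  calc X r a * X (bar r) a' * (X s b * X (bar s) b') * (X r a * X (bar r) a')⁻¹
      = X r a * (X (bar r) a' * X s b * (X (bar r) a')⁻¹) * (X (bar r) a' * X (bar s) b' * (X (bar r) a')⁻¹) *
          (X r a)⁻¹ := by group
    _ = X r a * (X s b * (X (bar s) b' * X (bar p) ((mterm r s : K) * sgn p * φ (a * b)))) * (X r a)⁻¹ := by
        rw [(X_commute c2 a' b).eq, mul_inv_cancel_right, X_conj o2, e2]
        simp only [mul_assoc]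
    _ = X r a * X s b * (X r a)⁻¹ * (X r a * X (bar s) b' * (X r a)⁻¹) *
          (X r a * X (bar p) ((mterm r s : K) * sgn p * φ (a * b)) * (X r a)⁻¹) := by group
    _ = X s b * X p ((mterm r s : K) * a * b) * X (bar s) b' *
          X (bar p) ((mterm r s : K) * sgn p * φ (a * b)) := by
        rw [X_conj o1, (X_commute c1 a b').eq, mul_inv_cancel_right, (X_commute c3 a _).eq, mul_inv_cancel_right]
    _ = _ := by rw [mul_assoc (X s b), (X_commute c4 _ b').eq]; simp only [mul_assoc]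

theorem stab_single {r : ℕ} (h : stabB r = true) (a b : K) :
    op r a (Pi.single 19 b) = (Pi.single 19 b : Fin 20 → K) := funext fun j => by
  simp only [stabB, Bool.and_eq_true, List.all_eq_true, Bool.not_eq_true', beq_eq_false_iff_ne] at h
  have h' := h.2 j (List.mem_finRange j)
  rw [op_single_of]
  rcases hn : ntab r j with _ | ⟨i, m⟩
  · simp
  · rw [hn] at h'
    have hi : i ≠ 19 := fun e => h' (by rw [e]; rfl)
    simp [hi]

variable [Fintype K] {W : Type*} [AddCommGroup W] [Module ℂ W] [FiniteDimensional ℂ W]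
variable (ρ : Representation ℂ ↥(GT φ) W)

theorem F_posLevi (hinv : ∀ x, φ (φ x) = x) (hmove : ∃ x, φ x ≠ x) {ψ : AddChar (kfix φ) ℂ} {c : V φ} {a : K}
    (hc : c.1 = Pi.single 19 a) (hD : D hinv ρ ψ c = 1) {u : MZ ρ}
    (hu : u ∈ eigen (opV hinv ρ) (chi hinv ψ c)) (hu0 : u ≠ 0) {p : ℕ} (hp : p ∈ posLevi) : F ρ u.1 p := by
  obtain ⟨⟨p', r, s⟩, he, rfl⟩ := List.mem_map.1 (posLevi_comm p hp)
  have hok := commList_ok _ he
  dsimp only at hok ⊢
  have hok' := hok
  simp only [pairB, Bool.and_eq_true, decide_eq_true_eq, List.contains_iff_mem] at hok'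
  obtain ⟨⟨⟨⟨⟨⟨⟨⟨⟨⟨⟨⟨⟨⟨hsr, hsr'⟩, hss⟩, hss'⟩, hbr⟩, hbs⟩, -⟩, -⟩, -⟩, -⟩, -⟩, -⟩, -⟩, hm⟩, hpl⟩ := hok'
  have hml : ∀ {x : ℕ}, stabB x = true → x ∈ leviRoots := fun h => by
    simp only [stabB, Bool.and_eq_true, List.contains_iff_mem] at h
    exact h.1
  have scal : ∀ (x : ℕ) (hx : stabB x = true) (_ : stabB (bar x) = true) (t : Param φ x),
      ∃ θ : ℂ, θ ≠ 0 ∧ ρ ⟨el φ x t.1, el_mem hinv (ntab_table x (hml hx)).1 t⟩ u.1 = θ • u.1 := by
    intro x hx hx' t
    have hN := norm_el hinv (hml hx) t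
    have hMc : elMap φ x t.1 c.1 = (1 : K) • c.1 := by
      rw [one_smul, hc, elMap]
      split_ifs with hb
      · exact stab_single hx _ _
      · rw [AddMonoidHom.comp_apply, stab_single hx' _ _, stab_single hx _ _]
    have hmem := map_weight hinv hmove ρ hN hMc hu
    obtain ⟨θ, hθ⟩ := (finrank_eq_one_iff_of_nonzero' (⟨u, hu⟩ : eigen (opV hinv ρ) (chi hinv ψ c))
      (fun e => hu0 (congrArg Subtype.val e))).1 hD ⟨_, hmem⟩
    have hθ' : θ • u.1 = ρ ⟨el φ x t.1, hN.mem⟩ u.1 := congrArg (fun w => w.1.1) hθ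
    refine ⟨θ, fun h0 => hu0 (Subtype.ext (rho_inj ρ ⟨el φ x t.1, hN.mem⟩ ?_)), hθ'.symm⟩
    rw [← hθ', h0, zero_smul, Submodule.coe_zero, map_zero]
  have hcomm : ∀ (x : K) (g : ↥(GT φ)), (g : GL chevE6.Idx K) =
      X p' ((mterm r s : K) * x) * X (bar p') ((mterm r s : K) * sgn p' * φ x) → ρ g u.1 = u.1 := by
    intro x g hg
    obtain ⟨θ, hθ0, hθ⟩ := scal r hsr hsr' ⟨x, fun h => absurd h hbr⟩
    obtain ⟨η, hη0, hη⟩ := scal s hss hss' ⟨1, fun h => absurd h hbs⟩
    set gr : ↥(GT φ) := ⟨el φ r x, el_mem hinv (ntab_table r (hml hsr)).1 (⟨x, fun h => absurd h hbr⟩ : Param φ r)⟩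
    set gs : ↥(GT φ) := ⟨el φ s 1, el_mem hinv (ntab_table s (hml hss)).1 (⟨1, fun h => absurd h hbs⟩ : Param φ s)⟩
    have e : gr * gs = gs * g * gr := Subtype.ext (by
      have h := el_comm hinv hok x 1
      rw [mul_one, mul_one, ← hg, mul_inv_eq_iff_eq_mul] at h
      exact h)
    have h := congrArg (fun y => ρ y u.1) e
    simp only [rho_mul] at h
    rw [hη, map_smul, hθ, map_smul, map_smul, smul_smul] at h
    have h2 : θ • ρ gs (ρ g u.1) = θ • ρ gs u.1 := by rw [← h, hη, smul_smul, mul_comm]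
    exact rho_inj ρ gs (smul_right_injective W hθ0 h2)
  intro g hg
  obtain ⟨t, hgt⟩ := el_of_mem hinv hpl hg
  have hm' : (mterm r s : K) * (mterm r s : K) = 1 := sign_cast_sq hm
  have hlt := (ntab_table p' hpl).1
  by_cases hb : bar p' = p'
  · obtain ⟨x0, hx0⟩ : ∃ x, x + φ x ≠ 0 := by
      by_contra hall
      push Not at hall
      obtain ⟨y, hy⟩ := hmove
      refine hy ?_
      have h2 := hall y
      have h1 := hall 1
      rw [map_one] at h1
      linear_combination h2 - y * h1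
    obtain ⟨tv, ht, hgt'⟩ : ∃ tv, φ tv = tv ∧ (g : GL chevE6.Idx K) = X p' tv :=
      ⟨t.1, t.2 hb, by rw [hgt, el, if_pos hb]⟩
    set z := (mterm r s : K) * tv * (x0 + φ x0)⁻¹ * x0 with hz
    refine hcomm z g ?_
    rw [hgt', hb, X_add hlt]
    congr 1
    have hf : φ (x0 + φ x0)⁻¹ = (x0 + φ x0)⁻¹ := by rw [map_inv₀, map_add, hinv, add_comm]
    rw [(bar_lt p' hlt).2.2.2.1 hb, Int.cast_one, mul_one, hz, map_mul, map_mul, map_mul, map_intCast,
      ht, hf, ← mul_add, ← mul_add, mul_assoc _ (x0 + φ x0)⁻¹, inv_mul_cancel₀ hx0, mul_one, ← mul_assoc,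
      hm', one_mul]
  · refine hcomm ((mterm r s : K) * t.1) g ?_
    rw [hgt, el, if_neg hb, Y, ← mul_assoc, hm', one_mul, map_mul, map_intCast]
    congr 2
    linear_combination (-((sgn p' : K) * φ t.1)) * hm'

end Cfsg.Agent.MinDegree.TwoE6
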