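import Cfsg.Agent.Lib.MinDegree.TwoE6.FixedTwo
import Cfsg.Agent.Lib.MinDegree.TwoE6.Stab

/-!
A weight of multiplicity one at the top coordinate gives a nonzero vector fixed by the special subgroup.
-/

set_option autoImplicit false
set_option linter.unusedSectionVars false
set_option maxRecDepth 4000

namespace Cfsg.Agent.MinDegree.TwoE6

open Cfsg.Lie Cfsg.Agent.Chev Cfsg.Agent.Chev.BNSetup Module

/-- The roots fixing the image of the weight vector. -/
def pRoots : List ℕ := ((posLevi ++ qRoots).filter fun r => !([39, 46, 47] : List ℕ).contains r) ++ [25, 24]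

theorem pre_pRoots : ∀ r ∈ pRoots, r < 72 ∧ wJ 1 (wJ 0 r) < 72 ∧ wJ 1 (wJ 0 r) ∈ posLevi ++ qRoots ∧
    wJ 1 (wJ 0 r) ≠ 46 := by decide +kernel

theorem pre_qRoots : (∀ i : Fin 20, i ∈ ([0, 1] : List (Fin 20)) ∨ rQ i ∈ pRoots) ∧ 71 ∈ pRoots ∧ 25 ∈ pRoots ∧
    24 ∈ pRoots ∧ (wJ 1 (wJ 0 71) < 72 ∧ wJ 1 (wJ 0 71) ∈ pRoots) ∧
    ∀ i : Fin 20, i ∈ ([1] : List (Fin 20)) ∨ wJ 1 (wJ 0 (rQ i)) ∈ pRoots := by decide +kernel

theorem fixd_two : (24 < 72 ∧ bar 24 = 24) ∧ commB 24 25 = true ∧ commB 25 39 = true ∧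
    oneB 25 47 39 (mterm 25 47) = true ∧ mterm 25 47 * mterm 25 47 = 1 ∧
    oneB 39 46 47 (mterm 39 46) = true ∧ mterm 39 46 * mterm 39 46 = 1 ∧
    oneB 39 24 25 (mterm 39 24) = true ∧ commB 46 47 = true ∧
    wJ 0 24 = 32 ∧ wJ 0 32 = 24 ∧ wJ 1 32 = 39 ∧ wJ 0 39 = 47 ∧ wJ 0 (wJ 1 46) = 39 ∧
    chevE6.cartan 3 46 = -1 := by decide +kernel

variable {K : Type*} [Field K] [Fintype K] {φ : K ≃+* K}
variable {W : Type*} [AddCommGroup W] [Module ℂ W] [FiniteDimensional ℂ W]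
variable (ρ : Representation ℂ ↥(GT φ) W)

/-- The image under the two Weyl elements. -/
theorem F_two {v : W} {r : ℕ} (hr : r < 72) (h : F ρ v (wJ 1 (wJ 0 r))) :
    F ρ (ρ (nn φ 0) (ρ (nn φ 1) v)) r := by
  obtain ⟨h0, h00, -⟩ := wJ_facts 0 r hr
  obtain ⟨h1, h11, -⟩ := wJ_facts 1 _ h0
  have h' := F_nn ρ h1 1 h
  rw [h11] at h'
  have h'' := F_nn ρ h0 0 h'
  rwa [h00] at h''

theorem A_vanish (hinv : ∀ x, φ (φ x) = x) (hbot : MQ hinv ρ = ⊥) {v : W} (hv : ∀ r ∈ pRoots, F ρ v r) :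
    A ρ 24 (ρ (xF 46 1) v) = 0 := by
  obtain ⟨f46, f25, f39, f32, f47, n46, -⟩ := fixd_list
  obtain ⟨f24, c1, -, -, -, -, -, -, -, w24, w32, w32', w39, -⟩ := fixd_two
  obtain ⟨-, -, h25, -, ⟨h71', h71⟩, hq⟩ := pre_qRoots
  have hm : QF hinv ρ [1] (ρ (nn φ 0) (ρ (nn φ 1) v)) := qf_of_F hinv ρ (F_two ρ (by norm_num) (hv _ h71))
    fun i hi => F_two ρ (rQ_facts i).1 (hv _ ((hq i).resolve_left hi))
  have h := QF.sum hinv ρ (i := 1) (by decide) (by simp) hm
  have h47 : A ρ 47 (ρ (nn φ 0) (ρ (nn φ 1) v)) = 0 :=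
    (Submodule.mem_bot ℂ).1 (hbot ▸ (mem_MQ hinv ρ).2 h)
  have h32 : A ρ 32 v = 0 := by
    rw [← A_map ρ (mono_nn 0) f39 w39 f47, ← A_map ρ (mono_nn 1) f32 w32' f39] at h47
    exact rho_inj ρ _ (rho_inj ρ _ (h47.trans (by rw [map_zero, map_zero])))
  have e : xF 46 (1 : kfix φ) = xF 25 1 * nn φ 0 * xF 25 1 := Subtype.ext (by
    rw [Subgroup.coe_mul, Subgroup.coe_mul, coe_nn_zero, xF_coe f46, xF_coe f25]
    have h' := ne'_conj_self E6.good (show 46 < chevE6.nroots by decide +kernel) (one_ne_zero : (1 : K) ≠ 0) 1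
    rw [n46, one_pow, div_one] at h'
    show X 46 (1 : K) = X 25 1 * _ * X 25 1
    have h'' : X 25 (-1 : K) * X 46 1 * X 25 (-1) = ne' E6.good 46 1 := by
      have e3 : ne' E6.good 46 (1 : K) = X 46 1 * X 25 (-1) * X 46 1 := by rw [ne', n46, inv_one]
      rw [e3, mul_inv_eq_iff_eq_mul] at h'
      have h3 : X 46 (1 : K) * X 25 (-1) * X 46 1 * X 46 1 = X 25 (-1) * X 46 1 * X 25 (-1) * X 46 1 :=
        h'.trans (by simp only [mul_assoc])
      rw [e3, mul_right_cancel h3]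
    rw [← h'']
    simp only [mul_assoc, X_add (show 25 < 72 by norm_num), neg_add_cancel, X_zero (show 25 < 72 by norm_num)]
    rw [← mul_assoc (X 25 (1 : K)), X_add (show 25 < 72 by norm_num), add_neg_cancel,
      X_zero (show 25 < 72 by norm_num), one_mul, mul_one])
  rw [e, rho_mul, rho_mul, (F_iff ρ f25).1 (hv 25 h25),
    A_commute ρ f24 _ (fun a => by rw [xF_coe f25]; exact X_commute c1 a _),
    ← A_map ρ (mono_nn 0) f32 w32 f24, h32, map_zero, map_zero]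

theorem pRoots_tor {v : W} (hv : ∀ r ∈ pRoots, F ρ v r) {a : K} (h : φ a = a) (h0 : a ≠ 0) :
    ∀ r ∈ pRoots, F ρ (ρ (tor φ 1 a)⁻¹ v) r := fun r hr =>
  F_map ρ ((mono_tor 1 h h0).inv fun s hs => ⟨hs, rfl⟩) (pre_pRoots r hr).1 rfl rfl (hv r hr)

theorem MQ_ne_bot (hinv : ∀ x, φ (φ x) = x) (hmove : ∃ x, φ x ≠ x) {q : ℕ} (hk : Nat.card (kfix φ) = q)
    {ψ : AddChar (kfix φ) ℂ} (hψ : ψ ≠ 1) {c : V φ} {a : K} (ha0 : a ≠ 0) (hc : c.1 = Pi.single 19 a)
    (hD : D hinv ρ ψ c = 1) : MQ hinv ρ ≠ ⊥ := by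
  classical
  let _ := Fintype.ofFinite (kfix φ)
  intro hbot
  obtain ⟨f46, f25, f39, -, f47, -⟩ := fixd_list
  obtain ⟨f24, -, c2, o1, m1, o2, m2, o3, c3, -, -, -, -, w39, cart⟩ := fixd_two
  obtain ⟨hq0, h71, h25, h24, -, -⟩ := pre_qRoots
  have hq : (q : ℂ) ≠ 0 := by
    rw [← hk, Nat.card_eq_fintype_card]; exact Nat.cast_ne_zero.2 Fintype.card_ne_zero
  have hpos : 0 < finrank ℂ (eigen (opV hinv ρ) (chi hinv ψ c)) := by
    rw [show finrank ℂ (eigen (opV hinv ρ) (chi hinv ψ c)) = 1 from hD]; exact one_pos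
  obtain ⟨⟨u, hu⟩, hu0⟩ := Module.finrank_pos_iff_exists_ne_zero.1 hpos
  have hu0' : u ≠ 0 := fun e => hu0 (Subtype.ext e)
  have ha : φ a = a := by
    have := piece.fixed_of c.2 (show pi20 19 = 19 by decide +kernel)
    rwa [hc, Pi.single_eq_same] at this
  -- the weight
  have hwt : ∀ d : V φ, ρ (Hg hinv d) u.1 =
      ψ (omk hinv c d) • u.1 := fun d => congrArg Subtype.val (mem_eigen.1 hu d)
  have hom : ∀ d : Fin 20 → K, omega c.1 d = (wcoef 19 0 : K) * a * d 0 := by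
    intro d
    rw [hc, omega, Finset.sum_eq_single 19 (fun i _ hi => Finset.sum_eq_zero fun k _ => by
      rw [Pi.single_eq_of_ne hi, mul_zero, zero_mul]) (by simp), Pi.single_eq_same,
      Finset.sum_eq_single 0 (fun k _ hk' => by
        rw [(show ∀ k : Fin 20, k ≠ 0 → wcoef 19 k = 0 by decide +kernel) k hk', Int.cast_zero, zero_mul,
          zero_mul]) (by simp)]
  have hQF : QF hinv ρ [0] u.1 := ⟨u.2, fun d hd => by
    rw [hwt, show omk hinv c d = 0 from Subtype.ext (by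
      show omega c.1 d.1 = 0
      rw [hom, hd 0 (by simp), mul_zero]), AddChar.map_zero_eq_one, one_smul]⟩
  have hF : ∀ r ∈ posLevi ++ qRoots, r ≠ 46 → F ρ u.1 r := by
    intro r hr hne
    rcases List.mem_append.1 hr with h | h
    · exact F_posLevi ρ hinv hmove hc hD hu hu0' h
    rcases List.mem_cons.1 h with rfl | h
    · exact (mem_MZ_iff_F ρ).1 u.2
    obtain ⟨i, -, rfl⟩ := List.mem_map.1 h
    have hi : i ≠ 0 := fun e => hne (by rw [e]; rfl)
    exact F_of_QF hinv ρ hQF (by simpa using hi) (by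
      simpa using fun e => hi ((show ∀ i, pi20 i = 0 → i = 0 by decide +kernel) i e))
  set u' := ρ (nn φ 0) (ρ (nn φ 1) u.1) with hu'
  have hP : ∀ r ∈ pRoots, F ρ u' r := fun r hr => by
    obtain ⟨h1, -, h3, h4⟩ := pre_pRoots r hr
    exact F_two ρ h1 (hF _ h3 h4)
  obtain ⟨ε, hε0, hε⟩ : ∃ ε : kfix φ, ε ≠ 0 ∧ ∀ t, ρ (xF 39 t) u' = ψ (ε * t) • u' := by
    obtain ⟨e, he0, he⟩ := ((mono_nn (φ := φ) 0).comp (mono_nn 1)).fixed f46
      (show (fun s => wJ 0 (wJ 1 s)) 46 < 72 ∧ _ by rw [w39]; exact f39)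
    have hw : φ ((wcoef 19 0 : K) * a) = (wcoef 19 0 : K) * a := by rw [map_mul, map_intCast, ha]
    have hw0 : (wcoef 19 0 : K) * a ≠ 0 := mul_ne_zero
      (left_ne_zero_of_mul_eq_one (sign_cast_sq (show wcoef 19 0 * wcoef 19 0 = 1 by decide +kernel))) ha0
    refine ⟨⟨_, hw⟩ * e⁻¹, mul_ne_zero (fun h => hw0 (congrArg Subtype.val h)) (inv_ne_zero he0), fun t => ?_⟩
    have h := he (e⁻¹ * t)
    rw [← mul_assoc e, mul_inv_cancel₀ he0, one_mul, mul_inv_eq_iff_eq_mul] at h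
    simp only [w39] at h
    rw [hu', ← rho_mul, ← rho_mul, mul_assoc, ← h, rho_mul]
    have hx : CQ.Cls (xF 46 (e⁻¹ * t) : GL chevE6.Idx K) (Pi.single 0 (e⁻¹ * t).1) := by
      rw [xF_coe f46]
      exact CQ.cls_x 0 _
    rw [rho_of_cls hinv ρ u.2 _ ⟨_, single_mem (by decide) (e⁻¹ * t).2⟩ hx, hwt, map_smul, rho_mul]
    congr 2
    exact Subtype.ext (by
      show omega c.1 _ = _
      rw [hom]
      dsimp only
      rw [Pi.single_eq_same]
      show (wcoef 19 0 : K) * a * ((e⁻¹ : kfix φ).1 * t.1) = (wcoef 19 0 : K) * a * (e⁻¹ : kfix φ).1 * t.1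
      ring)
  have hsum : ∀ b : kfix φ, b ≠ 0 → ∑ t, ψ (b * t) = 0 := by
    intro b hb
    have := AddChar.IsPrimitive.of_ne_one hψ hb
    exact AddChar.sum_eq_zero_of_ne_one (ψ := AddChar.mulShift ψ b) this
  have hv : A ρ 47 (A ρ 46 u') = 0 := by
    have h := (qf_of_F hinv ρ (S := [0, 1]) (hP 71 h71) fun i hi => hP _ ((hq0 i).resolve_left hi))
    have h' := QF.sum hinv ρ (i := 1) (by decide) (by simp)
      (QF.sum hinv ρ (i := 0) (by decide) (by decide) h)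
    exact (Submodule.mem_bot ℂ).1 (hbot ▸ (mem_MQ hinv ρ).2 h')
  have key : ∀ b a' : kfix φ, (b ≠ 0 ∨ a' ≠ 0) →
      A ρ 24 (A ρ 25 (ρ (xF 47 b) (ρ (xF 46 a') u'))) = 0 := by
    intro b a' hne
    have hm1 : (mterm 25 47 : K) * mterm 25 47 = 1 := sign_cast_sq m1
    have hm2 : (mterm 39 46 : K) * mterm 39 46 = 1 := sign_cast_sq m2
    by_cases ha' : a' = 0
    · subst ha'
      have hb := hne.resolve_right (not_not.2 rfl)
      rw [xF_zero f46, map_one, Module.End.one_apply]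
      have hA : A ρ 25 (ρ (xF 47 b) u') = 0 := by
        let β : kfix φ := ε * (((mterm 25 47 : ℤ) : kfix φ) * b)
        have e : ∀ t : kfix φ, ρ (xF 25 t) (ρ (xF 47 b) u') = ψ (β * t) • ρ (xF 47 b) u' := by
          intro t
          have hx : xF 25 t * xF 47 b = xF 47 b * xF 39 (((mterm 25 47 : ℤ) : kfix φ) * t * b) * xF 25 t :=
            Subtype.ext (by
              simp only [Subgroup.coe_mul, xF_coe f25, xF_coe f47, xF_coe f39]
              rw [← mul_inv_eq_iff_eq_mul, X_conj o1]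
              rfl)
          rw [← rho_mul, hx, rho_mul, (F_iff ρ f25).1 (hP 25 h25), rho_mul, hε, map_smul]
          congr 2
          ring
        simp only [A, e, ← Finset.sum_smul]
        rw [hsum β, zero_smul]
        exact mul_ne_zero hε0 (mul_ne_zero (fun h => left_ne_zero_of_mul_eq_one hm1 (by
          simpa using congrArg Subtype.val h)) hb)
      rw [hA, A_zero]
    · set s : kfix φ := b * ((mterm 39 46 : ℤ) : kfix φ) * a'⁻¹ with hs
      have hx : xF 47 b * xF 46 a' = xF 39 s * xF 46 a' * xF 39 (-s) := Subtype.ext (by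
        simp only [Subgroup.coe_mul, xF_coe f47, xF_coe f46, xF_coe f39]
        show _ = X 39 s.1 * X 46 a'.1 * X 39 (-s.1)
        rw [← X_inv f39.1, X_conj o2, (X_commute c3 a'.1 b.1).symm.eq]
        congr 2
        have ha'' : a'.1 ≠ 0 := fun h => ha' (Subtype.ext h)
        show b.1 = (mterm 39 46 : K) * (b.1 * ((mterm 39 46 : ℤ) : kfix φ).1 * a'.1⁻¹) * a'.1
        rw [show (((mterm 39 46 : ℤ) : kfix φ).1 : K) = (mterm 39 46 : K) by simp]
        field_simp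
        linear_combination (-b.1) * hm2)
      rw [← rho_mul, hx, rho_mul, rho_mul, hε, map_smul, map_smul, A_smul, A_smul]
      suffices h : A ρ 24 (A ρ 25 (ρ (xF 39 s) (ρ (xF 46 a') u'))) = 0 by rw [h, smul_zero]
      rw [A_commute ρ f25 _ (fun x => by rw [xF_coe f39]; exact X_commute c2 x _)]
      have hmove39 : ∀ z, F ρ z 25 → A ρ 24 (ρ (xF 39 s) z) = ρ (xF 39 s) (A ρ 24 z) := by
        intro z hz
        simp only [A, map_sum]
        refine Finset.sum_congr rfl fun t _ => ?_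
        have hx' : xF 24 t * xF 39 s = xF 39 s * xF 24 t * xF 25 (((mterm 39 24 : ℤ) : kfix φ) * (-s) * t) :=
          Subtype.ext (by
            simp only [Subgroup.coe_mul, xF_coe f24, xF_coe f25, xF_coe f39]
            have h := X_conj (K := K) o3 (-s.1) t.1
            rw [← X_inv f39.1, inv_inv, mul_assoc, inv_mul_eq_iff_eq_mul, ← mul_assoc (X 39 s.1)] at h
            exact h)
        rw [← rho_mul, hx', rho_mul, (F_iff ρ f25).1 hz, rho_mul]
      rw [hmove39 _ (F_A ρ f25 _)]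
      have h0 : A ρ 24 (ρ (xF 46 a') u') = 0 := by
        have hb' : φ a'.1⁻¹ = a'.1⁻¹ := by rw [map_inv₀, (mem_kfix φ).1 a'.2]
        have ha'' : a'.1 ≠ 0 := fun h => ha' (Subtype.ext h)
        set g := tor φ 1 a'.1⁻¹ with hg
        have hx'' : xF 46 a' = g * xF 46 1 * g⁻¹ := Subtype.ext (by
          rw [Subgroup.coe_mul, Subgroup.coe_mul, Subgroup.coe_inv, hg, tor_one hb' (inv_ne_zero ha''), xF_coe f46,
            xF_coe f46, show (39 : ℕ) = chevE6.simple 3 by decide +kernel, he_conj (by norm_num) (by norm_num)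
              (inv_ne_zero ha''), cart, zpow_neg_one, inv_inv]
          exact congrArg (X 46) (mul_one _).symm)
        rw [hx'', rho_mul, rho_mul, ← tor_A ρ 1 hb' (inv_ne_zero ha'') f24,
          A_vanish ρ hinv hbot (pRoots_tor ρ hP hb' (inv_ne_zero ha'')), map_zero]
      rw [A_comm ρ f24 f25 (show commB 24 25 = true by decide +kernel), h0, A_zero, map_zero]
  have hexp : A ρ 24 (A ρ 25 (A ρ 47 (A ρ 46 u'))) =
      ∑ b : kfix φ, ∑ a' : kfix φ, A ρ 24 (A ρ 25 (ρ (xF 47 b) (ρ (xF 46 a') u'))) := by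
    conv_lhs => rw [show A ρ 47 (A ρ 46 u') = ∑ b : kfix φ, ∑ a' : kfix φ, ρ (xF 47 b) (ρ (xF 46 a') u') by
      simp only [A, map_sum]]
    simp only [A_sum]
  rw [hv, A_zero, A_zero, Finset.sum_eq_single (0 : kfix φ) (fun b _ hb => Finset.sum_eq_zero fun a' _ =>
      key b a' (Or.inl hb)) (by simp),
    Finset.sum_eq_single (0 : kfix φ) (fun a' _ ha' => key 0 a' (Or.inr ha')) (by simp),
    xF_zero f46, xF_zero f47, map_one, Module.End.one_apply, Module.End.one_apply,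
    A_fixed ρ f25 hk (hP 25 h25), A_smul, A_fixed ρ f24 hk (hP 24 h24)] at hexp
  have h0 : u' = 0 := (smul_eq_zero.1 ((smul_eq_zero.1 hexp.symm).resolve_left hq)).resolve_left hq
  exact hu0' (Subtype.ext (rho_inj ρ _ (rho_inj ρ _ (h0.trans (by rw [Submodule.coe_zero, map_zero, map_zero])))))

end Cfsg.Agent.MinDegree.TwoE6
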