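import Cfsg.Agent.Lib.MinDegree.TwoE6.Orbs
import Cfsg.Agent.Lib.Chev.TorusOrder
import Cfsg.Agent.Lib.Chev.AutRigid

/-!
Relations between Weyl and torus elements at the roots fixed by the symmetry.
-/

set_option autoImplicit false
set_option linter.unusedSectionVars false
set_option maxRecDepth 4000

namespace Cfsg.Agent.MinDegree.TwoE6

open Cfsg.Lie Cfsg.Agent.Chev Cfsg.Agent.Chev.BNSetup

variable {K : Type*} [Field K] {φ : K ≃+* K}

theorem he_mul_he {r : ℕ} (hr : r < 72) {a b : K} (ha : a ≠ 0) (hb : b ≠ 0) :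
    he E6.good r a * he E6.good r b = he E6.good r (a * b) := by
  have h := fun u : Kˣ => he_eq_torusHom E6.good (F := K) (show r < chevE6.nroots from hr) u
  obtain ⟨u, rfl⟩ := ha.isUnit
  obtain ⟨v, rfl⟩ := hb.isUnit
  rw [← Units.val_mul, h, h, h, ← map_mul]
  congr 1
  funext i
  simp [mul_zpow]

theorem ne'_mul_ne' {r : ℕ} (hr : r < 72) {a b : K} (ha : a ≠ 0) (hb : b ≠ 0) :
    ne' E6.good r a * ne' E6.good r b = he E6.good r (-(a / b)) := by
  have hr' : r < chevE6.nroots := hr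
  have e1 : ne' E6.good r a * ne' E6.good r b = he E6.good r a * (he E6.good r (-b))⁻¹ := by
    rw [he, he, mul_inv_rev, ← ne'_neg E6.good hr' (-1 : K), neg_neg, ← ne'_neg E6.good hr' (-b), neg_neg,
      mul_assoc, ← mul_assoc (ne' E6.good r (-1)), ne'_neg E6.good hr' (1 : K), inv_mul_cancel, one_mul]
  rw [e1, he_inv E6.good hr' (neg_ne_zero.2 hb), he_mul_he hr ha (inv_ne_zero (neg_ne_zero.2 hb))]
  congr 1
  rw [inv_neg, mul_neg, ← div_eq_mul_inv]

/-- Conjugation of a torus element by a Weyl element. -/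
theorem conj_he {i s : ℕ} (hi : i < 6) (hs : s < 72) {t : K} (ht : t ≠ 0) :
    ne' E6.good (chevE6.simple i) (1 : K) * he E6.good s t * (ne' E6.good (chevE6.simple i) 1)⁻¹ =
      he E6.good (chevE6.reflectRoot i s) t := by
  obtain ⟨e, he2, -, hn⟩ := exists_conj E6.good (F := K) (show i < chevE6.rank from hi)
    (show s < chevE6.nroots from hs)
  have he0 : e ≠ 0 := left_ne_zero_of_mul_eq_one he2
  rw [he, ← conj_mul, hn, hn, ne'_mul_ne' (E6.good.reflectRoot_lt hi hs) (mul_ne_zero he0 ht)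
    (mul_ne_zero he0 (neg_ne_zero.2 one_ne_zero))]
  congr 1
  field_simp

/-- The torus element at a root fixed by the symmetry. -/
noncomputable def tor (φ : K ≃+* K) (j : Fin 2) (a : K) : ↥(GT φ) :=
  haveI := Classical.propDecidable (φ a = a ∧ a ≠ 0)
  if h : φ a = a ∧ a ≠ 0 then
    if j = 0 then ⟨he E6.good 46 a, (norm_he46 h.1 h.2).mem⟩ else ⟨he E6.good 39 a, (norm_he39 h.1 h.2).mem⟩
  else 1

theorem tor_zero {a : K} (h : φ a = a) (h0 : a ≠ 0) :
    (tor φ 0 a : GL chevE6.Idx K) = he E6.good 46 a := by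
  rw [tor, dif_pos ⟨h, h0⟩, if_pos rfl]

theorem tor_one {a : K} (h : φ a = a) (h0 : a ≠ 0) :
    (tor φ 1 a : GL chevE6.Idx K) = he E6.good 39 a := by
  rw [tor, dif_pos ⟨h, h0⟩, if_neg (by decide)]

theorem mono_tor (j : Fin 2) {a : K} (h : φ a = a) (h0 : a ≠ 0) : Mono (tor φ j a) id := by
  intro s hs
  refine ⟨hs, ?_⟩
  fin_cases j
  · refine ⟨a ^ chevE6.cartan 1 s, zpow_ne_zero _ h0, fun t => ?_⟩
    rw [show ((⟨0, by norm_num⟩ : Fin 2)) = 0 from rfl, tor_zero h h0, show (46 : ℕ) = chevE6.simple 1 by decide +kernel]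
    exact he_conj (by norm_num) hs h0 t
  · refine ⟨a ^ chevE6.cartan 3 s, zpow_ne_zero _ h0, fun t => ?_⟩
    rw [show ((⟨1, by norm_num⟩ : Fin 2)) = 1 from rfl, tor_one h h0, show (39 : ℕ) = chevE6.simple 3 by decide +kernel]
    exact he_conj (by norm_num) hs h0 t

theorem Jl_zero : orbE6.Jl 4 (0 : Fin 4) = [1] ∧ orbE6.Jl 4 (1 : Fin 4) = [3] := by decide +kernel

theorem coe_nn_zero : (nn φ 0 : GL chevE6.Idx K) = ne' E6.good 46 (1 : K) := by
  show ((orbE6.Jl 4 (0 : Fin 4)).map fun k => ne' E6.good (chevE6.simple k) (1 : K)).prod = _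
  rw [Jl_zero.1, List.map_singleton, List.prod_singleton, show chevE6.simple 1 = 46 by decide +kernel]

theorem coe_nn_one : (nn φ 1 : GL chevE6.Idx K) = ne' E6.good 39 (1 : K) := by
  show ((orbE6.Jl 4 (1 : Fin 4)).map fun k => ne' E6.good (chevE6.simple k) (1 : K)).prod = _
  rw [Jl_zero.2, List.map_singleton, List.prod_singleton, show chevE6.simple 3 = 39 by decide +kernel]

/-- A Weyl element at a fixed root is a product of three root elements. -/
theorem coe_word {r : ℕ} (h : r < 72 ∧ bar r = r) (h' : chevE6.neg r < 72 ∧ bar (chevE6.neg r) = chevE6.neg r)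
    (u : kfix φ) :
    ((xF r u * xF (chevE6.neg r) (-u⁻¹) * xF r u : ↥(GT φ)) : GL chevE6.Idx K) = ne' E6.good r u.1 := by
  rw [Subgroup.coe_mul, Subgroup.coe_mul, xF_coe h, xF_coe h', ne']
  rfl

/-- The square of the Weyl element. -/
theorem nn_sq : nn φ 0 * nn φ 0 = tor φ 0 (-1) := Subtype.ext (by
  rw [Subgroup.coe_mul, coe_nn_zero, ne'_mul_ne' (by norm_num) one_ne_zero one_ne_zero,
    tor_zero (by rw [map_neg, map_one]) (neg_ne_zero.2 one_ne_zero), div_one])

/-- The conjugate of the torus element by the two Weyl elements. -/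
theorem nn_nn_tor {a : K} (h : φ a = a) (h0 : a ≠ 0) :
    nn φ 0 * nn φ 1 * tor φ 0 a = tor φ 1 a * (nn φ 0 * nn φ 1) := Subtype.ext (by
  simp only [Subgroup.coe_mul, coe_nn_zero, coe_nn_one, tor_zero h h0, tor_one h h0]
  have h1 := conj_he (K := K) (i := 3) (s := 46) (by norm_num) (by norm_num) h0
  rw [show chevE6.simple 3 = 39 by decide +kernel, show chevE6.reflectRoot 3 46 = 47 by decide +kernel] at h1
  have h2 := conj_he (K := K) (i := 1) (s := 47) (by norm_num) (by norm_num) h0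
  rw [show chevE6.simple 1 = 46 by decide +kernel, show chevE6.reflectRoot 1 47 = 39 by decide +kernel, ← h1] at h2
  rw [← h2]
  group)

/-- The Weyl element conjugated by the two Weyl elements. -/
theorem nn_nn_nn : ∃ e : kfix φ, e ≠ 0 ∧ nn φ 0 * nn φ 1 * nn φ 0 =
    tor φ 1 e.1 * nn φ 1 * (nn φ 0 * nn φ 1) := by
  obtain ⟨e, he2, -, h1⟩ := exists_conj E6.good (F := K) (i := 3) (show 3 < chevE6.rank by decide +kernel)
    (s := 46) (show 46 < chevE6.nroots by decide +kernel)
  obtain ⟨e', he2', -, h2⟩ := exists_conj E6.good (F := K) (i := 1) (show 1 < chevE6.rank by decide +kernel)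
    (s := 47) (show 47 < chevE6.nroots by decide +kernel)
  rw [show chevE6.simple 3 = 39 by decide +kernel, show chevE6.reflectRoot 3 46 = 47 by decide +kernel] at h1
  rw [show chevE6.simple 1 = 46 by decide +kernel, show chevE6.reflectRoot 1 47 = 39 by decide +kernel] at h2
  have e0 : e' * e ≠ 0 := mul_ne_zero (left_ne_zero_of_mul_eq_one he2') (left_ne_zero_of_mul_eq_one he2)
  have hf : φ (e' * e) = e' * e := by
    rcases mul_self_eq_one_iff.1 (show (e' * e) * (e' * e) = 1 by rw [mul_mul_mul_comm, he2', he2, one_mul]) with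
      h | h <;> rw [h] <;> simp
  refine ⟨⟨e' * e, hf⟩, fun h => e0 (congrArg Subtype.val h), Subtype.ext ?_⟩
  simp only [Subgroup.coe_mul, coe_nn_zero, coe_nn_one, tor_one hf e0]
  rw [← ne'_eq_he_mul E6.good (show 39 < chevE6.nroots by decide +kernel) (e' * e), ← h2, ← mul_one e, ← h1]
  group

theorem nn_tor {u : K} (h : φ u = u) (h0 : u ≠ 0) :
    ((nn φ 0 * tor φ 0 u⁻¹ : ↥(GT φ)) : GL chevE6.Idx K) = ne' E6.good 46 u := by
  rw [Subgroup.coe_mul, coe_nn_zero, tor_zero (by rw [map_inv₀, h]) (inv_ne_zero h0),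
    show he E6.good 46 u⁻¹ = ne' E6.good 46 (-1) * ne' E6.good 46 u from
      (by rw [ne'_mul_ne' (by norm_num) (neg_ne_zero.2 one_ne_zero) h0, neg_div, neg_neg, one_div]),
    ne'_neg E6.good (show 46 < chevE6.nroots by decide +kernel), mul_inv_cancel_left]

end Cfsg.Agent.MinDegree.TwoE6
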