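import Cfsg.Agent.Lib.MinDegree.TwoE6.Radical
import Cfsg.Agent.Lib.MinDegree.TwoE6.TorusRel
import Cfsg.Agent.Lib.MinDegree.SLPoint

/-!
If the vectors fixed by the special subgroup are fixed by the roots of the middle unipotent group of the Levi
complement, a nontrivial irreducible representation has none.
-/

set_option autoImplicit false
set_option linter.unusedSectionVars false
set_option maxRecDepth 4000

namespace Cfsg.Agent.MinDegree.TwoE6

open Cfsg.Lie Cfsg.Agent.Chev Cfsg.Agent.Chev.BNSetup Module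

/-- The roots of the middle unipotent group of the Levi complement. -/
def yRoots : List ℕ := [39, 40, 43, 41, 58, 44, 45, 59, 60]

/-- The roots of the special subgroup. -/
def qRoots : List ℕ := 71 :: (List.finRange 20).map rQ

/-- The roots reached from the middle unipotent group by the Weyl group of the Levi complement. -/
def reach : ℕ → List ℕ
  | 0 => yRoots
  | n + 1 => (reach n ++ (reach n).map (wJ 1) ++ (reach n).map (wJ 2) ++ (reach n).map (wJ 3)).eraseDups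

theorem reach_all : ∀ r ∈ leviRoots, r ∈ reach 9 := by decide +kernel

theorem wJ_levi : ∀ j ∈ ([1, 2, 3] : List (Fin 4)), ∀ r ∈ qRoots, r < 72 ∧ wJ j r ∈ qRoots := by decide +kernel

theorem wJ_zero : ∀ i : Fin 20, i ∈ ([0] : List (Fin 20)) ∨ wJ 0 (rQ i) ∈ qRoots ∨ wJ 0 (rQ i) ∈ leviRoots := by
  decide +kernel

variable {K : Type*} [Field K] [Fintype K] {φ : K ≃+* K} (hinv : ∀ x, φ (φ x) = x)
variable {W : Type*} [AddCommGroup W] [Module ℂ W] [FiniteDimensional ℂ W]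
variable (ρ : Representation ℂ ↥(GT φ) W)

theorem F_of_MQ {v : W} (hv : v ∈ MQ hinv ρ) {r : ℕ} (hr : r ∈ qRoots) : F ρ v r := by
  obtain ⟨h1, h2⟩ := (mem_MQ_iff_F hinv ρ).1 hv
  rcases List.mem_cons.1 hr with rfl | hr
  · exact h1
  · obtain ⟨i, -, rfl⟩ := List.mem_map.1 hr
    exact h2 i

theorem MQ_of_F {v : W} (h : ∀ r ∈ qRoots, F ρ v r) : v ∈ MQ hinv ρ :=
  (mem_MQ_iff_F hinv ρ).2 ⟨h _ List.mem_cons_self,
    fun i => h _ (List.mem_cons_of_mem _ (List.mem_map.2 ⟨i, List.mem_finRange i, rfl⟩))⟩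

/-- The fixed vectors are invariant under monomial elements keeping the roots of the special subgroup. -/
theorem MQ_nn_inv {v : W} (hv : v ∈ MQ hinv ρ) {j : Fin 4} (hj : j ∈ ([1, 2, 3] : List (Fin 4))) :
    ρ (nn φ j)⁻¹ v ∈ MQ hinv ρ :=
  MQ_of_F hinv ρ fun r hr => by
    obtain ⟨h72, hw⟩ := wJ_levi j hj r hr
    have h := F_nn_inv ρ (wJ_levi j hj _ hw).1 j (F_of_MQ hinv ρ hv hw)
    rwa [(wJ_facts j r h72).2.1] at h

theorem MQ_tor {v : W} (hv : v ∈ MQ hinv ρ) (j : Fin 2) {a : K} (h : φ a = a) (h0 : a ≠ 0) :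
    ρ (tor φ j a) v ∈ MQ hinv ρ :=
  MQ_of_F hinv ρ fun r hr => by
    have h72 : r < 72 := (wJ_levi 1 (by decide) r hr).1
    exact F_map ρ (mono_tor j h h0) h72 rfl rfl (F_of_MQ hinv ρ hv hr)

theorem F_levi (hY : ∀ v ∈ MQ hinv ρ, ∀ r ∈ yRoots, F ρ v r) {v : W} (hv : v ∈ MQ hinv ρ) {r : ℕ}
    (hr : r ∈ leviRoots) : F ρ v r := by
  suffices key : ∀ n, ∀ s ∈ reach n, s < 72 ∧ ∀ w ∈ MQ hinv ρ, F ρ w s from (key 9 r (reach_all r hr)).2 v hv
  intro n
  induction n with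
  | zero => exact fun s hs => ⟨(show ∀ s ∈ yRoots, s < 72 by decide +kernel) s hs, fun w hw => hY w hw s hs⟩
  | succ n ih =>
    intro s hs
    simp only [reach, List.mem_eraseDups, List.mem_append] at hs
    have step : ∀ j ∈ ([1, 2, 3] : List (Fin 4)), s ∈ (reach n).map (wJ j) →
        s < 72 ∧ ∀ w ∈ MQ hinv ρ, F ρ w s := by
      intro j hj hs'
      obtain ⟨t, ht, rfl⟩ := List.mem_map.1 hs'
      obtain ⟨h72, hF⟩ := ih t ht
      refine ⟨(wJ_facts j t h72).1, fun w hw => ?_⟩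
      have := F_nn ρ h72 j (hF _ (MQ_nn_inv hinv ρ hw hj))
      rwa [rho_inv'] at this
    rcases hs with ((hs | hs) | hs) | hs
    exacts [ih s hs, step 1 (by decide) hs, step 2 (by decide) hs, step 3 (by decide) hs]

theorem tor_A (j : Fin 2) {a : K} (h : φ a = a) (h0 : a ≠ 0) {r : ℕ} (hr : r < 72 ∧ bar r = r) (v : W) :
    ρ (tor φ j a) (A ρ r v) = A ρ r (ρ (tor φ j a) v) :=
  A_map ρ (mono_tor j h h0) hr rfl hr v

theorem fixd_list : (46 < 72 ∧ bar 46 = 46) ∧ (25 < 72 ∧ bar 25 = 25) ∧ (39 < 72 ∧ bar 39 = 39) ∧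
    (32 < 72 ∧ bar 32 = 32) ∧ (47 < 72 ∧ bar 47 = 47) ∧ chevE6.neg 46 = 25 ∧ chevE6.neg 39 = 32 ∧
    chevE6.simple 1 = 46 ∧ chevE6.simple 3 = 39 ∧ wJ 0 46 = 25 ∧ wJ 0 25 = 46 ∧ wJ 0 47 = 39 ∧ wJ 1 46 = 47 ∧
    commB 39 47 = true ∧ commB 46 47 = true ∧ rQ 0 = 46 ∧ rQ 1 = 47 := by
  decide +kernel

include hinv in
theorem MQ_eq_bot (hirr : Irred ρ) (hker : ρ ⟨X 71 1, z_mem_iff.2 (map_one φ)⟩ ≠ 1) {q : ℕ}
    (hk : Nat.card (kfix φ) = q) (hY : ∀ v ∈ MQ hinv ρ, ∀ r ∈ yRoots, F ρ v r) : MQ hinv ρ = ⊥ := by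
  classical
  let _ := Fintype.ofFinite (kfix φ)
  obtain ⟨f46, f25, f39, f32, f47, n46, n39, s1, s3, w46, w25, w47, w1, c1, c2, r0, r1⟩ := fixd_list
  have hkq : Fintype.card (kfix φ) = q := by rw [← Nat.card_eq_fintype_card, hk]
  have hq : (q : ℂ) ≠ 0 := by rw [← hkq]; exact Nat.cast_ne_zero.2 Fintype.card_ne_zero
  have hL := fun (v : W) (hv : v ∈ MQ hinv ρ) {r : ℕ} (hr : r ∈ leviRoots) => F_levi hinv ρ hY hv hr
  have h39 : ∀ v ∈ MQ hinv ρ, F ρ v 39 ∧ F ρ v 32 := fun v hv =>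
    ⟨hL v hv (by decide +kernel), hL v hv (by decide +kernel)⟩
  have h4 : ∀ v ∈ MQ hinv ρ, ρ (nn φ 1) v = v := fun v hv =>
    nn_fixed ρ Jl_zero.2 (by norm_num) (by rw [s3]; exact (h39 v hv).1) (by rw [s3, n39]; exact (h39 v hv).2)
  have hone : ∀ v ∈ MQ hinv ρ, ∀ u : kfix φ, u ≠ 0 → ρ (tor φ 1 u.1) v = v := by
    intro v hv u hu
    have hu' : u.1 ≠ 0 := fun h => hu (Subtype.ext h)
    have e : tor φ 1 u.1 = (xF 39 u * xF (chevE6.neg 39) (-u⁻¹) * xF 39 u) * (nn φ 1)⁻¹ := Subtype.ext (by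
      rw [Subgroup.coe_mul, coe_word f39 (by rw [n39]; exact f32), Subgroup.coe_inv, coe_nn_one, tor_one u.2 hu',
        he, ne'_neg E6.good (show 39 < chevE6.nroots by decide +kernel)])
    have hn : ρ (nn φ 1)⁻¹ v = v := by
      have h := congrArg (ρ (nn φ 1)⁻¹) (h4 v hv)
      rw [rho_inv] at h
      exact h.symm
    rw [e, rho_mul, hn, rho_mul, rho_mul, n39, (F_iff ρ f39).1 (h39 v hv).1, (F_iff ρ f32).1 (h39 v hv).2,
      (F_iff ρ f39).1 (h39 v hv).1]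
  -- the operator at the extending node
  set T : W → W := fun v => A ρ 46 (ρ (nn φ 0) v) with hT
  have hTmem : ∀ v ∈ MQ hinv ρ, T v ∈ MQ hinv ρ := by
    intro v hv
    have hz : ∀ i, i ∉ ([0] : List (Fin 20)) → F ρ (ρ (nn φ 0) v) (rQ i) := by
      intro i hi
      obtain ⟨h1, hw, -⟩ := wJ_facts 0 (rQ i) (rQ_facts i).1
      rcases wJ_zero i with h | h | h
      · exact absurd h hi
      · have := F_nn ρ h1 0 (F_of_MQ hinv ρ hv h)
        rwa [hw] at this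
      · have := F_nn ρ h1 0 (hL v hv h)
        rwa [hw] at this
    have h71 : F ρ (ρ (nn φ 0) v) 71 := by
      have := F_nn ρ (show rQ 19 < 72 by decide +kernel) 0 (((mem_MQ_iff_F hinv ρ).1 hv).2 19)
      rwa [show wJ 0 (rQ 19) = 71 by decide +kernel] at this
    have h := QF.sum hinv ρ (i := 0) (by decide) (by simp) (qf_of_F hinv ρ h71 hz)
    rw [r0] at h
    exact (mem_MQ hinv ρ).2 h
  obtain ⟨e, he0, hnnn⟩ := nn_nn_nn (φ := φ)
  have he1 : e.1 ≠ 0 := fun h => he0 (Subtype.ext h)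
  -- the square of the operator
  have hTT : ∀ v ∈ MQ hinv ρ, T (T v) = (q : ℂ) • T v := by
    intro v hv
    set w := ρ (nn φ 1) (ρ (nn φ 0) v) with hw
    have e1 : T v = A ρ 47 w := by
      rw [← h4 _ (hTmem v hv)]
      exact A_map ρ (mono_nn 1) f46 w1 f47 _
    have e2 : ρ (nn φ 0) w = ρ (tor φ 1 e.1) w := by
      rw [hw, ← rho_mul, ← rho_mul, hnnn, rho_mul, rho_mul ρ (nn φ 0), h4 v hv, rho_mul]
    have e3 : T (T v) = ρ (tor φ 1 e.1) (A ρ 46 (A ρ 39 w)) := by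
      rw [tor_A ρ 1 e.2 he1 f46, tor_A ρ 1 e.2 he1 f39, ← e2,
        ← A_map ρ (mono_nn 0) f47 w47 f39, ← e1]
    have e4 : A ρ 46 (A ρ 39 w) = T (T v) := by
      have h := hone _ (hTmem _ (hTmem v hv)) e he0
      rw [e3] at h
      exact (rho_inj ρ _ h).symm.trans e3.symm
    have hm := hTmem _ (hTmem v hv)
    have hmv := hTmem v hv
    have h5 : A ρ 46 (A ρ 39 (T v)) = (q : ℂ) • (q : ℂ) • T v := by
      rw [A_fixed ρ f39 hk (h39 _ hmv).1, A_smul, A_fixed ρ f46 hk (r0 ▸ ((mem_MQ_iff_F hinv ρ).1 hmv).2 0)]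
    rw [e1, A_comm ρ f39 f47 c1, A_comm ρ f46 f47 c2, e4,
      A_fixed ρ f47 hk (r1 ▸ ((mem_MQ_iff_F hinv ρ).1 hm).2 1), ← e1] at h5
    exact smul_right_injective W hq h5
  -- the torus
  have htor : ∀ v ∈ MQ hinv ρ, ∀ a : kfix φ, a ≠ 0 → T (ρ (tor φ 0 a.1) v) = T v := by
    intro v hv a ha
    have ha' : a.1 ≠ 0 := fun h => ha (Subtype.ext h)
    have e1 : ρ (nn φ 0) (ρ (tor φ 0 a.1) v) = ρ (tor φ 1 a.1) (ρ (nn φ 0) v) := by
      have h := congrArg (fun g => ρ g v) (nn_nn_tor (φ := φ) a.2 ha')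
      simp only [rho_mul] at h
      rwa [h4 _ (MQ_tor hinv ρ hv 0 a.2 ha'), h4 v hv] at h
    show A ρ 46 (ρ (nn φ 0) _) = A ρ 46 (ρ (nn φ 0) v)
    rw [e1, ← tor_A ρ 1 a.2 ha' f46]
    exact hone _ (hTmem v hv) a ha
  have hm1 : φ (-1 : K) = -1 := by rw [map_neg, map_one]
  have hsq : ∀ v, ρ (nn φ 0) (ρ (nn φ 0) v) = ρ (tor φ 0 (-1)) v := fun v => by rw [← rho_mul, nn_sq]
  -- root elements of the opposite root
  have hopp : ∀ t : kfix φ, t ≠ 0 → ∀ v ∈ MQ hinv ρ, ρ (xF 25 t) v =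
      ρ (xF 46 t⁻¹) (ρ (nn φ 0) (ρ (tor φ 0 (-t.1)) v)) := by
    intro t ht v hv
    have hu : φ (-t.1⁻¹) = -t.1⁻¹ := by rw [map_neg, map_inv₀, (mem_kfix φ).1 t.2]
    have ht' : t.1 ≠ 0 := fun h => ht (Subtype.ext h)
    have h := nn_tor (φ := φ) hu (neg_ne_zero.2 (inv_ne_zero ht'))
    rw [inv_neg, inv_inv] at h
    have hw : nn φ 0 * tor φ 0 (-t.1) = xF 46 (-t⁻¹) * xF 25 t * xF 46 (-t⁻¹) := Subtype.ext (h.trans (by
      have h' := coe_word (φ := φ) f46 (by rw [n46]; exact f25) (-t⁻¹)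
      rw [inv_neg, inv_inv, neg_neg, n46] at h'
      exact h'.symm))
    have hv46 : F ρ v 46 := r0 ▸ ((mem_MQ_iff_F hinv ρ).1 hv).2 0
    rw [← rho_mul ρ (nn φ 0), hw, ← rho_mul, ← mul_assoc, ← mul_assoc, xF_add f46, add_neg_cancel, xF_zero f46,
      one_mul, rho_mul, (F_iff ρ f46).1 hv46]
  have hT1 : ∀ v ∈ MQ hinv ρ, T v = (q : ℂ) • ρ (tor φ 0 (-1)) v := by
    intro v hv
    have hy := MQ_tor hinv ρ hv 0 hm1 (neg_ne_zero.2 one_ne_zero)
    have e1 : T (T v) = (q : ℂ) • ρ (tor φ 0 (-1)) v + ((q : ℂ) - 1) • T v := by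
      show A ρ 46 (ρ (nn φ 0) (A ρ 46 (ρ (nn φ 0) v))) = _
      rw [A_map ρ (mono_nn 0) f46 w46 f25, hsq]
      rw [show A ρ 25 (ρ (tor φ 0 (-1)) v) = ∑ t : kfix φ, ρ (xF 25 t) (ρ (tor φ 0 (-1)) v) from rfl,
        A_sum, ← Finset.add_sum_erase _ _ (Finset.mem_univ (0 : kfix φ)), xF_zero f25, map_one, Module.End.one_apply,
        A_fixed ρ f46 hk (r0 ▸ ((mem_MQ_iff_F hinv ρ).1 hy).2 0), Finset.sum_eq_card_nsmul (b := T v) fun t ht => by
          rw [hopp t (Finset.ne_of_mem_erase ht) _ hy, A_absorb ρ f46]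
          exact (htor _ hy (-t) (neg_ne_zero.2 (Finset.ne_of_mem_erase ht))).trans
            (htor v hv (-1) (neg_ne_zero.2 one_ne_zero)),
        Finset.card_erase_of_mem (Finset.mem_univ _), Finset.card_univ, hkq,
        ← Nat.cast_smul_eq_nsmul ℂ, Nat.cast_sub (hkq ▸ Fintype.card_pos : 1 ≤ q), Nat.cast_one]
    rw [hTT v hv, sub_smul, one_smul, add_sub, eq_sub_iff_add_eq, add_comm ((q : ℂ) • ρ _ v),
      add_right_inj] at e1
    exact e1
  have hfix : ∀ v ∈ MQ hinv ρ, ∀ a : kfix φ, a ≠ 0 → ρ (tor φ 0 a.1) v = v := by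
    intro v hv a ha
    have ha' : a.1 ≠ 0 := fun h => ha (Subtype.ext h)
    have h := htor v hv a ha
    rw [hT1 v hv, hT1 _ (MQ_tor hinv ρ hv 0 a.2 ha')] at h
    exact rho_inj ρ _ (smul_right_injective W hq h)
  have hm1' : ∀ v ∈ MQ hinv ρ, ρ (tor φ 0 (-1)) v = v := fun v hv => hfix v hv (-1) (neg_ne_zero.2 one_ne_zero)
  -- the vectors are fixed by the opposite root group
  have h25 : ∀ v ∈ MQ hinv ρ, F ρ v 25 := by
    intro v hv
    have h46 := r0 ▸ ((mem_MQ_iff_F hinv ρ).1 hv).2 0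
    set z := ρ (nn φ 0) v with hz
    have hsum : v + ∑ t : kfix φ, ρ (xF 46 t) z = ((q : ℂ) + 1) • v := by
      rw [show ∑ t : kfix φ, ρ (xF 46 t) z = T v from rfl, hT1 v hv, hm1' v hv, add_smul, one_smul, add_comm]
    have hterm : ∀ t : kfix φ, t ≠ 0 → ρ (nn φ 0) (ρ (xF 46 t) z) = ρ (xF 46 (-t⁻¹)) z := by
      intro t ht
      have hc : nn φ 0 * xF 46 t = xF 25 (-t) * nn φ 0 := Subtype.ext (by
        rw [Subgroup.coe_mul, Subgroup.coe_mul, coe_nn_zero, xF_coe f46, xF_coe f25, ← mul_inv_eq_iff_eq_mul,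
          ne'_conj_self E6.good (show 46 < chevE6.nroots by decide +kernel) one_ne_zero, n46]
        simp)
      rw [← rho_mul, hc, rho_mul, hz, hsq, hm1' v hv, hopp (-t) (neg_ne_zero.2 ht) v hv]
      rw [show -((-t : kfix φ) : K) = t.1 from neg_neg _, hfix v hv t ht, inv_neg]
    have hinvs : ρ (nn φ 0) (v + ∑ t : kfix φ, ρ (xF 46 t) z) = v + ∑ t : kfix φ, ρ (xF 46 t) z := by
      rw [map_add, map_sum, ← Finset.add_sum_erase _ _ (Finset.mem_univ (0 : kfix φ)),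
        Finset.sum_congr rfl fun t ht => hterm t (Finset.ne_of_mem_erase ht),
        Finset.sum_nbij' (t := Finset.univ.erase (0 : kfix φ)) (g := fun t => ρ (xF 46 t) z)
          (fun t => -t⁻¹) (fun t => -t⁻¹) (by simp) (by simp) (by simp) (by simp) (fun t _ => rfl),
        ← Finset.add_sum_erase (a := (0 : kfix φ)) _ (fun t => ρ (xF 46 t) z) (Finset.mem_univ _),
        xF_zero f46, map_one, Module.End.one_apply, hz, hsq, hm1' v hv]
      abel
    rw [hsum, map_smul] at hinvs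
    have hzv : z = v := smul_right_injective W (by
      intro h
      have : ((q + 1 : ℕ) : ℂ) = 0 := by push_cast; exact h
      exact Nat.succ_ne_zero q (Nat.cast_eq_zero.1 this)) hinvs
    have := F_nn ρ f46.1 0 h46
    rwa [w46, ← hz, hzv] at this
  -- the group fixes the vectors
  rw [Submodule.eq_bot_iff]
  intro v hv
  by_contra hv0
  let S : Subgroup ↥(GT φ) :=
    { carrier := {g | ρ g v = v}
      one_mem' := by simp
      mul_mem' := fun {a b} ha hb => by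
        show ρ (a * b) v = v
        rw [rho_mul, show ρ b v = v from hb]
        exact ha
      inv_mem' := fun {a} ha => by
        show ρ a⁻¹ v = v
        conv_lhs => rw [← show ρ a v = v from ha]
        exact rho_inv ρ a v }
  have hFr : ∀ r, r = 46 ∨ r = 25 ∨ r ∈ leviRoots → F ρ v r := by
    rintro r (rfl | rfl | hr)
    exacts [r0 ▸ ((mem_MQ_iff_F hinv ρ).1 hv).2 0, h25 v hv, hL v hv hr]
  have hsub : ∀ {g : GL chevE6.Idx K} (hg : g ∈ GT φ) {r : ℕ}, (r = 46 ∨ r = 25 ∨ r ∈ leviRoots) →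
      (∃ a b : K, g = X r a * X (bar r) b) → g ∈ S.map (GT φ).subtype := fun {g} hg {r} hr hab =>
    ⟨⟨g, hg⟩, hFr r hr ⟨g, hg⟩ hab, rfl⟩
  have hall : GT φ ≤ S.map (GT φ).subtype := by
    refine Gt_le E6.good orbE6_ok φ facts_chevE6 negTri_chevE6 graphE6_cols fun j a ha => ?_
    obtain ⟨hp, hm⟩ := pv_mem_Gt E6.good orbE6_ok φ facts_chevE6 negTri_chevE6 graphE6_cols j ha
    have one : ∀ r, r < 72 → bar r = r → ∀ x : K, ∃ a b : K, X r x = X r a * X (bar r) b := fun r h1 h2 x =>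
      ⟨x, 0, by rw [h2, X_zero h1, mul_one]⟩
    have hs : (chevE6.simple 2 = chevE6.simple 2 ∧ chevE6.simple 4 = bar (chevE6.simple 2) ∧
        chevE6.neg (chevE6.simple 4) = bar (chevE6.neg (chevE6.simple 2)) ∧
        chevE6.simple 5 = bar (chevE6.simple 0) ∧
        chevE6.neg (chevE6.simple 5) = bar (chevE6.neg (chevE6.simple 0))) ∧
        chevE6.simple 2 ∈ leviRoots ∧ chevE6.neg (chevE6.simple 2) ∈ leviRoots ∧
        chevE6.simple 0 ∈ leviRoots ∧ chevE6.neg (chevE6.simple 0) ∈ leviRoots ∧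
        39 ∈ leviRoots ∧ 32 ∈ leviRoots := by decide +kernel
    obtain ⟨⟨-, b2, b2', b0, b0'⟩, l2, l2', l0, l0', l39, l32⟩ := hs
    fin_cases j
    · simp only [pv, show orbE6.Jl 4 (0 : Fin 4) = [1] from rfl, Fin.zero_eta, List.map_singleton,
        List.prod_singleton, s1, n46] at hp hm ⊢
      exact ⟨hsub hp (Or.inl rfl) (one _ f46.1 f46.2 _), hsub hm (Or.inr (Or.inl rfl)) (one _ f25.1 f25.2 _)⟩
    · simp only [pv, show orbE6.Jl 4 (1 : Fin 4) = [3] from rfl, Fin.mk_one, List.map_singleton,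
        List.prod_singleton, s3, n39] at hp hm ⊢
      exact ⟨hsub hp (Or.inr (Or.inr l39)) (one _ f39.1 f39.2 _),
        hsub hm (Or.inr (Or.inr l32)) (one _ f32.1 f32.2 _)⟩
    · simp only [pv, show orbE6.Jl 4 (2 : Fin 4) = [2, 4] from rfl, Fin.reduceFinMk, List.map_cons, List.map_nil,
        List.prod_cons, List.prod_nil, mul_one] at hp hm ⊢
      exact ⟨hsub hp (Or.inr (Or.inr l2)) ⟨_, _, by rw [← b2]⟩,
        hsub hm (Or.inr (Or.inr l2')) ⟨_, _, by rw [← b2']⟩⟩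
    · simp only [pv, show orbE6.Jl 4 (3 : Fin 4) = [0, 5] from rfl, Fin.reduceFinMk, List.map_cons, List.map_nil,
        List.prod_cons, List.prod_nil, mul_one] at hp hm ⊢
      exact ⟨hsub hp (Or.inr (Or.inr l0)) ⟨_, _, by rw [← b0]⟩,
        hsub hm (Or.inr (Or.inr l0')) ⟨_, _, by rw [← b0']⟩⟩
  have hG : ∀ g : ↥(GT φ), ρ g v = v := fun g => by
    obtain ⟨g', hg', e⟩ := hall g.2
    rw [← show g' = g from Subtype.ext e]
    exact hg'
  have htop := (hirr (Submodule.span ℂ {v}) fun g y hy => by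
    obtain ⟨c, rfl⟩ := Submodule.mem_span_singleton.1 hy
    rw [map_smul, hG]
    exact hy).resolve_left fun h => hv0 (Submodule.span_singleton_eq_bot.1 h)
  refine hker (LinearMap.ext fun y => ?_)
  obtain ⟨c, rfl⟩ := Submodule.mem_span_singleton.1 (htop ▸ Submodule.mem_top : y ∈ Submodule.span ℂ {v})
  rw [map_smul, hG, Module.End.one_apply]

end Cfsg.Agent.MinDegree.TwoE6
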