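import Cfsg.Agent.Lib.MinDegree.TwoE6.Core
import Cfsg.Agent.Lib.MinDegree.TwoE6.Coords

/-!
The special subgroup of `E₆` on the roots with coefficient one or two at the node of the highest root, in
coordinates, and the linear maps given by root, torus and Weyl elements of the Levi complement.
-/

set_option autoImplicit false
set_option maxRecDepth 4000

namespace Cfsg.Agent.MinDegree.TwoE6

open Cfsg.Lie Cfsg.Agent.Chev Cfsg.Agent.Chev.BNSetup

variable {K : Type*} [Field K]

/-- The roots of the radical, by level and with each orbit of two roots adjacent. -/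
def rQ : Fin 20 → ℕ :=
  ![46, 47, 48, 50, 49, 61, 51, 52, 62, 63, 53, 54, 64, 55, 67, 65, 66, 68, 69, 70]

/-- The symmetry on the coordinates. -/
def pi20 : Fin 20 → Fin 20 :=
  ![0, 1, 3, 2, 5, 4, 6, 8, 7, 9, 10, 12, 11, 14, 13, 15, 17, 16, 18, 19]

/-- The signs of the symmetry on the coordinates. -/
def sg20 : Fin 20 → ℤ :=
  ![1, 1, 1, 1, -1, -1, 1, -1, -1, 1, 1, -1, -1, -1, -1, 1, 1, 1, 1, 1]

theorem rQ_facts : ∀ i, rQ i < 72 ∧ bar (rQ i) = rQ (pi20 i) ∧ sgn (rQ i) = sg20 i ∧ pi20 (pi20 i) = i ∧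
    sg20 (pi20 i) = sg20 i ∧ sg20 i * sg20 i = 1 ∧ commB 71 (rQ i) = true := by decide +kernel

/-- The coefficient of the commutator of two coordinates. -/
def wcoef (i j : Fin 20) : ℤ :=
  match chevE6.commTerms (rQ i) (rQ j) with
  | [(_, m, _, _)] => if i = j then 0 else m
  | _ => 0

theorem wcoef_table : ∀ i j, commB (rQ i) (rQ j) = true ∧ wcoef i j = 0 ∨
    oneB (rQ i) (rQ j) 71 (wcoef i j) = true := by decide +kernel

theorem X_conj_rQ (i j : Fin 20) (a b : K) :
    X (rQ i) a * X (rQ j) b * (X (rQ i) a)⁻¹ = X (rQ j) b * X 71 ((wcoef i j : K) * a * b) := by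
  rcases wcoef_table i j with ⟨h, h0⟩ | h
  · rw [h0, (X_commute h a b).eq, mul_inv_cancel_right, Int.cast_zero, zero_mul, zero_mul,
      X_zero (by norm_num), mul_one]
  · exact X_conj h a b

/-- The centre. -/
noncomputable def Zth : Subgroup (GL chevE6.Idx K) where
  carrier := Set.range (X 71)
  one_mem' := ⟨0, X_zero (by norm_num)⟩
  mul_mem' := by rintro _ _ ⟨a, rfl⟩ ⟨b, rfl⟩; exact ⟨a + b, (X_add (by norm_num) a b).symm⟩
  inv_mem' := by rintro _ ⟨a, rfl⟩; exact ⟨-a, (X_inv (by norm_num) a).symm⟩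

/-- The coordinates. -/
noncomputable def CQ : Coords (GL chevE6.Idx K) K 20 where
  x i := X (rQ i)
  Z := Zth
  x_add i a b := X_add (rQ_facts i).1 a b
  central := by
    rintro _ ⟨z, rfl⟩ i a
    exact X_commute (rQ_facts i).2.2.2.2.2.2 z a
  swap i j a b := by
    refine ⟨X 71 ((wcoef i j : K) * a * b), ⟨_, rfl⟩, ?_⟩
    have h := X_conj_rQ i j a b
    rw [mul_inv_eq_iff_eq_mul] at h
    rw [h, mul_assoc _ (X 71 _), (X_commute (rQ_facts i).2.2.2.2.2.2 _ a).eq, ← mul_assoc]

/-- The element with given coordinates. -/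
noncomputable abbrev H (c : Fin 20 → K) : GL chevE6.Idx K := CQ.el c

/-- The commutator form. -/
def omega (c d : Fin 20 → K) : K := ∑ i, ∑ j, (wcoef i j : K) * c i * d j

theorem z_commute (z : K) (c : Fin 20 → K) : Commute (X 71 z) (H c) := CQ.commute_el ⟨z, rfl⟩ c

theorem conj_lp (i : Fin 20) (a : K) (l : List (Fin 20)) (d : Fin 20 → K) :
    X (rQ i) a * CQ.lp l d * (X (rQ i) a)⁻¹ =
      CQ.lp l d * X 71 (l.map fun j => (wcoef i j : K) * a * d j).sum := by
  induction l with
  | nil => simp [Coords.lp, X_zero (show 71 < 72 by norm_num)]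
  | cons j l ih =>
    have h := X_conj_rQ i j a (d j)
    rw [List.map_cons, List.sum_cons, ← X_add (by norm_num)]
    show X (rQ i) a * (X (rQ j) (d j) * CQ.lp l d) * (X (rQ i) a)⁻¹ = X (rQ j) (d j) * CQ.lp l d * _
    calc X (rQ i) a * (X (rQ j) (d j) * CQ.lp l d) * (X (rQ i) a)⁻¹
        = X (rQ i) a * X (rQ j) (d j) * (X (rQ i) a)⁻¹ * (X (rQ i) a * CQ.lp l d * (X (rQ i) a)⁻¹) := by group
      _ = X (rQ j) (d j) * (X 71 ((wcoef i j : K) * a * d j) * CQ.lp l d) *
            X 71 (l.map fun j => (wcoef i j : K) * a * d j).sum := by rw [h, ih]; simp only [mul_assoc]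
      _ = _ := by rw [(CQ.commute_lp (z := X 71 _) ⟨_, rfl⟩ l d).eq]; simp only [mul_assoc]

theorem H_conj_lp (l : List (Fin 20)) (c d : Fin 20 → K) :
    CQ.lp l c * H d * (CQ.lp l c)⁻¹ = H d * X 71 (l.map fun i => ∑ j, (wcoef i j : K) * c i * d j).sum := by
  induction l with
  | nil => simp [Coords.lp, X_zero (show 71 < 72 by norm_num)]
  | cons i l ih =>
    have h : X (rQ i) (c i) * H d * (X (rQ i) (c i))⁻¹ = H d * X 71 (∑ j, (wcoef i j : K) * c i * d j) := by
      rw [Fin.sum_univ_def]; exact conj_lp i (c i) _ d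
    rw [List.map_cons, List.sum_cons, ← X_add (by norm_num)]
    show X (rQ i) (c i) * CQ.lp l c * H d * (X (rQ i) (c i) * CQ.lp l c)⁻¹ = _
    calc X (rQ i) (c i) * CQ.lp l c * H d * (X (rQ i) (c i) * CQ.lp l c)⁻¹
        = X (rQ i) (c i) * (CQ.lp l c * H d * (CQ.lp l c)⁻¹) * (X (rQ i) (c i))⁻¹ := by group
      _ = X (rQ i) (c i) * H d * (X (rQ i) (c i))⁻¹ *
            X 71 (l.map fun i => ∑ j, (wcoef i j : K) * c i * d j).sum := by
          rw [ih, mul_assoc (X (rQ i) (c i)), mul_assoc (X (rQ i) (c i)), mul_assoc (H d),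
            ((X_commute (rQ_facts i).2.2.2.2.2.2 _ (c i)).inv_right).eq]
          simp only [mul_assoc]
      _ = _ := by rw [h, mul_assoc]

/-- The commutator of two elements. -/
theorem H_conj (c d : Fin 20 → K) : H c * H d * (H c)⁻¹ = H d * X 71 (omega c d) := by
  rw [omega, Fin.sum_univ_def]
  exact H_conj_lp _ c d

/-- The form is read off at a single coordinate. -/
theorem omega_single (c : Fin 20 → K) (j : Fin 20) (b : K) :
    omega c (Pi.single j b) = ∑ i, (wcoef i j : K) * c i * b := by
  refine Finset.sum_congr rfl fun i _ => ?_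
  rw [Finset.sum_eq_single j (fun k _ hk => by rw [Pi.single_eq_of_ne hk, mul_zero]) (by simp),
    Pi.single_eq_same]

/-- The opposite coordinate. -/
def opp20 : Fin 20 → Fin 20 :=
  ![19, 18, 17, 16, 14, 13, 15, 12, 11, 10, 9, 8, 7, 5, 4, 6, 3, 2, 1, 0]

theorem opp_facts : ∀ i j, opp20 (opp20 j) = j ∧ pi20 (opp20 j) = opp20 (pi20 j) ∧
    wcoef (opp20 j) j * wcoef (opp20 j) j = 1 ∧ (i ≠ opp20 j → wcoef i j = 0) := by decide +kernel

theorem omega_single' (c : Fin 20 → K) (j : Fin 20) (b : K) :
    omega c (Pi.single j b) = (wcoef (opp20 j) j : K) * c (opp20 j) * b := by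
  rw [omega_single, Finset.sum_eq_single (opp20 j) (fun i _ hi => by
    rw [(opp_facts i j).2.2.2 hi, Int.cast_zero, zero_mul, zero_mul]) (by simp)]

theorem omega_add (c c' d : Fin 20 → K) : omega (c + c') d = omega c d + omega c' d := by
  simp only [omega, Pi.add_apply, mul_add, add_mul, Finset.sum_add_distrib]

theorem omega_add_right (c d d' : Fin 20 → K) : omega c (d + d') = omega c d + omega c d' := by
  simp only [omega, Pi.add_apply, mul_add, Finset.sum_add_distrib]

theorem omega_smul (a : K) (c d : Fin 20 → K) : omega (a • c) d = a * omega c d := by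
  simp only [omega, Pi.smul_apply, smul_eq_mul, Finset.mul_sum]
  refine Finset.sum_congr rfl fun i _ => Finset.sum_congr rfl fun j _ => ?_
  ring

theorem omega_smul_right (a : K) (c d : Fin 20 → K) : omega c (a • d) = a * omega c d := by
  simp only [omega, Pi.smul_apply, smul_eq_mul, Finset.mul_sum]
  refine Finset.sum_congr rfl fun i _ => Finset.sum_congr rfl fun j _ => ?_
  ring

theorem wsign_ne {j : Fin 20} : (wcoef (opp20 j) j : K) ≠ 0 :=
  left_ne_zero_of_mul_eq_one (sign_cast_sq (opp_facts 0 j).2.2.1)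

/-- Coordinates modulo the centre are unique. -/
theorem H_inj {c d : Fin 20 → K} {z z' : K} (h : H c * X 71 z = H d * X 71 z') : c = d ∧ z = z' := by
  have key : ∀ e, omega e c = omega e d := by
    intro e
    have h1 : H e * (H c * X 71 z) * (H e)⁻¹ = H c * X 71 z * X 71 (omega e c) := by
      rw [← mul_assoc, mul_assoc _ (X 71 z), ((z_commute z e).inv_right).eq, ← mul_assoc, H_conj,
        mul_assoc, mul_assoc, (z_commute_z (omega e c) z)]
    have h2 : H e * (H d * X 71 z') * (H e)⁻¹ = H d * X 71 z' * X 71 (omega e d) := by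
      rw [← mul_assoc, mul_assoc _ (X 71 z'), ((z_commute z' e).inv_right).eq, ← mul_assoc, H_conj,
        mul_assoc, mul_assoc, (z_commute_z (omega e d) z')]
    rw [h, h2] at h1
    exact (X_inj (by norm_num) (mul_left_cancel h1)).symm
  have hcd : c = d := funext fun j => by
    have e := key (Pi.single (opp20 j) 1)
    have hs : ∀ x : Fin 20 → K, omega (Pi.single (opp20 j) 1) x = (wcoef (opp20 j) j : K) * x j := by
      intro x
      rw [omega, Finset.sum_eq_single (opp20 j) (fun i _ hi => Finset.sum_eq_zero fun k _ => by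
        rw [Pi.single_eq_of_ne hi, mul_zero, zero_mul]) (by simp), Pi.single_eq_same,
        Finset.sum_eq_single j (fun k _ hk => by
          rw [(opp_facts (opp20 j) k).2.2.2 (fun e => hk (by
            have := congrArg opp20 e
            rw [(opp_facts 0 j).1, (opp_facts 0 k).1] at this
            exact this.symm)), Int.cast_zero, zero_mul, zero_mul]) (by simp), mul_one]
    rw [hs, hs] at e
    exact mul_left_cancel₀ wsign_ne e
  subst hcd
  exact ⟨rfl, X_inj (by norm_num) (mul_left_cancel h)⟩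
where
  z_commute_z (a b : K) : X 71 a * X 71 b = X 71 b * X 71 a := by
    rw [X_add (by norm_num), X_add (by norm_num), add_comm]

theorem cls_unique {g : GL chevE6.Idx K} {c d : Fin 20 → K} (h : CQ.Cls g c) (h' : CQ.Cls g d) : c = d := by
  obtain ⟨_, ⟨z, rfl⟩, rfl⟩ := h
  obtain ⟨_, ⟨z', rfl⟩, e⟩ := h'
  exact (H_inj e).1

/-- The automorphism on the coordinates. -/
def tau (φ : K ≃+* K) : (Fin 20 → K) →+ (Fin 20 → K) where
  toFun c i := (sg20 i : K) * φ (c (pi20 i))
  map_zero' := funext fun i => by simp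
  map_add' c d := funext fun i => by simp [mul_add]

theorem cls_sigma (φ : K ≃+* K) (c : Fin 20 → K) : CQ.Cls (sigma φ (H c)) (tau φ c) := by
  refine CQ.cls_map (f := (sigma φ).toMonoidHom) ?_ (fun i a => ?_) (CQ.cls_el c)
  · rintro _ ⟨z, rfl⟩
    exact ⟨_, (sigma_X φ (show 71 < 72 by norm_num) z).symm⟩
  · obtain ⟨h1, h2, h3, h4, h5, -⟩ := rQ_facts i
    have e : tau φ (Pi.single i a) = Pi.single (pi20 i) ((sg20 i : K) * φ a) := by
      funext j
      show (sg20 j : K) * φ (Pi.single (M := fun _ => K) i a (pi20 j)) = _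
      by_cases hj : j = pi20 i
      · subst hj; rw [h4, Pi.single_eq_same, Pi.single_eq_same, h5]
      · rw [Pi.single_eq_of_ne (fun e => hj (by rw [← e, (rQ_facts j).2.2.2.1])), Pi.single_eq_of_ne hj,
          map_zero, mul_zero]
    rw [e, show (sigma φ).toMonoidHom (CQ.x i a) = sigma φ (X (rQ i) a) from rfl, sigma_X φ h1, h2, h3]
    exact CQ.cls_x (pi20 i) _

/-! ### Linear maps of the Levi complement -/

/-- Where a Levi root moves a coordinate from. -/
def ntab (r : ℕ) (j : Fin 20) : Option (Fin 20 × ℤ) :=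
  (List.finRange 20).findSome? fun i =>
    match chevE6.commTerms r (rQ i) with
    | [(p, m, _, _)] => if p = rQ j then some (i, m) else none
    | _ => none

/-- The roots of the Levi complement. -/
def leviRoots : List ℕ :=
  [11, 12, 13, 14, 15, 26, 27, 28, 29, 30, 31, 32, 33, 34, 35, 36, 37, 38, 39, 40, 41, 42, 43, 44, 45, 56, 57,
    58, 59, 60]

/-- The effect of a Levi root on a coordinate. -/
def stepB20 (r : ℕ) (i : Fin 20) : Bool :=
  (commB r (rQ i) && (List.finRange 20).all fun j => !((ntab r j).map Prod.fst == some i)) ||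
    (List.finRange 20).any fun j => match ntab r j with
      | some (i', m) => decide (i' = i) && oneB r (rQ i) (rQ j) m &&
          (List.finRange 20).all fun j' => decide (j' = j) || !((ntab r j').map Prod.fst == some i)
      | none => false

theorem ntab_table : ∀ r ∈ leviRoots, r < 72 ∧ commB r 71 = true ∧ ∀ i, stepB20 r i = true := by
  decide +kernel

/-- The linear map of a Levi root element. -/
def op (r : ℕ) (a : K) : (Fin 20 → K) →+ (Fin 20 → K) where
  toFun c j := c j + match ntab r j with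
    | some (i, m) => (m : K) * a * c i
    | none => 0
  map_zero' := funext fun j => by
    rcases ntab r j with _ | ⟨i, m⟩ <;> simp
  map_add' c d := funext fun j => by
    simp only [Pi.add_apply]
    rcases ntab r j with _ | ⟨i, m⟩ <;> simp <;> ring

theorem op_apply (r : ℕ) (a : K) (c : Fin 20 → K) (j : Fin 20) :
    op r a c j = c j + match ntab r j with
      | some (i, m) => (m : K) * a * c i
      | none => 0 := rfl

theorem op_single_of (r : ℕ) (a b : K) (i j : Fin 20) :
    (op r a (Pi.single i b)) j = Pi.single (M := fun _ => K) i b j + (match ntab r j with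
      | some (i', m) => if i' = i then (m : K) * a * b else 0
      | none => 0) := by
  rw [op_apply]
  congr 1
  rcases ntab r j with _ | ⟨i', m⟩
  · rfl
  · by_cases h : i' = i
    · subst h; simp
    · simp [h]

theorem acts_X {r : ℕ} (hr : r ∈ leviRoots) (a : K) : CQ.Acts (X r a) (op r a) := by
  obtain ⟨hlt, h71, ht⟩ := ntab_table r hr
  refine ⟨?_, fun i b => ?_⟩
  · rintro _ ⟨z, rfl⟩
    rw [(X_commute h71 a z).eq, mul_inv_cancel_right]
    exact ⟨z, rfl⟩
  have h := ht i
  simp only [stepB20, Bool.or_eq_true, Bool.and_eq_true, List.all_eq_true, List.any_eq_true,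
    Bool.not_eq_true', beq_eq_false_iff_ne] at h
  rcases h with ⟨hc, hno⟩ | ⟨j, -, hj⟩
  · have e : op r a (Pi.single i b) = Pi.single i b := funext fun j => by
      rw [op_single_of]
      have := hno j (List.mem_finRange j)
      rcases hn : ntab r j with _ | ⟨i', m⟩
      · simp
      · rw [hn] at this
        have hi : i' ≠ i := fun e => this (by rw [e]; rfl)
        simp [hi]
    rw [e, show CQ.x i b = X (rQ i) b from rfl, (X_commute hc a b).eq, mul_inv_cancel_right]
    exact CQ.cls_x i b
  · rcases hn : ntab r j with _ | ⟨i', m⟩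
    · rw [hn] at hj; exact absurd hj Bool.false_ne_true
    rw [hn] at hj
    simp only [Bool.and_eq_true, decide_eq_true_eq, List.all_eq_true, Bool.or_eq_true, Bool.not_eq_true',
      beq_eq_false_iff_ne] at hj
    obtain ⟨⟨rfl, hone⟩, hall⟩ := hj
    have e : op r a (Pi.single i' b) = Pi.single i' b + Pi.single j ((m : K) * a * b) := funext fun k => by
      rw [op_single_of, Pi.add_apply]
      congr 1
      by_cases hk : k = j
      · subst hk; rw [hn]; simp
      · have := (hall k (List.mem_finRange k)).resolve_left hk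
        rw [Pi.single_eq_of_ne hk]
        rcases hn' : ntab r k with _ | ⟨i'', m'⟩
        · rfl
        · rw [hn'] at this
          exact if_neg fun e => this (by rw [e]; rfl)
    rw [e, show CQ.x i' b = X (rQ i') b from rfl, X_conj hone a b]
    exact CQ.cls_mul (CQ.cls_x i' b) (CQ.cls_x j _)

/-- A monomial map. -/
def monMap (σ : Fin 20 → Fin 20) (e : Fin 20 → K) : (Fin 20 → K) →+ (Fin 20 → K) where
  toFun c j := e j * c (σ j)
  map_zero' := funext fun j => by simp
  map_add' c d := funext fun j => by simp [mul_add]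

theorem monMap_single {σ : Fin 20 → Fin 20} (hσ : ∀ j, σ (σ j) = j) (e : Fin 20 → K) (i : Fin 20) (b : K) :
    monMap σ e (Pi.single i b) = Pi.single (σ i) (e (σ i) * b) := funext fun j => by
  show e j * Pi.single (M := fun _ => K) i b (σ j) = _
  by_cases hj : j = σ i
  · subst hj; rw [hσ, Pi.single_eq_same, Pi.single_eq_same]
  · rw [Pi.single_eq_of_ne (fun h => hj (by rw [← h, hσ])), Pi.single_eq_of_ne hj, mul_zero]

theorem acts_n {k : ℕ} (hk : k < 6) {σ : Fin 20 → Fin 20}
    (h : ∀ j, chevE6.reflectRoot k (rQ j) = rQ (σ j) ∧ σ (σ j) = j) (h71 : chevE6.reflectRoot k 71 = 71) :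
    ∃ e : Fin 20 → K, (∀ j, e j * e j = 1) ∧ CQ.Acts (ne' E6.good (chevE6.simple k) (1 : K)) (monMap σ e) := by
  choose e he hc _ using fun j : Fin 20 => exists_conj E6.good (F := K) (show k < chevE6.rank from hk)
    (show rQ j < chevE6.nroots from (rQ_facts j).1)
  obtain ⟨e71, -, hc71, -⟩ := exists_conj E6.good (F := K) (show k < chevE6.rank from hk)
    (show 71 < chevE6.nroots by decide +kernel)
  refine ⟨fun j => e (σ j), fun j => he _, ?_, fun i b => ?_⟩
  · rintro _ ⟨z, rfl⟩
    rw [hc71, h71]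
    exact ⟨_, rfl⟩
  · rw [monMap_single (fun j => (h j).2), show CQ.x i b = X (rQ i) b from rfl, hc i, (h i).1, (h i).2]
    exact CQ.cls_x _ _

/-- The diagonal map of a torus element. -/
def diagMap (w : Fin 20 → K) : (Fin 20 → K) →+ (Fin 20 → K) := monMap id w

theorem he_conj {k : ℕ} (hk : k < 6) {r : ℕ} (hr : r < 72) {a : K} (ha : a ≠ 0) (t : K) :
    he E6.good (chevE6.simple k) a * X r t * (he E6.good (chevE6.simple k) a)⁻¹ =
      X r (a ^ chevE6.cartan k r * t) := by
  rw [mul_inv_eq_iff_eq_mul]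
  exact he_conj_xe E6.good hk hr ha t

theorem acts_he {k : ℕ} (hk : k < 6) {a : K} (ha : a ≠ 0) :
    CQ.Acts (he E6.good (chevE6.simple k) a) (diagMap fun j => a ^ chevE6.cartan k (rQ j)) := by
  refine ⟨?_, fun i b => ?_⟩
  · rintro _ ⟨z, rfl⟩
    rw [he_conj hk (by norm_num) ha]
    exact ⟨_, rfl⟩
  · rw [diagMap, monMap_single (fun _ => rfl), id_eq, show CQ.x i b = X (rQ i) b from rfl,
      he_conj hk (rQ_facts i).1 ha]
    exact CQ.cls_x _ _

end Cfsg.Agent.MinDegree.TwoE6
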