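import Cfsg.Agent.Lib.MinDegree.TwoE6.Orbit

/-!
The size of an orbit, on the coordinates of level two, of the elements fixing both ends.
-/

set_option autoImplicit false
set_option linter.unusedSectionVars false
set_option maxRecDepth 4000

namespace Cfsg.Agent.MinDegree.TwoE6

open Cfsg.Lie Cfsg.Agent.Chev Cfsg.Agent.Chev.BNSetup

variable {K : Type*} [Field K] {φ : K ≃+* K}

/-- The roots lowering the top coordinate of level two. -/
def shiftList2 : List (ℕ × Fin 20) := [(14, 13), (29, 16)]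

theorem shift2_ok : clearOK [] 18 shiftList2 = true := by decide +kernel

theorem climb2_ok : climbB aRoots 10 18 = true := by decide +kernel

theorem low_two : ∀ j ∈ ([10, 11, 12, 15] : List (Fin 20)), (aRoots.any fun r =>
    (([10, 11, 12, 15] : List (Fin 20)).any fun i => ((ntab r i).map Prod.fst == some j)) &&
      ([13, 16, 18] : List (Fin 20)).all
        fun i => fixB r [0, 1, 2, 3, 4, 5, 6, 7, 8, 9, 13, 14, 16, 17, 19] i) = true := by
  decide +kernel

theorem cell2_oks :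
    cellOK p35 37 16 18 15 [18] [15, 16, 17, 18] = true ∧
    cellOK p16 36 11 15 10 [15, 16, 17, 18] [10, 11, 12, 13, 14, 15, 16, 17, 18] = true := by decide +kernel

/-- An orbit in level two is large, or not small. -/
theorem siegel_orbit [Fintype K] (hinv : ∀ x, φ (φ x) = x) (hmove : ∃ x, φ x ≠ x) {q : ℕ}
    (hk : Nat.card (kfix φ) = q) (hK : Fintype.card K = q ^ 2) {O : Finset (Fin 20 → K)}
    (hO : Closed φ aRoots (O : Set (Fin 20 → K)))
    (hsupp : ∀ c ∈ O, ∀ i, i ∉ ([10, 11, 12, 13, 14, 15, 16, 17, 18] : List (Fin 20)) → c i = 0)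
    (h35 : RefClosed (O : Set (Fin 20 → K)) p35) (h16 : RefClosed (O : Set (Fin 20 → K)) p16)
    (htor : ∀ a : K, φ a = a → a ≠ 0 → ∀ c ∈ O, a • c ∈ O)
    {c : Fin 20 → K} (hc : c ∈ O) (h0 : c ≠ 0) :
    2 * (q - 1) * q ^ 4 ≤ O.card ∨ (q - 1) * (q ^ 4 + q ^ 2 + 1) ≤ O.card := by
  classical
  obtain ⟨j, hj⟩ : ∃ j, c j ≠ 0 := by
    by_contra hcon
    push Not at hcon
    exact h0 (funext hcon)
  have hjm : j ∈ ([10, 11, 12, 13, 14, 15, 16, 17, 18] : List (Fin 20)) := by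
    by_contra hn
    exact hj (hsupp c hc j hn)
  obtain ⟨hlo, hhi⟩ := (show ∀ j ∈ ([10, 11, 12, 13, 14, 15, 16, 17, 18] : List (Fin 20)),
    (10 : Fin 20) ≤ j ∧ j ≤ 18 by decide +kernel) j hjm
  obtain ⟨c1, hc1, hc1t⟩ := exists_top hinv hmove hO climb2_ok hc hlo hhi hj
  let N : Finset (Fin 20 → K) := O.filter fun n => n 18 ≠ 0 ∧ ∀ e ∈ shiftList2, n e.2 = 0
  have hNmem : ∀ n, n ∈ N ↔ n ∈ O ∧ n 18 ≠ 0 ∧ ∀ e ∈ shiftList2, n e.2 = 0 := fun n => Finset.mem_filter
  obtain ⟨n0, hn0, -, hn0t, hn00⟩ := exists_normal hO shift2_ok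
    (by decide +kernel : ∀ e ∈ shiftList2, e.1 ∈ aRoots) hc1 (by simp) hc1t
  have hn0N : n0 ∈ N := (hNmem n0).2 ⟨hn0, hn0t ▸ hc1t, hn00⟩
  set a0 := n0 18 with ha0
  have ha00 : a0 ≠ 0 := hn0t ▸ hc1t
  have fx18 : ∀ n ∈ O, φ (n 18) = n 18 := fun n hn => fixed_coord (hO.rational n hn) (by decide +kernel)
  let A : Finset K := Finset.univ.filter fun a => φ a = a ∧ a ≠ 0
  have hA : A.card = q - 1 := by
    have e1 : A = (Finset.univ.filter fun a : K => φ a = a).erase 0 := by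
      ext a; simp [A, and_comm]
    rw [e1, Finset.card_erase_of_mem (by simp), ← hk]
    congr 1
    rw [← Fintype.card_subtype, ← Nat.card_eq_fintype_card]
    exact Nat.card_congr (Equiv.subtypeEquivRight fun a => Iff.rfl)
  have hscale : ∀ a ∈ A, ∀ n ∈ N, (a / a0) • n ∈ N := by
    intro a ha n hn
    obtain ⟨h1, h2, h3⟩ := (hNmem n).1 hn
    obtain ⟨haf, ha'⟩ := (Finset.mem_filter.1 ha).2
    exact (hNmem _).2 ⟨htor _ (by rw [map_div₀, haf, fx18 n0 hn0]) (div_ne_zero ha' ha00) n h1,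
      mul_ne_zero (div_ne_zero ha' ha00) h2, fun e he => by
        rw [Pi.smul_apply, smul_eq_mul, h3 e he, mul_zero]⟩
  have hbound : ∀ S : Finset (Fin 20 → K), S ⊆ N → (∀ n ∈ S, n 18 = a0) →
      (q - 1) * S.card ≤ N.card := by
    intro S hS hS0
    rw [← hA, ← Finset.card_product]
    refine Finset.card_le_card_of_injOn (fun p => (p.1 / a0) • p.2)
      (fun p hp => hscale p.1 (Finset.mem_product.1 hp).1 p.2 (hS (Finset.mem_product.1 hp).2)) ?_
    rintro ⟨a, n⟩ hp ⟨a', n'⟩ hp' h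
    simp only [Finset.mem_coe, Finset.mem_product] at hp hp'
    have h18 := congrFun h 18
    simp only [Pi.smul_apply, smul_eq_mul, hS0 n hp.2, hS0 n' hp'.2, div_mul_cancel₀ _ ha00] at h18
    subst h18
    obtain ⟨-, ha'⟩ := (Finset.mem_filter.1 hp.1).2
    obtain rfl : n = n' := funext fun i => mul_left_cancel₀ (div_ne_zero ha' ha00) (congrFun h i)
    rfl
  have hspread : q ^ 4 * N.card ≤ O.card := by
    obtain ⟨S, hS, hSp⟩ := exists_spread hinv hmove hO shift2_ok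
      (by decide +kernel : ∀ e ∈ shiftList2, e.1 ∈ aRoots) N
      fun n hn => ⟨((hNmem n).1 hn).1, by simp, ((hNmem n).1 hn).2.1, ((hNmem n).1 hn).2.2⟩
    refine le_trans (le_of_eq ?_) (Finset.card_le_card fun d hd => (hSp d hd).1)
    obtain ⟨-, -, -, -, -, -, -, -, -, -, b14, b29⟩ := cartan4_table
    rw [hS, shiftList2]
    simp only [List.map_cons, List.map_nil, List.prod_cons, List.prod_nil, card_param hinv hk hK, b14, b29,
      if_false]
    ring
  by_cases htwo : ∃ n ∈ N, n 18 = a0 ∧ n ≠ n0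
  · obtain ⟨n, hn, hnt, hne⟩ := htwo
    refine Or.inl ?_
    have := hbound {n, n0} (by simp [Finset.insert_subset_iff, hn, hn0N]) (by simp [hnt, ha0])
    rw [Finset.card_pair hne] at this
    calc 2 * (q - 1) * q ^ 4 = q ^ 4 * ((q - 1) * 2) := by ring
      _ ≤ q ^ 4 * N.card := Nat.mul_le_mul_left _ this
      _ ≤ O.card := hspread
  push Not at htwo
  have hrep : ∀ i ∈ ([0, 1, 2, 3, 4, 5, 6, 7, 8, 9, 13, 14, 16, 17, 19] : List (Fin 20)), n0 i = 0 := by
    intro i hi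
    have h13 : n0 13 = 0 := hn00 (14, 13) (by simp [shiftList2])
    have h16' : n0 16 = 0 := hn00 (29, 16) (by simp [shiftList2])
    rcases (show ∀ i ∈ ([0, 1, 2, 3, 4, 5, 6, 7, 8, 9, 13, 14, 16, 17, 19] : List (Fin 20)),
      i = 13 ∨ i = 16 ∨ pi20 i = 13 ∨ pi20 i = 16 ∨
        i ∉ ([10, 11, 12, 13, 14, 15, 16, 17, 18] : List (Fin 20)) by decide +kernel) i hi with
      rfl | rfl | h | h | h
    exacts [h13, h16', by rw [mem_V.1 (hO.rational n0 hn0) i, h, h13, map_zero, mul_zero],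
      by rw [mem_V.1 (hO.rational n0 hn0) i, h, h16', map_zero, mul_zero], hsupp n0 hn0 i h]
  have hlow : ∀ i ∈ ([10, 11, 12, 15] : List (Fin 20)), n0 i = 0 := by
    intro i hi
    by_contra hne
    have h := low_two i hi
    simp only [List.any_eq_true, Bool.and_eq_true, beq_iff_eq, List.all_eq_true] at h
    obtain ⟨r, hr, ⟨i', -, hnt⟩, hfix⟩ := h
    obtain ⟨⟨i'', m⟩, hm, rfl⟩ := Option.map_eq_some_iff.1 hnt
    obtain ⟨a, ha⟩ := exists_coord_ne hinv hmove (aRoots_fix r hr).1 hm hne (n0 i')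
    refine ha (congrFun ?_ i')
    have e18 : elMap φ r a.1 n0 18 = n0 18 := elMap_fix (hfix 18 (by simp)) hrep _
    refine htwo _ ((hNmem _).2 ⟨hO.move r hr a n0 hn0, by rw [e18]; exact ha00, fun e he => ?_⟩) e18
    rw [elMap_fix (hfix e.2 ((show ∀ e ∈ shiftList2, e.2 ∈ ([13, 16, 18] : List (Fin 20)) by
      decide +kernel) e he)) hrep, hn00 e he]
  have hpure : n0 = Pi.single 18 a0 := funext fun i => by
    by_cases hi : i = 18
    · subst hi; rw [Pi.single_eq_same]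
    rw [Pi.single_eq_of_ne hi]
    rcases (show ∀ i : Fin 20, i ≠ 18 → i ∈ ([10, 11, 12, 15] : List (Fin 20)) ∨
        i ∈ ([0, 1, 2, 3, 4, 5, 6, 7, 8, 9, 13, 14, 16, 17, 19] : List (Fin 20)) by decide +kernel) i hi with h | h
    exacts [hlow i h, hrep i h]
  refine Or.inr ?_
  let F0 : Finset (Fin 20 → K) := A.image fun a => (a / a0) • n0
  have hF0card : F0.card = q - 1 := by
    rw [Finset.card_image_of_injOn ?_, hA]
    intro a _ b _ h
    have h' := congrFun h 18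
    simp only [Pi.smul_apply, smul_eq_mul, ← ha0, div_mul_cancel₀ _ ha00] at h'
    exact h'
  have hF0 : ∀ c ∈ F0, c ∈ (O : Set (Fin 20 → K)) ∧ c 18 ≠ 0 ∧ ∀ i, i ∉ ([18] : List (Fin 20)) → c i = 0 := by
    intro c hc
    obtain ⟨a, ha, rfl⟩ := Finset.mem_image.1 hc
    have h1 := (hNmem _).1 (hscale a ha n0 hn0N)
    refine ⟨h1.1, h1.2.1, fun i hi => ?_⟩
    rw [Pi.smul_apply, hpure, Pi.single_eq_of_ne (by simpa using hi), smul_zero]
  obtain ⟨k35, k16⟩ := cell2_oks
  obtain ⟨-, bij35, bij16⟩ := perm_bij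
  obtain ⟨e35, he35, hO35⟩ := h35
  obtain ⟨e16, he16, hO16⟩ := h16
  obtain ⟨F15, c15, h15⟩ := exists_cell hinv hmove hO bij35 he35 hO35 (by decide +kernel : 37 ∈ aRoots) k35 hF0
  obtain ⟨F10, c10, h10⟩ := exists_cell hinv hmove hO bij16 he16 hO16 (by decide +kernel : 36 ∈ aRoots) k16 h15
  obtain ⟨-, -, -, -, -, -, -, -, b36, b37, -, -⟩ := cartan4_table
  simp only [card_param hinv hk hK, b36, b37, if_false] at c15 c10
  have d15 : Disjoint F0 F15 := Finset.disjoint_left.2 fun c hc hc' =>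
    (h15 c hc').2.1 ((hF0 c hc).2.2 15 (by decide +kernel))
  have d10 : Disjoint (F0 ∪ F15) F10 := Finset.disjoint_left.2 fun c hc hc' => by
    rcases Finset.mem_union.1 hc with h | h
    · exact (h10 c hc').2.1 ((hF0 c h).2.2 10 (by decide +kernel))
    · exact (h10 c hc').2.1 ((h15 c h).2.2 10 (by decide +kernel))
  have hsub : F0 ∪ F15 ∪ F10 ⊆ O := by
    simp only [Finset.union_subset_iff, and_assoc]
    exact ⟨fun c hc => (hF0 c hc).1, fun c hc => (h15 c hc).1, fun c hc => (h10 c hc).1⟩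
  refine le_trans (le_of_eq ?_) (Finset.card_le_card hsub)
  rw [Finset.card_union_of_disjoint d10, Finset.card_union_of_disjoint d15, c10, c15, hF0card]
  ring

end Cfsg.Agent.MinDegree.TwoE6
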