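import Cfsg.Agent.Lib.MinDegree.TwoE6.SiegelY
import Cfsg.Agent.Lib.MinDegree.TwoE6.SiegelOrbit
import Cfsg.Agent.Lib.MinDegree.TwoE6.FixedTwo

/-!
The weights of the middle unipotent group on the vectors fixed by the special subgroup.
-/

set_option autoImplicit false
set_option linter.unusedSectionVars false
set_option maxRecDepth 4000

namespace Cfsg.Agent.MinDegree.TwoE6

open Cfsg.Lie Cfsg.Agent.Chev Cfsg.Agent.Chev.BNSetup Module

variable {K : Type*} [Field K] {φ : K ≃+* K}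

theorem mono_nn_sign (j : Fin 4) : ∀ s < 72, ∃ e : K, e * e = 1 ∧ ∀ a,
    (nn φ j : GL chevE6.Idx K) * X s a * (nn φ j : GL chevE6.Idx K)⁻¹ = X (wJ j s) (e * a) := by
  suffices key : ∀ l : List ℕ, (∀ k ∈ l, k < 6) → ∀ s < 72, l.foldr chevE6.reflectRoot s < 72 ∧
      ∃ e : K, e * e = 1 ∧ ∀ a, (l.map fun k => ne' E6.good (chevE6.simple k) (1 : K)).prod * X s a *
        ((l.map fun k => ne' E6.good (chevE6.simple k) (1 : K)).prod)⁻¹ =
          X (l.foldr chevE6.reflectRoot s) (e * a) from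
    fun s hs => (key _ (by revert j; decide +kernel) s hs).2
  intro l hl s hs
  induction l with
  | nil => exact ⟨hs, 1, one_mul _, fun a => by simp⟩
  | cons k l ih =>
    obtain ⟨hlt, e, he, hx⟩ := ih fun k' h => hl k' (List.mem_cons_of_mem _ h)
    obtain ⟨e', he', hx', -⟩ := exists_conj E6.good (F := K) (show k < chevE6.rank from hl k List.mem_cons_self)
      (show l.foldr chevE6.reflectRoot s < chevE6.nroots from hlt)
    have hx'' : ∀ t, ne' E6.good (chevE6.simple k) (1 : K) * X (l.foldr chevE6.reflectRoot s) t *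
        (ne' E6.good (chevE6.simple k) 1)⁻¹ = X (chevE6.reflectRoot k (l.foldr chevE6.reflectRoot s)) (e' * t) := hx'
    refine ⟨E6.good.reflectRoot_lt (hl k List.mem_cons_self) hlt, e' * e, by
      rw [mul_mul_mul_comm, he', he, one_mul], fun a => ?_⟩
    rw [List.map_cons, List.prod_cons, mul_inv_rev, mul_assoc e', List.foldr_cons, ← hx'', ← hx]
    group

/-- An element normalising the middle unipotent group. -/
def NY (g : GL chevE6.Idx K) : Prop := ∀ i ∈ L1, ∀ a : K, ∃ e, g * CY.x i a * g⁻¹ = Yg e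

theorem NY.conj {g : GL chevE6.Idx K} (hg : NY g) (d : Fin 20 → K) : ∃ e, g * Yg d * g⁻¹ = Yg e := by
  suffices key : ∀ l : List (Fin 20), ∃ e, g * CY.lp l d * g⁻¹ = Yg e from key _
  intro l
  induction l with
  | nil => exact ⟨0, by rw [Yg_zero, show CY.lp [] d = 1 from rfl, mul_one, mul_inv_cancel]⟩
  | cons i l ih =>
    obtain ⟨e, he⟩ := ih
    obtain ⟨e', he'⟩ : ∃ e', g * CY.x i (d i) * g⁻¹ = Yg e' := by
      by_cases hi : i ∈ L1
      · exact hg i hi _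
      · exact ⟨0, by rw [CY_x_one hi, mul_one, mul_inv_cancel, Yg_zero]⟩
    refine ⟨e' + e, ?_⟩
    rw [← Yg_add, ← he, ← he', show CY.lp (i :: l) d = CY.x i (d i) * CY.lp l d from rfl]
    group

theorem NY.mul {g h : GL chevE6.Idx K} (hg : NY g) (hh : NY h) : NY (g * h) := by
  intro i hi a
  obtain ⟨e, he⟩ := hh i hi a
  obtain ⟨e', he'⟩ := hg.conj e
  exact ⟨e', by rw [← he', ← he]; group⟩

theorem X_yr {j : Fin 20} (hj : j ∈ L1) (b : K) : X (yr j) b = Yg (Pi.single j ((ym j : K) * b)) := by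
  rw [Yg_single, CY_x hj, ← mul_assoc, sign_cast_sq (yr_facts j hj).2.2.2.2.1, one_mul]

theorem aRoots_yr : ∀ r ∈ aRoots, bar r ∈ aRoots ∧ ∀ i ∈ L1, commB r (yr i) = true ∨
    ∃ j ∈ L1, ∃ c ∈ chevE6.commTerms r (yr i), oneB r (yr i) (yr j) c.2.1 = true := by
  decide +kernel

theorem NY_X {r : ℕ} (hr : r ∈ aRoots) (a : K) : NY (X r a) := by
  intro i hi b
  rw [CY_x hi]
  rcases (aRoots_yr r hr).2 i hi with h | ⟨j, hj, c, -, h⟩
  · exact ⟨Pi.single i b, by rw [(X_commute h a _).eq, mul_inv_cancel_right, Yg_single, CY_x hi]⟩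
  · refine ⟨Pi.single i b + Pi.single j ((ym j : K) * ((c.2.1 : K) * a * ((ym i : K) * b))), ?_⟩
    rw [X_conj h, ← Yg_add, ← X_yr hj, Yg_single, CY_x hi]

theorem aRoots_maps : ∀ r ∈ aRoots,
    (∀ i : Fin 20, !((ntab r i).map Prod.fst == some 0)) ∧
      ∀ i : Fin 20, i ∈ L2 ∨ (L2.all fun k => !((ntab r i).map Prod.fst == some k)) := by
  decide +kernel

theorem op_zero_single {r : ℕ} (hr : r ∈ aRoots) (a b : K) :
    op r a (Pi.single 0 b) = (Pi.single 0 b : Fin 20 → K) := funext fun j => by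
  have h := (aRoots_maps r hr).1 j
  rw [op_single_of]
  rcases hn : ntab r j with _ | ⟨i, m⟩
  · simp
  · have hi : i ≠ 0 := fun e => by simp [hn, e] at h
    simp [hi]

theorem op_supp {r : ℕ} (hr : r ∈ aRoots) (a : K) {c : Fin 20 → K} (hc : ∀ i, i ∉ L2 → c i = 0) :
    ∀ i, i ∉ L2 → op r a c i = 0 := by
  intro i hi
  have h := ((aRoots_maps r hr).2 i).resolve_left hi
  rw [op_apply, hc i hi]
  rcases hn : ntab r i with _ | ⟨k, m⟩
  · simp
  · have hk : k ∉ L2 := fun hk => by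
      have := List.all_eq_true.1 h k hk
      simp [hn] at this
    simp [hc k hk]

theorem omega_eq (c d : Fin 20 → K) : omega c d = ∑ j, (wcoef (opp20 j) j : K) * c (opp20 j) * d j := by
  conv_lhs => rw [← Finset.univ_sum_single d]
  have : ∀ s : Finset (Fin 20), omega c (∑ j ∈ s, Pi.single j (d j)) =
      ∑ j ∈ s, (wcoef (opp20 j) j : K) * c (opp20 j) * d j := by
    intro s
    induction s using Finset.induction_on with
    | empty => simp [omega]
    | insert x s hx ih => rw [Finset.sum_insert hx, Finset.sum_insert hx, omega_add_right, omega_single', ih]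
  exact this _

theorem opp_levels : ∀ j : Fin 20, (opp20 j ∈ L2 → j ∈ L1) ∧ (opp20 j ∈ L1 → j ∈ L2) := by decide +kernel

theorem omega_L2 {c : Fin 20 → K} (hc : ∀ i, i ∉ L2 → c i = 0) {d d' : Fin 20 → K}
    (h : ∀ j ∈ L1, d j = d' j) : omega c d = omega c d' := by
  rw [omega_eq, omega_eq]
  refine Finset.sum_congr rfl fun j _ => ?_
  by_cases hj : j ∈ L1
  · rw [h j hj]
  · rw [hc _ fun h' => hj ((opp_levels j).1 h'), mul_zero, zero_mul, zero_mul]

variable [Fintype K] (hinv : ∀ x, φ (φ x) = x) (hmove : ∃ x, φ x ≠ x)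
variable {W : Type*} [AddCommGroup W] [Module ℂ W] [FiniteDimensional ℂ W]
variable (ρ : Representation ℂ ↥(GT φ) W)

variable (φ) in
/-- The rational coordinates on a list. -/
def Lv (l : List (Fin 20)) : AddSubgroup (Fin 20 → K) where
  carrier := {c | c ∈ V φ ∧ ∀ i, i ∉ l → c i = 0}
  zero_mem' := ⟨zero_mem _, fun _ _ => rfl⟩
  add_mem' := fun ha hb => ⟨add_mem ha.1 hb.1, fun i hi => by simp [ha.2 i hi, hb.2 i hi]⟩
  neg_mem' := fun ha => ⟨neg_mem ha.1, fun i hi => by simp [ha.2 i hi]⟩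

include hinv hmove in
theorem exists_omega_level {l l' : List (Fin 20)} (hl' : ∀ i ∈ l', pi20 i ∈ l')
    (hopp : ∀ j, opp20 j ∈ l → j ∈ l') {c : Fin 20 → K} (hc : c ∈ Lv φ l) (h0 : c ≠ 0) {t : K}
    (ht : φ t = t) : ∃ d ∈ Lv φ l', omega c d = t := by
  obtain ⟨d, hd, e⟩ := exists_omega_ne hinv hmove hc.1 h0 ht
  refine ⟨mask l' d, ⟨mask_mem hl' hd, fun i hi => by rw [mask, if_neg hi]⟩, ?_⟩
  rw [← e, omega_eq, omega_eq]
  refine Finset.sum_congr rfl fun j _ => ?_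
  by_cases hj : j ∈ l'
  · rw [mask, if_pos hj]
  · rw [hc.2 _ fun h' => hj (hopp j h'), mul_zero, zero_mul, zero_mul]

/-- The character given by the commutator form between two levels. -/
def chiL (ψ : AddChar (kfix φ) ℂ) {l l' : List (Fin 20)} (c : Lv φ l) : AddChar (Lv φ l') ℂ where
  toFun d := chi hinv ψ ⟨c.1, c.2.1⟩ ⟨d.1, d.2.1⟩
  map_zero_eq_one' := (chi hinv ψ ⟨c.1, c.2.1⟩).map_zero_eq_one
  map_add_eq_mul' a b := (chi hinv ψ ⟨c.1, c.2.1⟩).map_add_eq_mul ⟨a.1, a.2.1⟩ ⟨b.1, b.2.1⟩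

include hmove in
theorem chiL_injective {ψ : AddChar (kfix φ) ℂ} (hψ : ψ ≠ 1) {l l' : List (Fin 20)}
    (hl' : ∀ i ∈ l', pi20 i ∈ l') (hopp : ∀ j, opp20 j ∈ l → j ∈ l') :
    Function.Injective (chiL (φ := φ) hinv ψ (l := l) (l' := l')) := by
  intro c c' h
  by_contra hne
  obtain ⟨u, hu⟩ : ∃ u, ψ u ≠ 1 := by
    by_contra hcon
    push Not at hcon
    exact hψ (DFunLike.ext _ _ fun u => by rw [hcon u, AddChar.one_apply])
  obtain ⟨d, hd, e⟩ := exists_omega_level hinv hmove hl' hopp (c - c').2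
    (fun e => hne (sub_eq_zero.1 (Subtype.ext e))) (t := u.1) u.2
  have h1 : ψ (omk hinv ⟨c.1, c.2.1⟩ ⟨d, hd.1⟩) = ψ (omk hinv ⟨c'.1, c'.2.1⟩ ⟨d, hd.1⟩) :=
    DFunLike.congr_fun h ⟨d, hd⟩
  rw [show omk hinv ⟨c.1, c.2.1⟩ ⟨d, hd.1⟩ = omk hinv ⟨c'.1, c'.2.1⟩ ⟨d, hd.1⟩ + u from Subtype.ext (by
    show omega c.1 d = omega c'.1 d + u.1
    rw [← e, ← omega_add]
    congr 1
    simp), AddChar.map_add_eq_mul] at h1
  exact hu (mul_eq_left₀ (AddChar.val_isUnit ψ _).ne_zero |>.1 h1)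

include hmove in
theorem chiL_bijective {ψ : AddChar (kfix φ) ℂ} (hψ : ψ ≠ 1) :
    Function.Bijective (chiL (φ := φ) hinv ψ (l := L2) (l' := L1)) := by
  have := Fintype.ofFinite (Lv φ L1)
  have := Fintype.ofFinite (Lv φ L2)
  have h12 := chiL_injective hinv hmove hψ (l := L2) (l' := L1) L_pi.1 fun j h => (opp_levels j).1 h
  have h21 := chiL_injective hinv hmove hψ (l := L1) (l' := L2) L_pi.2 fun j h => (opp_levels j).2 h
  refine (Fintype.bijective_iff_injective_and_card _).2 ⟨h12, le_antisymm (Fintype.card_le_of_injective _ h12) ?_⟩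
  rw [AddChar.card_eq]
  exact (Fintype.card_le_of_injective _ h21).trans (le_of_eq AddChar.card_eq)

/-- The operators of the middle unipotent group. -/
noncomputable def yop (d : Lv φ L1) : W →ₗ[ℂ] W := ρ ⟨Yg d.1, Yg_mem hinv ⟨d.1, d.2.1⟩ d.2.2⟩

theorem isOp_yop : IsOp (yop hinv ρ) := by
  refine ⟨?_, fun c d => ?_⟩
  · rw [yop, show (⟨Yg ((0 : Lv φ L1) : Fin 20 → K), _⟩ : ↥(GT φ)) = 1 from Subtype.ext Yg_zero, map_one]
  · rw [yop, yop, yop, ← map_mul]
    exact congrArg ρ (Subtype.ext (Yg_add c.1 d.1).symm)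

include hinv hmove in
theorem Norm.mem_MQ {g : GL chevE6.Idx K} {M : (Fin 20 → K) →+ (Fin 20 → K)} {l : K} (hg : Norm φ g M l)
    {v : W} (hv : v ∈ MQ hinv ρ) : ρ ⟨g, hg.mem⟩ v ∈ MQ hinv ρ := by
  simp only [MQ, Submodule.mem_map, Submodule.coe_subtype] at hv ⊢
  obtain ⟨y, hy, rfl⟩ := hv
  obtain ⟨ψ, -⟩ : ∃ ψ : AddChar (kfix φ) ℂ, True := ⟨1, trivial⟩
  rw [← chi_zero hinv ψ] at hy ⊢
  exact ⟨_, map_weight hinv hmove ρ hg (c' := 0) (show M (0 : V φ).1 = l • (0 : V φ).1 by simp) hy, rfl⟩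

theorem yop_MQ (hmove : ∃ x, φ x ≠ x) (d : Lv φ L1) {v : W} (hv : v ∈ MQ hinv ρ) :
    yop hinv ρ d v ∈ MQ hinv ρ := by
  obtain ⟨M, hM, hz, -⟩ := Yg_acts d.1
  exact Norm.mem_MQ hinv hmove ρ (g := Yg d.1) (M := M) (l := 1)
    ⟨Yg_mem hinv ⟨d.1, d.2.1⟩ d.2.2, hM, fun z => by rw [(hz z).eq, mul_inv_cancel_right, one_mul],
      map_one φ, one_ne_zero⟩ hv

/-- The multiplicity of a weight of the middle unipotent group on the fixed vectors. -/
noncomputable def E (ψ : AddChar (kfix φ) ℂ) (c : Lv φ L2) : ℕ :=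
  finrank ℂ (MQ hinv ρ ⊓ eigen (yop hinv ρ) (chiL hinv ψ c) : Submodule ℂ W)

include hmove in
theorem E_le {g : GL chevE6.Idx K} {M : (Fin 20 → K) →+ (Fin 20 → K)} {l : K} (hg : Norm φ g M l) (hN : NY g)
    {b : K} (hb : b ≠ 0) (hM0 : ∀ x, M (Pi.single 0 x) = Pi.single 0 (b * x)) (ψ : AddChar (kfix φ) ℂ)
    {c c' : Lv φ L2} (hc : M c.1 = (l * b⁻¹) • c'.1) : E hinv ρ ψ c ≤ E hinv ρ ψ c' := by
  have hmap : ∀ v ∈ (MQ hinv ρ ⊓ eigen (yop hinv ρ) (chiL hinv ψ c) : Submodule ℂ W),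
      ρ ⟨g, hg.mem⟩ v ∈ (MQ hinv ρ ⊓ eigen (yop hinv ρ) (chiL hinv ψ c') : Submodule ℂ W) := by
    rintro v ⟨hv, hv'⟩
    refine ⟨hg.mem_MQ hinv hmove ρ hv, mem_eigen.2 fun d' => ?_⟩
    -- the preimage of the parameter
    have hfun : ∀ d : Lv φ L1, ∃ d1 : Lv φ L1, g * Yg d.1 * g⁻¹ = Yg d1.1 ∧
        (omk hinv ⟨c'.1, c'.2.1⟩ ⟨d1.1, d1.2.1⟩ = omk hinv ⟨c.1, c.2.1⟩ ⟨d.1, d.2.1⟩) := by
      intro d
      obtain ⟨e, he⟩ := hN.conj d.1
      have hem : Yg e ∈ GT φ := he ▸ Subgroup.mul_mem _ (Subgroup.mul_mem _ hg.mem (Yg_mem hinv ⟨d.1, d.2.1⟩ d.2.2))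
        (Subgroup.inv_mem _ hg.mem)
      refine ⟨⟨mask L1 e, mask_of_mem hinv hem, fun i hi => by rw [mask, if_neg hi]⟩, by
        rw [he]; exact (Yg_mask e).symm, Subtype.ext ?_⟩
      show omega c'.1 (mask L1 e) = omega c.1 d.1
      obtain ⟨Md, hMd, -, hvd⟩ := Yg_acts d.1
      obtain ⟨Me, hMe, -, hve⟩ := Yg_acts e
      have e1 : M (Md (Pi.single 0 1)) = Me (M (Pi.single 0 1)) := by
        refine cls_unique ((hg.acts.mul CQ hMd).cls CQ (CQ.cls_el (Pi.single 0 1))) ?_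
        rw [show g * Yg d.1 = Yg e * g from mul_inv_eq_iff_eq_mul.1 he]
        exact (hMe.mul CQ hg.acts).cls CQ (CQ.cls_el (Pi.single 0 1))
      have h1 := hg.omega_map c.1 (Md (Pi.single 0 1))
      rw [hc, e1, hM0, mul_one, omega_smul] at h1
      rw [omega_L2 c.2.2 (d := Md (Pi.single 0 1)) (d' := d.1) fun j hj => by
          rw [(hvd _).2 j hj, Pi.single_eq_same,
            Pi.single_eq_of_ne (fun e : j = 0 => absurd (e ▸ hj) (by decide)), zero_add, mul_one],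
        omega_L2 c'.2.2 (d := Me (Pi.single 0 b)) (d' := b • mask L1 e) fun j hj => by
          rw [(hve _).2 j hj, Pi.single_eq_same,
            Pi.single_eq_of_ne (fun e : j = 0 => absurd (e ▸ hj) (by decide)), zero_add, Pi.smul_apply, mask,
            if_pos hj, smul_eq_mul, mul_comm],
        omega_smul_right] at h1
      refine mul_left_cancel₀ hg.ne_zero ?_
      rw [← h1]
      field_simp
    choose f hf hfo using hfun
    have hinj : Function.Injective f := fun x y e => by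
      have h := (hf x).trans ((congrArg (fun z : Lv φ L1 => Yg z.1) e).trans (hf y).symm)
      rw [mul_left_inj, mul_right_inj] at h
      obtain ⟨M', hM', -, hv'⟩ := Yg_acts x.1
      obtain ⟨M'', hM'', -, hv''⟩ := Yg_acts y.1
      have e2 : M' (Pi.single 0 1) = M'' (Pi.single 0 1) := by
        refine cls_unique (hM'.cls CQ (CQ.cls_el (Pi.single 0 1))) ?_
        rw [h]
        exact hM''.cls CQ (CQ.cls_el (Pi.single 0 1))
      refine Subtype.ext (funext fun j => ?_)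
      by_cases hj : j ∈ L1
      · have e3 := congrFun e2 j
        rw [(hv' _).2 j hj, (hv'' _).2 j hj, Pi.single_eq_same, mul_one, mul_one] at e3
        exact add_left_cancel e3
      · rw [x.2.2 j hj, y.2.2 j hj]
    obtain ⟨d, rfl⟩ := Finite.surjective_of_injective hinj d'
    have hchar : chiL hinv ψ c' (f d) = chiL hinv ψ c d := congrArg ψ (hfo d)
    rw [hchar, ← map_smul, ← mem_eigen.1 hv' d]
    show ρ ⟨Yg (f d).1, _⟩ (ρ ⟨g, hg.mem⟩ v) = ρ ⟨g, hg.mem⟩ (ρ ⟨Yg d.1, _⟩ v)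
    rw [← rho_mul, ← rho_mul]
    congr 2
    exact Subtype.ext (by
      show Yg (f d).1 * g = g * Yg d.1
      rw [← hf d, inv_mul_cancel_right])
  exact LinearMap.finrank_le_finrank_of_injective (f := (ρ ⟨g, hg.mem⟩).restrict hmap)
    fun v w h => Subtype.ext (rho_inj ρ _ (congrArg Subtype.val h))

theorem nn_tables : ∀ j ∈ ([2, 3] : List (Fin 4)), (∀ i : Fin 20, wJ j (rQ i) = rQ (if j = 2 then p35 i else p16 i)) ∧
    wJ j 71 = 71 ∧ wJ j 46 = 46 ∧
    (∀ i ∈ L1, (if j = 2 then p35 i else p16 i) ∈ L1 ∧ wJ j (yr i) = yr (if j = 2 then p35 i else p16 i)) ∧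
    (∀ i, i ∉ L2 → (if j = 2 then p35 i else p16 i) ∉ L2) ∧ (if j = 2 then p35 0 else p16 0) = 0 ∧
    ∀ i, (if j = 2 then p35 (p35 i) else p16 (p16 i)) = i := by
  decide +kernel

include hinv hmove in
theorem MQ_bound {q : ℕ} (hk : Nat.card (kfix φ) = q) (hK : Fintype.card K = q ^ 2)
    (hY : ∃ v ∈ MQ hinv ρ, ∃ r ∈ yRoots, ¬ F ρ v r) :
    (q - 1) * (q ^ 4 + q ^ 2 + 1) ≤ finrank ℂ (MQ hinv ρ) := by
  classical
  let _ := Fintype.ofFinite (kfix φ)
  let _ := Fintype.ofFinite (Lv φ L1)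
  let _ := Fintype.ofFinite (Lv φ L2)
  obtain ⟨ψ, hψ⟩ : ∃ ψ : AddChar (kfix φ) ℂ, ψ ≠ 1 := by
    have : Nontrivial (AddChar (kfix φ) ℂ) := Fintype.one_lt_card_iff_nontrivial.1 (by
      rw [AddChar.card_eq]; exact Fintype.one_lt_card)
    exact exists_ne 1
  have hbij := chiL_bijective hinv hmove hψ
  -- a nontrivial weight
  obtain ⟨c0, hc0, hE0⟩ : ∃ c : Lv φ L2, c ≠ 0 ∧ E hinv ρ ψ c ≠ 0 := by
    obtain ⟨v, hv, r, hr, hF⟩ := hY
    obtain ⟨i, hi, rfl⟩ := (show ∀ r ∈ yRoots, ∃ i ∈ L1, yr i = r by decide +kernel) r hr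
    simp only [F, not_forall] at hF
    obtain ⟨g, ⟨a, b, hg⟩, hgv⟩ := hF
    obtain ⟨-, hb, hπ, -⟩ := yr_facts i hi
    rw [hb, X_yr hi, X_yr hπ, Yg_add, ← Yg_mask] at hg
    have hmem : Yg (mask L1 (Pi.single i ((ym i : K) * a) + Pi.single (pi20 i) ((ym (pi20 i) : K) * b))) ∈ GT φ :=
      hg ▸ g.2
    set d : Lv φ L1 := ⟨_, (show mask L1 (mask L1 (Pi.single i ((ym i : K) * a) +
        Pi.single (pi20 i) ((ym (pi20 i) : K) * b))) ∈ V φ from mask_of_mem hinv hmem),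
      fun k hk' => by rw [mask, if_neg hk']⟩
    have hne : yop hinv ρ d v ≠ v := by
      rw [yop, show (⟨Yg d.1, _⟩ : ↥(GT φ)) = g from Subtype.ext (by
        show Yg (mask L1 (mask L1 _)) = _
        rw [Yg_mask, ← hg])]
      exact hgv
    obtain ⟨χ, hχ, y, hy, hy0, hy'⟩ := exists_eigen_ne_one (isOp_yop hinv ρ)
      (M := MQ hinv ρ) (fun a x hx => yop_MQ hinv ρ hmove a hx) hv hne
    obtain ⟨c, rfl⟩ := hbij.2 χ
    refine ⟨c, fun h => hχ ?_, fun h => hy0 ?_⟩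
    · subst h
      exact DFunLike.ext _ _ fun d => (congrArg (fun χ => χ ⟨d.1, d.2.1⟩) (chi_zero hinv ψ)).trans rfl
    · have h' : (MQ hinv ρ ⊓ eigen (yop hinv ρ) (chiL hinv ψ c) : Submodule ℂ W) = ⊥ :=
        Submodule.finrank_eq_zero.1 h
      exact (Submodule.mem_bot ℂ).1 (h' ▸ ⟨hy, hy'⟩)
  let O : Finset (Fin 20 → K) := (Finset.univ.filter fun c : Lv φ L2 => E hinv ρ ψ c ≠ 0).image Subtype.val
  have hO' : ∀ c : Fin 20 → K, c ∈ O ↔ ∃ h : c ∈ Lv φ L2, E hinv ρ ψ ⟨c, h⟩ ≠ 0 := fun c =>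
    ⟨fun h => by
      obtain ⟨x, hx, rfl⟩ := Finset.mem_image.1 h
      exact ⟨x.2, (Finset.mem_filter.1 hx).2⟩,
    fun ⟨h, he⟩ => Finset.mem_image.2 ⟨⟨c, h⟩, Finset.mem_filter.2 ⟨Finset.mem_univ _, he⟩, rfl⟩⟩
  -- closure
  have hclosed : ∀ {g : GL chevE6.Idx K} {M : (Fin 20 → K) →+ (Fin 20 → K)} {l : K}, Norm φ g M l → NY g →
      ∀ {b : K}, b ≠ 0 → φ b = b → (∀ x, M (Pi.single 0 x) = Pi.single 0 (b * x)) →
      (∀ c : Fin 20 → K, (∀ i, i ∉ L2 → c i = 0) → ∀ i, i ∉ L2 → M c i = 0) →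
      ∀ c ∈ O, (b * l⁻¹) • M c ∈ O := by
    intro g M l hg hN b hb hbf hM0 hsupp c hc
    obtain ⟨hcm, hcE⟩ := (hO' c).1 hc
    have hm : (b * l⁻¹) • M c ∈ Lv φ L2 := ⟨V_smul (by rw [map_mul, map_inv₀, hbf, hg.fixed]) (hg.map_mem hinv hcm.1),
      fun i hi => by rw [Pi.smul_apply, hsupp c hcm.2 i hi, smul_zero]⟩
    refine (hO' _).2 ⟨hm, fun h0 => hcE (Nat.le_zero.1 ((E_le hinv hmove ρ hg hN hb hM0 ψ (c' := ⟨_, hm⟩) ?_).trans
      h0.le))⟩
    show M c = (l * b⁻¹) • (b * l⁻¹) • M c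
    rw [smul_smul, show l * b⁻¹ * (b * l⁻¹) = 1 by field_simp [hg.ne_zero, hb], one_smul]
  have hC : Closed φ aRoots (O : Set (Fin 20 → K)) := by
    refine ⟨fun c hc => ((hO' c).1 hc).1.1, fun r hr a c hc => ?_⟩
    have hlr := (aRoots_fix r hr).1
    have hb' := (aRoots_yr r hr).1
    have hN : NY (el φ r a.1) := by
      rw [el]
      split_ifs
      exacts [NY_X hr _, (NY_X hr _).mul (NY_X hb' _)]
    have h := hclosed (norm_el hinv hlr a) hN one_ne_zero (map_one φ) (fun x => by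
        rw [one_mul, elMap]
        split_ifs
        · exact op_zero_single hr _ _
        · rw [AddMonoidHom.comp_apply, op_zero_single hb' _ _, op_zero_single hr _ _])
      (fun c hc i hi => by
        rw [elMap]
        split_ifs
        · exact op_supp hr _ hc i hi
        · exact op_supp hr _ (op_supp hb' _ hc) i hi) c hc
    simpa using h
  have href : ∀ j ∈ ([2, 3] : List (Fin 4)),
      RefClosed (O : Set (Fin 20 → K)) (fun i => if j = 2 then p35 i else p16 i) := by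
    intro j hj
    obtain ⟨t1, t2, t3, t4, t5, t6, t7⟩ := nn_tables j hj
    have hinvol : ∀ x, (if j = 2 then p35 (if j = 2 then p35 x else p16 x) else p16 (if j = 2 then p35 x else p16 x)) = x := by
      intro x
      have := t7 x
      split_ifs at this ⊢ <;> exact this
    choose e he2 he using fun i : Fin 20 => mono_nn_sign (φ := φ) j (rQ i) (rQ_facts i).1
    obtain ⟨l, hl2, hl⟩ := mono_nn_sign (φ := φ) j 71 (by norm_num)
    have hfix : ∀ {x : K}, x * x = 1 → φ x = x := fun h => by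
      rcases mul_self_eq_one_iff.1 h with h | h <;> rw [h] <;> simp
    set σ : Fin 20 → Fin 20 := fun i => if j = 2 then p35 i else p16 i with hσ
    have hσσ : ∀ x, σ (σ x) = x := hinvol
    have hN : Norm φ (nn φ j : GL chevE6.Idx K) (monMap σ fun i => e (σ i)) l := by
      refine ⟨(nn φ j).2, ⟨?_, fun i a => ?_⟩, fun z => by rw [hl, t2], hfix hl2, left_ne_zero_of_mul_eq_one hl2⟩
      · rintro _ ⟨z, rfl⟩
        rw [hl, t2]
        exact ⟨_, rfl⟩
      · rw [monMap_single hσσ, show CQ.x i a = X (rQ i) a from rfl, he, t1, hσσ]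
        exact CQ.cls_x _ _
    have hNY : NY (nn φ j : GL chevE6.Idx K) := by
      intro i hi a
      obtain ⟨ei, -, hei⟩ := mono_nn_sign (φ := φ) j (yr i) ((ntab_table _ (yr_facts i hi).1).1)
      rw [CY_x hi, hei, (t4 i hi).2]
      exact ⟨_, X_yr (t4 i hi).1 _⟩
    refine ⟨fun i => e 0 * l⁻¹ * e (σ i), fun i => ?_, fun c hc => ?_⟩
    · rw [mul_mul_mul_comm, mul_mul_mul_comm (e 0), he2, he2, ← mul_inv, hl2, inv_one]
      simp
    have h := hclosed hN hNY (b := e 0) (left_ne_zero_of_mul_eq_one (he2 0)) (hfix (he2 0)) (fun x => by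
        rw [monMap_single hσσ, show σ 0 = 0 from t6, show σ 0 = 0 from t6])
      (fun c hc i hi => by
        rw [monMap_apply, hc _ (t5 i hi), mul_zero]) c hc
    have e' : monMap σ (fun i => e 0 * l⁻¹ * e (σ i)) c = (e 0 * l⁻¹) • monMap σ (fun i => e (σ i)) c :=
      funext fun i => by rw [Pi.smul_apply, monMap_apply, monMap_apply, smul_eq_mul, mul_assoc]
    show monMap σ (fun i => e 0 * l⁻¹ * e (σ i)) c ∈ (O : Set (Fin 20 → K))
    rw [e']
    exact h
  have htor : ∀ a : K, φ a = a → a ≠ 0 → ∀ c ∈ O, a • c ∈ O := by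
    intro a ha ha0 c hc
    have hcart : ∀ i ∈ L2, chevE6.cartan 1 (rQ i) = 0 := by decide +kernel
    have hN : NY (he E6.good 46 a) := by
      intro i hi x
      rw [CY_x hi, show (46 : ℕ) = chevE6.simple 1 by decide +kernel,
        he_conj (by norm_num) (ntab_table _ (yr_facts i hi).1).1 ha0]
      exact ⟨_, X_yr hi _⟩
    have h := hclosed (norm_he46 ha ha0) hN (b := a ^ chevE6.cartan 1 (rQ 0)) (zpow_ne_zero _ ha0)
      (by rw [map_zpow₀, ha]) (fun x => funext fun k => by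
        rw [diagMap_apply]
        by_cases hk' : k = 0
        · subst hk'; rw [Pi.single_eq_same, Pi.single_eq_same]
        · rw [Pi.single_eq_of_ne hk', Pi.single_eq_of_ne hk', mul_zero])
      (fun c hc i hi => by rw [diagMap_apply, hc i hi, mul_zero]) c hc
    convert h using 1
    funext i
    rw [Pi.smul_apply, Pi.smul_apply, diagMap_apply, show chevE6.cartan 1 (rQ 0) = 2 by decide +kernel,
      smul_eq_mul, smul_eq_mul]
    by_cases hi : i ∈ L2
    · rw [hcart i hi, zpow_zero, one_mul, zpow_two, mul_assoc a a, mul_inv_cancel₀ ha0, mul_one]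
    · rw [((hO' c).1 hc).1.2 i hi, mul_zero, mul_zero, mul_zero]
  have hsupp : ∀ c ∈ O, ∀ i, i ∉ ([10, 11, 12, 13, 14, 15, 16, 17, 18] : List (Fin 20)) → c i = 0 :=
    fun c hc => ((hO' c).1 hc).1.2
  have h35 : RefClosed (O : Set (Fin 20 → K)) p35 := href 2 (by decide)
  have h16 : RefClosed (O : Set (Fin 20 → K)) p16 := href 3 (by decide)
  have horb := siegel_orbit hinv hmove hk hK hC hsupp h35 h16 htor ((hO' _).2 ⟨c0.2, hE0⟩)
    (fun h => hc0 (Subtype.ext h))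
  have hcard : O.card ≤ finrank ℂ (MQ hinv ρ) := by
    refine le_trans ?_ (sum_finrank_le (op := yop hinv ρ) (MQ hinv ρ))
    rw [← Fintype.sum_bijective _ hbij (fun c => E hinv ρ ψ c) _ fun c => rfl]
    refine (Finset.card_image_le).trans ?_
    rw [Finset.card_eq_sum_ones]
    exact (Finset.sum_le_sum fun c hc => Nat.one_le_iff_ne_zero.2 (Finset.mem_filter.1 hc).2).trans
      (Finset.sum_le_univ_sum_of_nonneg fun _ => Nat.zero_le _)
  rcases horb with h | h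
  · refine le_trans (le_trans ?_ h) hcard
    have h2 : 2 ≤ q := by
      rw [← hk, Nat.card_eq_fintype_card]; exact Fintype.one_lt_card
    calc (q - 1) * (q ^ 4 + q ^ 2 + 1) ≤ (q - 1) * (2 * q ^ 4) := Nat.mul_le_mul_left _ (by
          have : 4 ≤ q ^ 2 := Nat.pow_le_pow_left h2 2
          nlinarith)
      _ = 2 * (q - 1) * q ^ 4 := by ring
  · exact h.trans hcard

end Cfsg.Agent.MinDegree.TwoE6
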