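import Cfsg.Agent.Lib.MinDegree.TwoE6.FixedOne
import Cfsg.Agent.Lib.MinDegree.TwoE6.Siegel
import Cfsg.Agent.Lib.MinDegree.TwoE6.Dims

/-!
The degree of a nontrivial irreducible representation of `²E₆(q)` is at least two less than the minimal one.
-/

set_option autoImplicit false
set_option linter.unusedSectionVars false
set_option maxRecDepth 4000

namespace Cfsg.Agent.MinDegree.TwoE6

open Cfsg.Lie Cfsg.Agent.Chev Cfsg.Agent.Chev.BNSetup Module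

theorem lp_single {G A : Type*} [Group G] [AddCommGroup A] {n : ℕ} (C : Coords G A n) (j : Fin n) (a : A)
    {l : List (Fin n)} (hl : l.Nodup) : C.lp l (Pi.single j a) = if j ∈ l then C.x j a else 1 := by
  induction l with
  | nil => simp [Coords.lp]
  | cons i l ih =>
    obtain ⟨hil, hl⟩ := List.nodup_cons.1 hl
    show C.x i ((Pi.single j a : Fin n → A) i) * C.lp l (Pi.single j a) = _
    rw [ih hl]
    by_cases h : j = i
    · subst h; simp [hil]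
    · rw [Pi.single_eq_of_ne (Ne.symm h), C.x_zero, one_mul]
      simp [h]

variable {K : Type*} [Field K] [Fintype K] {φ : K ≃+* K} (hinv : ∀ x, φ (φ x) = x) (hmove : ∃ x, φ x ≠ x)
variable {W : Type*} [AddCommGroup W] [Module ℂ W] [FiniteDimensional ℂ W]
variable (ρ : Representation ℂ ↥(GT φ) W)

theorem arith_two {q : ℕ} (hq : 2 ≤ q) :
    q * (q ^ 6 - q ^ 3 + 1) * (q ^ 4 + 1) ≤ (q - 1) * q ^ 10 + 2 * (q - 1) * q ^ 9 + 2 ∧
    q * (q ^ 6 - q ^ 3 + 1) * (q ^ 4 + 1) ≤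
      (q - 1) * q ^ 10 + 2 * ((q - 1) * (q ^ 9 + q ^ 8 + q ^ 6 + q ^ 5 + q ^ 4 + q ^ 3 + q + 1)) + 2 ∧
    q * (q ^ 6 - q ^ 3 + 1) * (q ^ 4 + 1) =
      (q - 1) * q ^ 10 + (q - 1) * (q ^ 9 + q ^ 8 + q ^ 6 + q ^ 5 + q ^ 4 + q ^ 3 + q + 1) +
        (q - 1) * (q ^ 4 + q ^ 2 + 1) + 2 ∧
    (q - 1) * (q ^ 9 + q ^ 8 + q ^ 6 + q ^ 5 + q ^ 4 + q ^ 3 + q + 1) ≤ 2 * (q - 1) * q ^ 9 := by
  obtain ⟨m, rfl⟩ : ∃ m, q = m + 2 := ⟨q - 2, by omega⟩
  rw [show m + 2 - 1 = m + 1 by omega]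
  have h36 : (m + 2) ^ 3 ≤ (m + 2) ^ 6 := Nat.pow_le_pow_right (by omega) (by norm_num)
  have hZ : ∀ x : ℕ, x = (m + 2) ^ 6 - (m + 2) ^ 3 + 1 → (x : ℤ) = ((m : ℤ) + 2) ^ 6 - ((m : ℤ) + 2) ^ 3 + 1 := by
    intro x hx
    rw [hx, Nat.cast_add, Nat.cast_sub h36]
    push_cast
    ring
  generalize hx : (m + 2) ^ 6 - (m + 2) ^ 3 + 1 = x
  have hx' := hZ x hx.symm
  refine ⟨?_, ?_, ?_, ?_⟩ <;> zify <;> (try simp only [hx']) <;> ring_nf
  all_goals nlinarith [pow_nonneg (Int.natCast_nonneg m) 2, pow_nonneg (Int.natCast_nonneg m) 3,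
    pow_nonneg (Int.natCast_nonneg m) 4, pow_nonneg (Int.natCast_nonneg m) 5, pow_nonneg (Int.natCast_nonneg m) 6,
    pow_nonneg (Int.natCast_nonneg m) 7, pow_nonneg (Int.natCast_nonneg m) 8, pow_nonneg (Int.natCast_nonneg m) 9,
    pow_nonneg (Int.natCast_nonneg m) 10, pow_nonneg (Int.natCast_nonneg m) 11]

include hinv hmove in
theorem degree_ge {q : ℕ} (hk : Nat.card (kfix φ) = q) (hK : Fintype.card K = q ^ 2) (hirr : Irred ρ)
    (hker : ρ ⟨X 71 1, z_mem_iff.2 (map_one φ)⟩ ≠ 1) :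
    q * (q ^ 6 - q ^ 3 + 1) * (q ^ 4 + 1) ≤ finrank ℂ W + 2 := by
  classical
  let _ := Fintype.ofFinite (kfix φ)
  let _ := Fintype.ofFinite (V φ)
  have hq2 : 2 ≤ q := by rw [← hk, Nat.card_eq_fintype_card]; exact Fintype.one_lt_card
  obtain ⟨a1, a2, a3, a4⟩ := arith_two hq2
  obtain ⟨hdim, hex⟩ := heis_dims hinv hmove ρ hk hK (fun a ha h0 => ⟨_, _, norm_he46 ha h0⟩) hker
    ⟨⟨Pi.single 19 1, single_mem (by decide) (map_one φ)⟩, fun h => by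
        simpa using congrFun (congrArg Subtype.val h) 19, nn φ 0, by
      obtain ⟨e, he, hx⟩ := exists_conj E6.good (F := K) (i := 1) (show 1 < chevE6.rank by decide +kernel)
        (s := 70) (show 70 < chevE6.nroots by decide +kernel)
      have hm : φ e = e := by
        rcases mul_self_eq_one_iff.1 he with h | h <;> rw [h] <;> simp
      refine ⟨e, hm, left_ne_zero_of_mul_eq_one he, Subtype.ext ?_⟩
      show (nn φ 0 : GL chevE6.Idx K) * H (Pi.single 19 1) * (nn φ 0 : GL chevE6.Idx K)⁻¹ = X 71 e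
      show (nn φ 0 : GL chevE6.Idx K) * CQ.lp (List.finRange 20) (Pi.single 19 1) *
        (nn φ 0 : GL chevE6.Idx K)⁻¹ = X 71 e
      rw [lp_single CQ 19 1 (List.nodup_finRange 20), if_pos (List.mem_finRange _),
        show (nn φ 0 : GL chevE6.Idx K) = ne' E6.good (chevE6.simple 1) (1 : K) by
          show ((orbE6.Jl 4 (0 : Fin 4)).map fun k => ne' E6.good (chevE6.simple k) (1 : K)).prod = _
          rw [show orbE6.Jl 4 (0 : Fin 4) = [1] from rfl, List.map_singleton, List.prod_singleton]]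
      have h := hx.1 1
      rw [show chevE6.reflectRoot 1 70 = 71 by decide +kernel, mul_one] at h
      exact h⟩
  obtain ⟨ψ, hψ⟩ : ∃ ψ : AddChar (kfix φ) ℂ, ψ ≠ 1 := by
    have : Nontrivial (AddChar (kfix φ) ℂ) := Fintype.one_lt_card_iff_nontrivial.1 (by
      rw [AddChar.card_eq]; exact Fintype.one_lt_card)
    exact exists_ne 1
  obtain ⟨c0, hc0, hD0⟩ := hex ψ hψ
  -- the weights of a multiplicity at least `k`
  let O : ℕ → Finset (Fin 20 → K) := fun k =>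
    (Finset.univ.filter fun c : V φ => c ≠ 0 ∧ k ≤ D hinv ρ ψ c).image Subtype.val
  have hO : ∀ k c, c ∈ O k ↔ ∃ h : c ∈ V φ, c ≠ 0 ∧ k ≤ D hinv ρ ψ ⟨c, h⟩ := fun k c =>
    ⟨fun h => by
      obtain ⟨x, hx, rfl⟩ := Finset.mem_image.1 h
      obtain ⟨h1, h2⟩ := (Finset.mem_filter.1 hx).2
      exact ⟨x.2, fun e => h1 (Subtype.ext e), h2⟩,
    fun ⟨h, h1, h2⟩ => Finset.mem_image.2
      ⟨⟨c, h⟩, Finset.mem_filter.2 ⟨Finset.mem_univ _, fun e => h1 (congrArg Subtype.val e), h2⟩, rfl⟩⟩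
  have hmove' : ∀ {g : GL chevE6.Idx K} {M : (Fin 20 → K) →+ (Fin 20 → K)}, Norm φ g M 1 →
      ∀ k, ∀ c ∈ O k, M c ∈ O k := by
    intro g M hg k c hc
    obtain ⟨hcV, hne, hk'⟩ := (hO k c).1 hc
    exact (hO k _).2 ⟨hg.map_mem hinv hcV, fun h => hne (hg.inj hinv hmove h),
      hk'.trans (D_le hinv hmove ρ hg ψ (c := ⟨c, hcV⟩) (c' := ⟨M c, hg.map_mem hinv hcV⟩) (one_smul K _).symm)⟩
  have hbound : ∀ k, ∀ c ∈ O k, 2 * (q - 1) * q ^ 9 ≤ (O k).card ∨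
      ((∃ a, a ≠ 0 ∧ Pi.single 19 a ∈ O k) ∧
        (q - 1) * (q ^ 9 + q ^ 8 + q ^ 6 + q ^ 5 + q ^ 4 + q ^ 3 + q + 1) ≤ (O k).card) := by
    intro k c hc
    have hC : Closed φ leviRoots (O k : Set (Fin 20 → K)) :=
      ⟨fun c hc => ((hO k c).1 hc).1, fun r hr a c hc => hmove' (norm_el hinv hr a) k c hc⟩
    have href : ∀ {σ : Fin 20 → Fin 20}, IsWeyl φ σ → RefClosed (O k : Set (Fin 20 → K)) σ :=
      fun ⟨g, e, he, hg⟩ => ⟨e, he, fun c hc => hmove' hg k c hc⟩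
    exact orbit_bound hinv hmove hk hK hC (href isWeyl_p4) (href isWeyl_p35) (href isWeyl_p16)
      (fun a ha h0 c hc => hmove' (norm_he39 ha h0) k c hc) hc ((hO k c).1 hc).2.1
  have hsum : ∀ k, D hinv ρ ψ 0 + k * (O k).card ≤ finrank ℂ (MZ ρ) := by
    intro k
    rw [← sum_D hinv hmove ρ hψ, ← Finset.add_sum_erase _ _ (Finset.mem_univ (0 : V φ)),
      Finset.card_image_of_injective _ Subtype.val_injective, Nat.add_le_add_iff_left, mul_comm, ← smul_eq_mul,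
      ← Finset.sum_const]
    exact (Finset.sum_le_sum fun c hc => (Finset.mem_filter.1 hc).2.2).trans
      (Finset.sum_le_sum_of_subset_of_nonneg (fun c hc => Finset.mem_erase.2
        ⟨(Finset.mem_filter.1 hc).2.1, Finset.mem_univ _⟩) fun _ _ _ => Nat.zero_le _)
  rcases hbound 1 c0.1 ((hO 1 _).2 ⟨c0.2, fun h => hc0 (Subtype.ext h), Nat.one_le_iff_ne_zero.2 hD0⟩) with
    h | ⟨⟨a, ha0, ha⟩, hN⟩
  · have := hsum 1
    omega
  obtain ⟨hcV, hcne, hD1⟩ := (hO 1 _).1 ha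
  by_cases htwo : 2 ≤ D hinv ρ ψ ⟨_, hcV⟩
  · have := hsum 2
    rcases hbound 2 _ ((hO 2 _).2 ⟨hcV, hcne, htwo⟩) with h | ⟨-, h⟩ <;> omega
  have hMQ := MQ_ne_bot ρ hinv hmove hk hψ ha0 (c := ⟨_, hcV⟩) rfl (by omega)
  have hY : ∃ v ∈ MQ hinv ρ, ∃ r ∈ yRoots, ¬ F ρ v r := by
    by_contra hcon
    push Not at hcon
    exact hMQ (MQ_eq_bot hinv ρ hirr hker hk hcon)
  have hb := MQ_bound hinv hmove ρ hk hK hY
  rw [finrank_MQ hinv ρ ψ] at hb
  have := hsum 1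
  omega

end Cfsg.Agent.MinDegree.TwoE6
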