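import Cfsg.Agent.Lib.MinDegree.TwoE6.Steps

/-!
Normal forms under the root groups clearing a list of coordinates, and the counting of orbits by them.
-/

set_option autoImplicit false
set_option linter.unusedSectionVars false
set_option maxRecDepth 4000

namespace Cfsg.Agent.MinDegree.TwoE6

open Cfsg.Lie Cfsg.Agent.Chev Cfsg.Agent.Chev.BNSetup

variable {K : Type*} [Field K] {φ : K ≃+* K}

/-- The checks on a list of root groups clearing coordinates: pairs of a root and a coordinate. -/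
def clearOK (Z : List (Fin 20)) (top : Fin 20) (L : List (ℕ × Fin 20)) : Bool :=
  decide (L.map Prod.snd).Nodup && L.all fun e =>
    leviRoots.contains e.1 && entryB e.1 Z top e.2 && fixB e.1 Z top && Z.all (fixB e.1 Z) &&
      (decide (bar e.1 ≠ e.1) || decide (pi20 e.2 = e.2) && decide (pi20 top = top)) &&
        L.all fun e' => decide (e'.2 = e.2) || fixB e.1 Z e'.2

/-- A set of rational coordinates is closed under the root groups of some roots. -/
structure Closed (φ : K ≃+* K) (R : List ℕ) (O : Set (Fin 20 → K)) : Prop where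
  rational : ∀ c ∈ O, c ∈ V φ
  move : ∀ r ∈ R, ∀ (a : Param φ r), ∀ c ∈ O, elMap φ r a.1 c ∈ O

theorem exists_normal {R : List ℕ} {O : Set (Fin 20 → K)} (hO : Closed φ R O) {Z : List (Fin 20)}
    {top : Fin 20} {L : List (ℕ × Fin 20)} (hL : clearOK Z top L = true) (hR : ∀ e ∈ L, e.1 ∈ R)
    {c : Fin 20 → K} (hc : c ∈ O) (hz : ∀ j ∈ Z, c j = 0) (htop : c top ≠ 0) :
    ∃ n ∈ O, (∀ j ∈ Z, n j = 0) ∧ n top = c top ∧ ∀ e ∈ L, n e.2 = 0 := by
  simp only [clearOK, Bool.and_eq_true, Bool.or_eq_true, decide_eq_true_eq, List.all_eq_true,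
    List.contains_iff_mem] at hL
  obtain ⟨hnd, hall⟩ := hL
  suffices key : ∀ L' : List (ℕ × Fin 20), (∀ e ∈ L', e ∈ L) →
      ∃ n ∈ O, (∀ j ∈ Z, n j = 0) ∧ n top = c top ∧ ∀ e ∈ L', n e.2 = 0 from key L fun _ h => h
  intro L' hsub
  induction L' with
  | nil => exact ⟨c, hc, hz, rfl, by simp⟩
  | cons e L' ih =>
    obtain ⟨n, hn, hnz, hntop, hn0⟩ := ih fun e' h => hsub e' (List.mem_cons_of_mem _ h)
    obtain ⟨⟨⟨⟨⟨hlevi, hent⟩, hft⟩, hfz⟩, hpar⟩, hoth⟩ := hall e (hsub e List.mem_cons_self)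
    have hcoef : (coefAt e.1 e.2 : K) ≠ 0 := by
      simp only [entryB, Bool.and_eq_true] at hent
      rcases hn' : ntab e.1 e.2 with _ | ⟨j, m⟩
      · rw [hn'] at hent; exact absurd hent.2 Bool.false_ne_true
      · simpa [coefAt, hn'] using coefAt_ne (K := K) hlevi hn'
    have hne : (coefAt e.1 e.2 : K) * n top ≠ 0 := mul_ne_zero hcoef (hntop ▸ htop)
    let a : Param φ e.1 := ⟨-(n e.2 / ((coefAt e.1 e.2 : K) * n top)), fun hb => by
      obtain ⟨h1, h2⟩ := hpar.resolve_left (not_not.2 hb)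
      have fx : ∀ i, pi20 i = i → φ (n i) = n i := fun i hi => by
        obtain ⟨ha, hb', hc', -⟩ := rQ_facts i
        rw [hi] at hb'
        have e' := mem_V.1 (hO.rational n hn) i
        rw [hi, ← hc', (bar_lt _ ha).2.2.2.1 hb', Int.cast_one, one_mul] at e'
        exact e'.symm
      rw [map_neg, map_div₀, map_mul, map_intCast, fx _ h1, fx _ h2]⟩
    refine ⟨elMap φ e.1 a.1 n, hO.move _ (hR e (hsub e List.mem_cons_self)) a n hn,
      fun j hj => by rw [elMap_fix (hfz j hj) hnz, hnz j hj], by rw [elMap_fix hft hnz, hntop], ?_⟩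
    intro e' he'
    by_cases heq : e'.2 = e.2
    · rw [heq, elMap_entry hent hnz]
      show n e.2 + (coefAt e.1 e.2 : K) * -(n e.2 / ((coefAt e.1 e.2 : K) * n top)) * n top = 0
      rw [show n e.2 + (coefAt e.1 e.2 : K) * -(n e.2 / ((coefAt e.1 e.2 : K) * n top)) * n top =
        n e.2 - n e.2 / ((coefAt e.1 e.2 : K) * n top) * ((coefAt e.1 e.2 : K) * n top) by ring,
        div_mul_cancel₀ _ hne, sub_self]
    · rw [elMap_fix ((hoth e' (hsub e' he')).resolve_left heq) hnz]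
      exact hn0 e' ((List.mem_cons.1 he').resolve_left fun h => heq (h ▸ rfl))

theorem exists_spread [Fintype K] [DecidableEq K] (hinv : ∀ x, φ (φ x) = x) (hmove : ∃ x, φ x ≠ x)
    {R : List ℕ} {O : Set (Fin 20 → K)} (hO : Closed φ R O) {Z : List (Fin 20)}
    {top : Fin 20} {L : List (ℕ × Fin 20)} (hL : clearOK Z top L = true) (hR : ∀ e ∈ L, e.1 ∈ R)
    (N : Finset (Fin 20 → K))
    (hN : ∀ c ∈ N, c ∈ O ∧ (∀ j ∈ Z, c j = 0) ∧ c top ≠ 0 ∧ ∀ e ∈ L, c e.2 = 0) :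
    ∃ S : Finset (Fin 20 → K), S.card = (L.map fun e => Fintype.card (Param φ e.1)).prod * N.card ∧
      ∀ d ∈ S, d ∈ O ∧ (∀ j ∈ Z, d j = 0) ∧ d top ≠ 0 := by
  simp only [clearOK, Bool.and_eq_true, Bool.or_eq_true, decide_eq_true_eq, List.all_eq_true,
    List.contains_iff_mem] at hL
  obtain ⟨hnd, hall⟩ := hL
  suffices key : ∀ L' : List (ℕ × Fin 20), (L'.map Prod.snd).Nodup → (∀ e ∈ L', e ∈ L) →
      ∃ S : Finset (Fin 20 → K), S.card = (L'.map fun e => Fintype.card (Param φ e.1)).prod * N.card ∧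
        ∀ d ∈ S, d ∈ O ∧ (∀ j ∈ Z, d j = 0) ∧ d top ≠ 0 ∧
          ∀ e ∈ L, e.2 ∉ L'.map Prod.snd → d e.2 = 0 by
    obtain ⟨S, h1, h2⟩ := key L hnd fun _ h => h
    exact ⟨S, h1, fun d hd => ⟨(h2 d hd).1, (h2 d hd).2.1, (h2 d hd).2.2.1⟩⟩
  intro L' hnd' hsub
  induction L' with
  | nil => exact ⟨N, by simp, fun d hd => ⟨(hN d hd).1, (hN d hd).2.1, (hN d hd).2.2.1,
      fun e he _ => (hN d hd).2.2.2 e he⟩⟩
  | cons e L' ih =>
    rw [List.map_cons, List.nodup_cons] at hnd'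
    obtain ⟨S, hS, hSp⟩ := ih hnd'.2 fun e' h => hsub e' (List.mem_cons_of_mem _ h)
    obtain ⟨⟨⟨⟨⟨hlevi, hent⟩, hft⟩, hfz⟩, -⟩, hoth⟩ := hall e (hsub e List.mem_cons_self)
    obtain ⟨S', hc', hp'⟩ := exists_step hinv hmove hlevi hent hft S fun d hd =>
      ⟨(hSp d hd).2.1, (hSp d hd).2.2.2 e (hsub e List.mem_cons_self) hnd'.1, (hSp d hd).2.2.1⟩
    refine ⟨S', by rw [hc', hS, List.map_cons, List.prod_cons, mul_assoc], fun d hd => ?_⟩
    obtain ⟨c, hc, a, rfl, hfix⟩ := hp' d hd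
    obtain ⟨h1, h2, h3, h4⟩ := hSp c hc
    refine ⟨hO.move _ (hR e (hsub e List.mem_cons_self)) a c h1, fun j hj => by rw [hfix j (hfz j hj), h2 j hj],
      by rwa [hfix top hft], fun e' he' hnot => ?_⟩
    rw [List.map_cons, List.mem_cons, not_or] at hnot
    rw [hfix _ ((hoth e' he').resolve_left hnot.1)]
    exact h4 e' he' hnot.2

/-- The checks on a step between two cells: reflect, then spread by one root group. -/
def cellOK (σ : Fin 20 → Fin 20) (r : ℕ) (t j k : Fin 20) (Aj Ak : List (Fin 20)) : Bool :=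
  let Z := (List.finRange 20).filter fun i => !Aj.contains (σ i)
  decide (σ k = j) && leviRoots.contains r && Z.contains t && entryB r Z k t && fixB r Z k &&
    (List.finRange 20).all fun i => Ak.contains i || Z.contains i && fixB r Z i

theorem exists_cell [Fintype K] [DecidableEq K] (hinv : ∀ x, φ (φ x) = x) (hmove : ∃ x, φ x ≠ x)
    {R : List ℕ} {O : Set (Fin 20 → K)} (hO : Closed φ R O) {σ : Fin 20 → Fin 20} (hσ : Function.Bijective σ)
    {e : Fin 20 → K} (he : ∀ i, e i * e i = 1) (hσO : ∀ c ∈ O, monMap σ e c ∈ O) {r : ℕ} (hrR : r ∈ R)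
    {t j k : Fin 20} {Aj Ak : List (Fin 20)} (hok : cellOK σ r t j k Aj Ak = true)
    {F : Finset (Fin 20 → K)} (hF : ∀ c ∈ F, c ∈ O ∧ c j ≠ 0 ∧ ∀ i, i ∉ Aj → c i = 0) :
    ∃ F' : Finset (Fin 20 → K), F'.card = Fintype.card (Param φ r) * F.card ∧
      ∀ c ∈ F', c ∈ O ∧ c k ≠ 0 ∧ ∀ i, i ∉ Ak → c i = 0 := by
  simp only [cellOK, Bool.and_eq_true, Bool.or_eq_true, decide_eq_true_eq, List.all_eq_true,
    List.contains_iff_mem] at hok
  obtain ⟨⟨⟨⟨⟨hσk, hlevi⟩, htZ⟩, hent⟩, hfk⟩, hfix⟩ := hok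
  set Z := (List.finRange 20).filter fun i => !Aj.contains (σ i) with hZ
  have he0 : ∀ i, e i ≠ 0 := fun i => left_ne_zero_of_mul_eq_one (he i)
  have hinj : Set.InjOn (monMap σ e) (F : Set (Fin 20 → K)) := fun c _ d _ h => funext fun i => by
    obtain ⟨i', rfl⟩ := hσ.2 i
    exact mul_left_cancel₀ (he0 i') (congrFun h i')
  have himg : ∀ c ∈ F.image (monMap σ e),
      c ∈ O ∧ (∀ i ∈ Z, c i = 0) ∧ c t = 0 ∧ c k ≠ 0 := by
    intro c hc
    obtain ⟨d, hd, rfl⟩ := Finset.mem_image.1 hc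
    obtain ⟨h1, h2, h3⟩ := hF d hd
    have hz : ∀ i ∈ Z, monMap σ e d i = 0 := fun i hi => by
      rw [hZ, List.mem_filter, Bool.not_eq_true', ← Bool.not_eq_true, List.contains_iff_mem] at hi
      rw [monMap_apply, h3 _ hi.2, mul_zero]
    exact ⟨hσO d h1, hz, hz t htZ, by rw [monMap_apply, hσk]; exact mul_ne_zero (he0 k) h2⟩
  obtain ⟨F', hc, hp⟩ := exists_step hinv hmove hlevi hent hfk (F.image (monMap σ e))
    fun c hc => ⟨(himg c hc).2.1, (himg c hc).2.2.1, (himg c hc).2.2.2⟩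
  refine ⟨F', by rw [hc, Finset.card_image_of_injOn hinj], fun d hd => ?_⟩
  obtain ⟨c, hcm, a, rfl, hfx⟩ := hp d hd
  obtain ⟨h1, h2, -, h4⟩ := himg c hcm
  refine ⟨hO.move r hrR a c h1, by rwa [hfx k hfk], fun i hi => ?_⟩
  obtain ⟨hiZ, hif⟩ := (hfix i (List.mem_finRange i)).resolve_left hi
  rw [hfx i hif, h2 i hiZ]

end Cfsg.Agent.MinDegree.TwoE6
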