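import Cfsg.Agent.Lib.MinDegree.TwoE6.Normal

/-!
The size of an orbit of the Levi complement on the rational coordinates modulo the centre.
-/

set_option autoImplicit false
set_option linter.unusedSectionVars false
set_option maxRecDepth 4000

namespace Cfsg.Agent.MinDegree.TwoE6

open Cfsg.Lie Cfsg.Agent.Chev Cfsg.Agent.Chev.BNSetup

variable {K : Type*} [Field K] {φ : K ≃+* K}

/-- A set is closed under a reflection with some signs. -/
def RefClosed (O : Set (Fin 20 → K)) (σ : Fin 20 → Fin 20) : Prop :=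
  ∃ e : Fin 20 → K, (∀ i, e i * e i = 1) ∧ ∀ c ∈ O, monMap σ e c ∈ O

theorem fixed_coord {c : Fin 20 → K} (hc : c ∈ V φ) {i : Fin 20} (hi : pi20 i = i) : φ (c i) = c i := by
  obtain ⟨ha, hb, hc', -⟩ := rQ_facts i
  rw [hi] at hb
  have e := mem_V.1 hc i
  rw [hi, ← hc', (bar_lt _ ha).2.2.2.1 hb, Int.cast_one, one_mul] at e
  exact e.symm

/-- Each coordinate has a root moving it upwards. -/
def climbB (R : List ℕ) (lo top : Fin 20) : Bool :=
  (List.finRange 20).all fun j => decide (j < lo) || decide (top ≤ j) ||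
    R.any fun r => leviRoots.contains r && (List.finRange 20).any fun i =>
      decide (j < i) && decide (i ≤ top) && ((ntab r i).map Prod.fst == some j)

theorem exists_top (hinv : ∀ x, φ (φ x) = x) (hmove : ∃ x, φ x ≠ x) {R : List ℕ} {O : Set (Fin 20 → K)}
    (hO : Closed φ R O) {lo top : Fin 20} (h : climbB R lo top = true) {c : Fin 20 → K} (hc : c ∈ O)
    {j : Fin 20} (hlo : lo ≤ j) (hj : j ≤ top) (hcj : c j ≠ 0) : ∃ d ∈ O, d top ≠ 0 := by
  simp only [climbB, Bool.or_eq_true, Bool.and_eq_true, List.all_eq_true, List.any_eq_true, decide_eq_true_eq,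
    List.contains_iff_mem, beq_iff_eq] at h
  induction hn : top.val - j.val using Nat.strong_induction_on generalizing j c with
  | _ n ih =>
    subst hn
    rcases eq_or_lt_of_le hj with rfl | hlt
    · exact ⟨c, hc, hcj⟩
    rcases h j (List.mem_finRange j) with (h' | h') | ⟨r, hr, hlevi, i, -, ⟨hji, hit⟩, hnt⟩
    · exact absurd h' (not_lt.2 hlo)
    · exact absurd h' (not_le.2 hlt)
    obtain ⟨⟨j', m⟩, hm, rfl⟩ := Option.map_eq_some_iff.1 hnt
    obtain ⟨a, ha⟩ := exists_coord_ne hinv hmove hlevi hm hcj 0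
    exact ih (top.val - i.val) (by omega) (hO.move r hr a c hc) (hlo.trans hji.le) hit ha rfl

/-- The roots of the Levi complement lowering the top coordinate. -/
def shiftList : List (ℕ × Fin 20) := [(11, 10), (12, 11), (13, 13), (27, 15), (28, 16), (32, 18)]

/-- The roots fixing the top coordinate and the coordinates below it. -/
def aRoots : List ℕ := [14, 15, 29, 33, 34, 35, 36, 37, 38, 42, 56, 57]

theorem shift_ok : clearOK [] 19 shiftList = true := by decide +kernel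

theorem climb_ok : climbB leviRoots 0 19 = true := by decide +kernel

theorem level_one : ∀ j ∈ ([1, 2, 3, 4, 5, 6, 7, 8, 9] : List (Fin 20)), (aRoots.any fun r =>
    ([1, 2, 3, 4, 5, 6, 7, 8, 9] : List (Fin 20)).any fun i => ((ntab r i).map Prod.fst == some j)) = true := by
  decide +kernel

theorem aRoots_fix : ∀ r ∈ aRoots, r ∈ leviRoots ∧
    ∀ i ∈ ([10, 11, 13, 15, 16, 18, 19] : List (Fin 20)), fixB r [10, 11, 12, 13, 14, 15, 16, 17, 18] i = true := by
  decide +kernel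

theorem bot_fix : ∀ i ∈ ([10, 11, 13, 15, 16, 18, 19] : List (Fin 20)),
    fixB 39 [1, 2, 3, 4, 5, 6, 7, 8, 9, 10, 11, 12, 13, 14, 15, 16, 17, 18] i = true := by decide +kernel

theorem cell_oks :
    cellOK p4 39 19 19 18 [19] [18, 19] = true ∧
    cellOK p35 37 16 18 15 [18, 19] [15, 16, 17, 18, 19] = true ∧
    cellOK p16 36 11 15 10 [15, 16, 17, 18, 19] [10, 11, 12, 13, 14, 15, 16, 17, 18, 19] = true ∧
    cellOK p4 39 15 15 9 [15, 16, 17, 18, 19] [9, 15, 16, 17, 18, 19] = true ∧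
    cellOK p16 36 7 9 6 [9, 15, 16, 17, 18, 19] [6, 7, 8, 9, 10, 11, 12, 13, 14, 15, 16, 17, 18, 19] = true ∧
    cellOK p35 37 2 6 1 [6, 7, 8, 9, 10, 11, 12, 13, 14, 15, 16, 17, 18, 19]
      [1, 2, 3, 4, 5, 6, 7, 8, 9, 10, 11, 12, 13, 14, 15, 16, 17, 18, 19] = true ∧
    cellOK p4 39 1 1 0 [1, 2, 3, 4, 5, 6, 7, 8, 9, 10, 11, 12, 13, 14, 15, 16, 17, 18, 19]
      (List.finRange 20) = true := by decide +kernel

theorem perm_bij : Function.Bijective p4 ∧ Function.Bijective p35 ∧ Function.Bijective p16 :=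
  ⟨Function.Involutive.bijective (show ∀ i, p4 (p4 i) = i by decide +kernel),
    Function.Involutive.bijective (show ∀ i, p35 (p35 i) = i by decide +kernel),
    Function.Involutive.bijective (show ∀ i, p16 (p16 i) = i by decide +kernel)⟩

theorem cartan4_table : chevE6.cartan 3 (rQ 19) = 1 ∧ bar 11 = 11 ∧ bar 27 = 27 ∧ bar 32 = 32 ∧ bar 12 ≠ 12 ∧
    bar 13 ≠ 13 ∧ bar 28 ≠ 28 ∧ bar 39 = 39 ∧ bar 36 ≠ 36 ∧ bar 37 ≠ 37 ∧ bar 14 ≠ 14 ∧ bar 29 ≠ 29 := by
  decide +kernel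

/-- An orbit is large, or contains an element with only the top coordinate and is not small. -/
theorem orbit_bound [Fintype K] (hinv : ∀ x, φ (φ x) = x) (hmove : ∃ x, φ x ≠ x) {q : ℕ}
    (hk : Nat.card (kfix φ) = q) (hK : Fintype.card K = q ^ 2) {O : Finset (Fin 20 → K)}
    (hO : Closed φ leviRoots (O : Set (Fin 20 → K)))
    (h4 : RefClosed (O : Set (Fin 20 → K)) p4) (h35 : RefClosed (O : Set (Fin 20 → K)) p35)
    (h16 : RefClosed (O : Set (Fin 20 → K)) p16)
    (htor : ∀ a : K, φ a = a → a ≠ 0 → ∀ c ∈ O, diagMap (fun i => a ^ chevE6.cartan 3 (rQ i)) c ∈ O)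
    {c : Fin 20 → K} (hc : c ∈ O) (h0 : c ≠ 0) :
    2 * (q - 1) * q ^ 9 ≤ O.card ∨
      ((∃ a, a ≠ 0 ∧ Pi.single 19 a ∈ O) ∧
        (q - 1) * (q ^ 9 + q ^ 8 + q ^ 6 + q ^ 5 + q ^ 4 + q ^ 3 + q + 1) ≤ O.card) := by
  classical
  obtain ⟨hc19, b11, b27, b32, b12, b13, b28, b39, b36, b37, b14, b29⟩ := cartan4_table
  obtain ⟨j, hj⟩ : ∃ j, c j ≠ 0 := by
    by_contra hcon
    push Not at hcon
    exact h0 (funext hcon)
  obtain ⟨c1, hc1, hc1t⟩ := exists_top hinv hmove hO climb_ok hc (Fin.zero_le j) (Fin.le_last j) hj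
  -- the normal forms
  let N : Finset (Fin 20 → K) := O.filter fun n => n 19 ≠ 0 ∧ ∀ e ∈ shiftList, n e.2 = 0
  have hNmem : ∀ n, n ∈ N ↔ n ∈ O ∧ n 19 ≠ 0 ∧ ∀ e ∈ shiftList, n e.2 = 0 := fun n => Finset.mem_filter
  obtain ⟨n0, hn0, -, hn0t, hn00⟩ := exists_normal hO shift_ok
    (by decide +kernel : ∀ e ∈ shiftList, e.1 ∈ leviRoots) hc1 (by simp) hc1t
  have hn0N : n0 ∈ N := (hNmem n0).2 ⟨hn0, hn0t ▸ hc1t, hn00⟩
  set a0 := n0 19 with ha0
  have ha00 : a0 ≠ 0 := hn0t ▸ hc1t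
  -- scaling by the torus
  have hscale : ∀ a : K, φ a = a → a ≠ 0 → ∀ n ∈ N,
      diagMap (fun i => a ^ chevE6.cartan 3 (rQ i)) n ∈ N ∧
        diagMap (fun i => a ^ chevE6.cartan 3 (rQ i)) n 19 = a * n 19 := by
    intro a ha h0' n hn
    obtain ⟨h1, h2, h3⟩ := (hNmem n).1 hn
    have e19 : diagMap (fun i => a ^ chevE6.cartan 3 (rQ i)) n 19 = a * n 19 := by
      rw [diagMap_apply, hc19, zpow_one]
    exact ⟨(hNmem _).2 ⟨htor a ha h0' n h1, e19 ▸ mul_ne_zero h0' h2, fun e he => by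
      rw [diagMap_apply, h3 e he, mul_zero]⟩, e19⟩
  have hdinj : ∀ a : K, a ≠ 0 →
      Function.Injective fun n : Fin 20 → K => diagMap (fun i => a ^ chevE6.cartan 3 (rQ i)) n :=
    fun a h0' n n' h => funext fun i => mul_left_cancel₀ (zpow_ne_zero _ h0') (congrFun h i)
  have fx19 : ∀ n ∈ O, φ (n 19) = n 19 := fun n hn => fixed_coord (hO.rational n hn) (by decide +kernel)
  -- the values at the top
  let A : Finset K := Finset.univ.filter fun a => φ a = a ∧ a ≠ 0
  have hA : A.card = q - 1 := by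
    have e1 : A = (Finset.univ.filter fun a : K => φ a = a).erase 0 := by
      ext a; simp [A, and_comm]
    rw [e1, Finset.card_erase_of_mem (by simp), ← hk]
    congr 1
    rw [← Fintype.card_subtype, ← Nat.card_eq_fintype_card]
    exact Nat.card_congr (Equiv.subtypeEquivRight fun a => Iff.rfl)
  have hfib : ∀ a ∈ A, ∀ m, (∃ S : Finset (Fin 20 → K), S ⊆ N ∧ (∀ n ∈ S, n 19 = a0) ∧ S.card = m) →
      m ≤ (N.filter fun n => n 19 = a).card := by
    rintro a ha m ⟨S, hS, hS0, rfl⟩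
    obtain ⟨haf, ha'⟩ := (Finset.mem_filter.1 ha).2
    have hb : φ (a / a0) = a / a0 := by rw [map_div₀, haf, fx19 n0 hn0]
    refine Finset.card_le_card_of_injOn _ (fun n hn => ?_) (hdinj (a / a0) (div_ne_zero ha' ha00)).injOn
    obtain ⟨h1, h2⟩ := hscale _ hb (div_ne_zero ha' ha00) n (hS hn)
    exact Finset.mem_filter.2 ⟨h1, by rw [h2, hS0 n hn, div_mul_cancel₀ _ ha00]⟩
  have hNcard : ∀ m, (∃ S : Finset (Fin 20 → K), S ⊆ N ∧ (∀ n ∈ S, n 19 = a0) ∧ S.card = m) →
      (q - 1) * m ≤ N.card := by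
    intro m hm
    have hsum : ∑ a ∈ A, (N.filter fun n => n 19 = a).card = N.card :=
      (Finset.card_eq_sum_card_fiberwise fun n hn => by
        obtain ⟨h1, h2, -⟩ := (hNmem n).1 hn
        exact Finset.mem_filter.2 ⟨Finset.mem_univ _, fx19 n h1, h2⟩).symm
    rw [← hsum, ← hA]
    exact (le_of_eq (by rw [Finset.sum_const, smul_eq_mul])).trans (Finset.sum_le_sum fun a ha => hfib a ha m hm)
  have hspread : q ^ 9 * N.card ≤ O.card := by
    obtain ⟨S, hS, hSp⟩ := exists_spread hinv hmove hO shift_ok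
      (by decide +kernel : ∀ e ∈ shiftList, e.1 ∈ leviRoots) N
      fun n hn => ⟨((hNmem n).1 hn).1, by simp, ((hNmem n).1 hn).2.1, ((hNmem n).1 hn).2.2⟩
    refine le_trans (le_of_eq ?_) (Finset.card_le_card fun d hd => (hSp d hd).1)
    rw [hS, shiftList]
    simp only [List.map_cons, List.map_nil, List.prod_cons, List.prod_nil, card_param hinv hk hK, b11, b27, b32,
      b12, b13, b28, if_true, if_false]
    ring
  by_cases htwo : ∃ n ∈ N, n 19 = a0 ∧ n ≠ n0
  · obtain ⟨n, hn, hnt, hne⟩ := htwo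
    refine Or.inl ?_
    have := hNcard 2 ⟨{n, n0}, by
      simp [Finset.insert_subset_iff, hn, hn0N], by simp [hnt, ha0], Finset.card_pair hne⟩
    calc 2 * (q - 1) * q ^ 9 = q ^ 9 * ((q - 1) * 2) := by ring
      _ ≤ q ^ 9 * N.card := Nat.mul_le_mul_left _ this
      _ ≤ O.card := hspread
  push Not at htwo
  -- the normal form is pure
  have hrep : ∀ i ∈ ([10, 11, 12, 13, 14, 15, 16, 17, 18] : List (Fin 20)), n0 i = 0 := by
    intro i hi
    have hz : ∀ t ∈ ([10, 11, 13, 15, 16, 18] : List (Fin 20)), n0 t = 0 := fun t ht => by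
      obtain ⟨e, he, rfl⟩ : ∃ e ∈ shiftList, e.2 = t := by
        revert t; decide +kernel
      exact hn00 e he
    obtain hi' | hi' := (show ∀ i ∈ ([10, 11, 12, 13, 14, 15, 16, 17, 18] : List (Fin 20)),
      i ∈ ([10, 11, 13, 15, 16, 18] : List (Fin 20)) ∨ pi20 i ∈ ([10, 11, 13, 15, 16, 18] : List (Fin 20)) by
        decide +kernel) i hi
    · exact hz i hi'
    · rw [mem_V.1 (hO.rational n0 hn0) i, hz _ hi', map_zero, mul_zero]
  have hstab : ∀ r, r ∈ leviRoots → ∀ Z : List (Fin 20), (∀ i ∈ Z, n0 i = 0) →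
      (∀ i ∈ ([10, 11, 13, 15, 16, 18, 19] : List (Fin 20)), fixB r Z i = true) →
      ∀ a : Param φ r, elMap φ r a.1 n0 = n0 := by
    intro r hr Z hZ hfix a
    have e19 : elMap φ r a.1 n0 19 = n0 19 := elMap_fix (hfix 19 (by simp)) hZ _
    refine htwo _ ((hNmem _).2 ⟨hO.move r hr a n0 hn0, by rw [e19]; exact ha00, fun e he => ?_⟩) e19
    rw [elMap_fix (hfix e.2 ((show ∀ e ∈ shiftList, e.2 ∈ ([10, 11, 13, 15, 16, 18, 19] : List (Fin 20)) by
      decide +kernel) e he)) hZ, hn00 e he]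
  have hone : ∀ i ∈ ([1, 2, 3, 4, 5, 6, 7, 8, 9] : List (Fin 20)), n0 i = 0 := by
    intro i hi
    by_contra hne
    have h := level_one i hi
    simp only [List.any_eq_true, beq_iff_eq] at h
    obtain ⟨r, hr, i', -, hnt⟩ := h
    obtain ⟨⟨i'', m⟩, hm, rfl⟩ := Option.map_eq_some_iff.1 hnt
    obtain ⟨a, ha⟩ := exists_coord_ne hinv hmove (aRoots_fix r hr).1 hm hne (n0 i')
    exact ha (congrFun (hstab r (aRoots_fix r hr).1 _ hrep (aRoots_fix r hr).2 a) i')
  have hzero : n0 0 = 0 := by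
    by_contra hne
    obtain ⟨m, hm⟩ : ∃ m, ntab 39 1 = some (0, m) := ⟨coefAt 39 1, by decide +kernel⟩
    obtain ⟨a, ha⟩ := exists_coord_ne hinv hmove (show 39 ∈ leviRoots by decide +kernel) hm hne (n0 1)
    refine ha (congrFun (hstab 39 (by decide +kernel)
      [1, 2, 3, 4, 5, 6, 7, 8, 9, 10, 11, 12, 13, 14, 15, 16, 17, 18] (fun i hi => ?_) bot_fix a) 1)
    rcases (show ∀ i ∈ ([1, 2, 3, 4, 5, 6, 7, 8, 9, 10, 11, 12, 13, 14, 15, 16, 17, 18] : List (Fin 20)),
      i ∈ ([1, 2, 3, 4, 5, 6, 7, 8, 9] : List (Fin 20)) ∨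
        i ∈ ([10, 11, 12, 13, 14, 15, 16, 17, 18] : List (Fin 20)) by decide +kernel) i hi with h | h
    exacts [hone i h, hrep i h]
  have hpure : n0 = Pi.single 19 a0 := funext fun i => by
    by_cases hi : i = 19
    · subst hi; rw [Pi.single_eq_same]
    rw [Pi.single_eq_of_ne hi]
    rcases (show ∀ i : Fin 20, i ≠ 19 → i = 0 ∨ i ∈ ([1, 2, 3, 4, 5, 6, 7, 8, 9] : List (Fin 20)) ∨
        i ∈ ([10, 11, 12, 13, 14, 15, 16, 17, 18] : List (Fin 20)) by decide +kernel) i hi with rfl | h | h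
    exacts [hzero, hone i h, hrep i h]
  refine Or.inr ⟨⟨a0, ha00, hpure ▸ hn0⟩, ?_⟩
  -- the cells
  let F0 : Finset (Fin 20 → K) := A.image fun a => diagMap (fun i => (a / a0) ^ chevE6.cartan 3 (rQ i)) n0
  have hF0card : F0.card = q - 1 := by
    rw [Finset.card_image_of_injOn ?_, hA]
    intro a _ b _ h
    have h' := congrFun h 19
    simp only [diagMap_apply, hc19, zpow_one] at h'
    have := mul_right_cancel₀ ha00 h'
    field_simp at this
    exact this
  have hF0 : ∀ c ∈ F0, c ∈ (O : Set (Fin 20 → K)) ∧ c 19 ≠ 0 ∧ ∀ i, i ∉ ([19] : List (Fin 20)) → c i = 0 := by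
    intro c hc
    obtain ⟨a, ha, rfl⟩ := Finset.mem_image.1 hc
    obtain ⟨haf, ha'⟩ := (Finset.mem_filter.1 ha).2
    obtain ⟨h1, h2⟩ := hscale (a / a0) (by rw [map_div₀, haf, fx19 n0 hn0]) (div_ne_zero ha' ha00) n0 hn0N
    refine ⟨((hNmem _).1 h1).1, ((hNmem _).1 h1).2.1, fun i hi => ?_⟩
    rw [diagMap_apply, hpure, Pi.single_eq_of_ne (by simpa using hi), mul_zero]
  obtain ⟨k4, k35, k16, k4', k16', k35', k4''⟩ := cell_oks
  obtain ⟨b4, bij35, bij16⟩ := perm_bij
  obtain ⟨e4, he4, hO4⟩ := h4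
  obtain ⟨e35, he35, hO35⟩ := h35
  obtain ⟨e16, he16, hO16⟩ := h16
  have m39 : 39 ∈ leviRoots := by decide +kernel
  have m37 : 37 ∈ leviRoots := by decide +kernel
  have m36 : 36 ∈ leviRoots := by decide +kernel
  obtain ⟨F18, c18, h18⟩ := exists_cell hinv hmove hO b4 he4 hO4 m39 k4 hF0
  obtain ⟨F15, c15, h15⟩ := exists_cell hinv hmove hO bij35 he35 hO35 m37 k35 h18
  obtain ⟨F10, c10, h10⟩ := exists_cell hinv hmove hO bij16 he16 hO16 m36 k16 h15
  obtain ⟨F9, c9, h9⟩ := exists_cell hinv hmove hO b4 he4 hO4 m39 k4' h15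
  obtain ⟨F6, c6, h6⟩ := exists_cell hinv hmove hO bij16 he16 hO16 m36 k16' h9
  obtain ⟨F1, c1', h1⟩ := exists_cell hinv hmove hO bij35 he35 hO35 m37 k35' h6
  obtain ⟨Fz, cz, hz⟩ := exists_cell hinv hmove hO b4 he4 hO4 m39 k4'' h1
  simp only [card_param hinv hk hK, b39, b36, b37, if_true, if_false] at c18 c15 c10 c9 c6 c1' cz
  have disj : ∀ {k : Fin 20} {A' : List (Fin 20)} {F F' : Finset (Fin 20 → K)},
      (∀ c ∈ F, c k ≠ 0) → (∀ c ∈ F', ∀ i, i ∉ A' → c i = 0) → k ∉ A' → Disjoint F F' := by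
    intro k A' F F' h h' hk'
    exact Finset.disjoint_left.2 fun c hc hc' => h c hc (h' c hc' k hk')
  have dz : Disjoint Fz (F0 ∪ F18 ∪ F15 ∪ F10 ∪ F9 ∪ F6 ∪ F1) := by
    simp only [Finset.disjoint_union_right, and_assoc]
    refine ⟨?_, ?_, ?_, ?_, ?_, ?_, ?_⟩
    exacts [disj (fun c hc => (hz c hc).2.1) (fun c hc => (hF0 c hc).2.2) (by decide +kernel),
      disj (fun c hc => (hz c hc).2.1) (fun c hc => (h18 c hc).2.2) (by decide +kernel),
      disj (fun c hc => (hz c hc).2.1) (fun c hc => (h15 c hc).2.2) (by decide +kernel),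
      disj (fun c hc => (hz c hc).2.1) (fun c hc => (h10 c hc).2.2) (by decide +kernel),
      disj (fun c hc => (hz c hc).2.1) (fun c hc => (h9 c hc).2.2) (by decide +kernel),
      disj (fun c hc => (hz c hc).2.1) (fun c hc => (h6 c hc).2.2) (by decide +kernel),
      disj (fun c hc => (hz c hc).2.1) (fun c hc => (h1 c hc).2.2) (by decide +kernel)]
  have d1 : Disjoint F1 (F0 ∪ F18 ∪ F15 ∪ F10 ∪ F9 ∪ F6) := by
    simp only [Finset.disjoint_union_right, and_assoc]
    refine ⟨?_, ?_, ?_, ?_, ?_, ?_⟩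
    exacts [disj (fun c hc => (h1 c hc).2.1) (fun c hc => (hF0 c hc).2.2) (by decide +kernel),
      disj (fun c hc => (h1 c hc).2.1) (fun c hc => (h18 c hc).2.2) (by decide +kernel),
      disj (fun c hc => (h1 c hc).2.1) (fun c hc => (h15 c hc).2.2) (by decide +kernel),
      disj (fun c hc => (h1 c hc).2.1) (fun c hc => (h10 c hc).2.2) (by decide +kernel),
      disj (fun c hc => (h1 c hc).2.1) (fun c hc => (h9 c hc).2.2) (by decide +kernel),
      disj (fun c hc => (h1 c hc).2.1) (fun c hc => (h6 c hc).2.2) (by decide +kernel)]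
  have d6 : Disjoint F6 (F0 ∪ F18 ∪ F15 ∪ F10 ∪ F9) := by
    simp only [Finset.disjoint_union_right, and_assoc]
    refine ⟨?_, ?_, ?_, ?_, ?_⟩
    exacts [disj (fun c hc => (h6 c hc).2.1) (fun c hc => (hF0 c hc).2.2) (by decide +kernel),
      disj (fun c hc => (h6 c hc).2.1) (fun c hc => (h18 c hc).2.2) (by decide +kernel),
      disj (fun c hc => (h6 c hc).2.1) (fun c hc => (h15 c hc).2.2) (by decide +kernel),
      disj (fun c hc => (h6 c hc).2.1) (fun c hc => (h10 c hc).2.2) (by decide +kernel),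
      disj (fun c hc => (h6 c hc).2.1) (fun c hc => (h9 c hc).2.2) (by decide +kernel)]
  have d9 : Disjoint F9 (F0 ∪ F18 ∪ F15 ∪ F10) := by
    simp only [Finset.disjoint_union_right, and_assoc]
    refine ⟨?_, ?_, ?_, ?_⟩
    exacts [disj (fun c hc => (h9 c hc).2.1) (fun c hc => (hF0 c hc).2.2) (by decide +kernel),
      disj (fun c hc => (h9 c hc).2.1) (fun c hc => (h18 c hc).2.2) (by decide +kernel),
      disj (fun c hc => (h9 c hc).2.1) (fun c hc => (h15 c hc).2.2) (by decide +kernel),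
      disj (fun c hc => (h9 c hc).2.1) (fun c hc => (h10 c hc).2.2) (by decide +kernel)]
  have d10 : Disjoint F10 (F0 ∪ F18 ∪ F15) := by
    simp only [Finset.disjoint_union_right, and_assoc]
    exact ⟨disj (fun c hc => (h10 c hc).2.1) (fun c hc => (hF0 c hc).2.2) (by decide +kernel),
      disj (fun c hc => (h10 c hc).2.1) (fun c hc => (h18 c hc).2.2) (by decide +kernel),
      disj (fun c hc => (h10 c hc).2.1) (fun c hc => (h15 c hc).2.2) (by decide +kernel)⟩
  have d15 : Disjoint F15 (F0 ∪ F18) := by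
    simp only [Finset.disjoint_union_right]
    exact ⟨disj (fun c hc => (h15 c hc).2.1) (fun c hc => (hF0 c hc).2.2) (by decide +kernel),
      disj (fun c hc => (h15 c hc).2.1) (fun c hc => (h18 c hc).2.2) (by decide +kernel)⟩
  have d18 : Disjoint F18 F0 := disj (fun c hc => (h18 c hc).2.1) (fun c hc => (hF0 c hc).2.2) (by decide +kernel)
  have hsub : F0 ∪ F18 ∪ F15 ∪ F10 ∪ F9 ∪ F6 ∪ F1 ∪ Fz ⊆ O := by
    simp only [Finset.union_subset_iff, and_assoc]
    exact ⟨fun c hc => (hF0 c hc).1, fun c hc => (h18 c hc).1, fun c hc => (h15 c hc).1, fun c hc => (h10 c hc).1,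
      fun c hc => (h9 c hc).1, fun c hc => (h6 c hc).1, fun c hc => (h1 c hc).1, fun c hc => (hz c hc).1⟩
  refine le_trans (le_of_eq ?_) (Finset.card_le_card hsub)
  rw [Finset.card_union_of_disjoint dz.symm, Finset.card_union_of_disjoint d1.symm,
    Finset.card_union_of_disjoint d6.symm, Finset.card_union_of_disjoint d9.symm,
    Finset.card_union_of_disjoint d10.symm, Finset.card_union_of_disjoint d15.symm,
    Finset.card_union_of_disjoint d18.symm, cz, c1', c6, c9, c10, c15, c18, hF0card]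
  ring

end Cfsg.Agent.MinDegree.TwoE6
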