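import Cfsg.Agent.Lib.MinDegree.TwoE6.Rational
import Cfsg.Agent.Lib.MinDegree.WeightTrace

/-!
The part of a representation fixed by the centre of the special subgroup, and its weights indexed by
rational coordinates.
-/

set_option autoImplicit false
set_option linter.unusedSectionVars false
set_option maxRecDepth 4000

namespace Cfsg.Agent.MinDegree.TwoE6

open Cfsg.Lie Cfsg.Agent.Chev Cfsg.Agent.Chev.BNSetup Module

variable {K : Type*} [Field K] [Fintype K] {φ : K ≃+* K} (hinv : ∀ x, φ (φ x) = x) (hmove : ∃ x, φ x ≠ x)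
variable {W : Type*} [AddCommGroup W] [Module ℂ W] [FiniteDimensional ℂ W]
variable (ρ : Representation ℂ ↥(GT φ) W)

/-- The operators of the centre. -/
noncomputable def opz (t : kfix φ) : W →ₗ[ℂ] W := ρ ⟨X 71 t.1, z_mem_iff.2 t.2⟩

omit hinv hmove in
theorem isOp_opz : IsOp (opz ρ) := by
  refine ⟨?_, fun s t => ?_⟩
  · rw [opz, show (⟨X 71 ((0 : kfix φ) : K), z_mem_iff.2 (0 : kfix φ).2⟩ : ↥(GT φ)) = 1 from
      Subtype.ext (X_zero (by norm_num)), map_one]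
  · rw [opz, opz, opz, show (⟨X 71 ((s + t : kfix φ) : K), z_mem_iff.2 (s + t).2⟩ : ↥(GT φ)) =
      ⟨X 71 s.1, z_mem_iff.2 s.2⟩ * ⟨X 71 t.1, z_mem_iff.2 t.2⟩ from
      Subtype.ext (X_add (K := K) (r := 71) (by norm_num) s.1 t.1).symm, map_mul]

/-- The fixed space of the centre. -/
noncomputable abbrev MZ : Submodule ℂ W :=
  haveI := Fintype.ofFinite (kfix φ)
  eigen (opz ρ) (1 : AddChar (kfix φ) ℂ)

omit hinv hmove in
theorem mem_MZ {v : W} : v ∈ MZ ρ ↔ ∀ z (h : φ z = z), ρ ⟨X 71 z, z_mem_iff.2 h⟩ v = v := by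
  rw [mem_eigen]
  simp only [AddChar.one_apply, one_smul]
  exact ⟨fun h z hz => h ⟨z, hz⟩, fun h t => h t.1 t.2⟩

/-- The element of the group with given coordinates. -/
noncomputable def Hg (c : V φ) : ↥(GT φ) := ⟨H c.1, H_mem hinv c.2⟩

omit hmove in
theorem rho_Hg_mem (c : V φ) {v : W} (hv : v ∈ MZ ρ) : ρ (Hg hinv c) v ∈ MZ ρ := by
  rw [mem_MZ] at hv ⊢
  intro z hz
  rw [← Module.End.mul_apply, ← map_mul, show (⟨X 71 z, z_mem_iff.2 hz⟩ : ↥(GT φ)) * Hg hinv c =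
    Hg hinv c * ⟨X 71 z, z_mem_iff.2 hz⟩ from Subtype.ext (z_commute z c.1).eq, map_mul, Module.End.mul_apply,
    hv z hz]

/-- The operators of the special subgroup on the fixed space of the centre. -/
noncomputable def opV (c : V φ) : MZ ρ →ₗ[ℂ] MZ ρ := (ρ (Hg hinv c)).restrict fun _ hv => rho_Hg_mem hinv ρ c hv

omit hmove in
theorem Hg_add (c d : V φ) : ∃ z : K, ∃ h : φ z = z, Hg hinv c * Hg hinv d =
    Hg hinv (c + d) * ⟨X 71 z, z_mem_iff.2 h⟩ := by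
  obtain ⟨_, ⟨z, rfl⟩, e⟩ := CQ.el_mul c.1 d.1
  have hm : X 71 z ∈ GT φ :=
    (Subgroup.mul_mem_cancel_left _ (H_mem hinv (c + d).2)).1 (by
      rw [show H (c + d).1 * X 71 z = H c.1 * H d.1 from e.symm]
      exact Subgroup.mul_mem _ (H_mem hinv c.2) (H_mem hinv d.2))
  exact ⟨z, z_mem_iff.1 hm, Subtype.ext e⟩

omit hmove in
theorem isOp_opV : IsOp (opV hinv ρ) := by
  refine ⟨LinearMap.ext fun v => Subtype.ext ?_, fun c d => LinearMap.ext fun v => Subtype.ext ?_⟩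
  · show ρ (Hg hinv 0) v.1 = v.1
    rw [show Hg hinv (0 : V φ) = 1 from Subtype.ext CQ.el_zero, map_one]
    rfl
  · show ρ (Hg hinv (c + d)) v.1 = ρ (Hg hinv c) (ρ (Hg hinv d) v.1)
    obtain ⟨z, hz, e⟩ := Hg_add hinv c d
    rw [← Module.End.mul_apply (ρ (Hg hinv c)), ← map_mul, e, map_mul, Module.End.mul_apply,
      mem_MZ ρ |>.1 v.2 z hz]

/-- The commutator form with values in the fixed field. -/
def omk (c d : V φ) : kfix φ := ⟨omega c.1 d.1, omega_fixed hinv c.2 d.2⟩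

/-- The character attached to coordinates. -/
def chi (ψ : AddChar (kfix φ) ℂ) (c : V φ) : AddChar (V φ) ℂ where
  toFun d := ψ (omk hinv c d)
  map_zero_eq_one' := by
    rw [show omk hinv c 0 = 0 from Subtype.ext (by simp [omk, omega]), AddChar.map_zero_eq_one]
  map_add_eq_mul' a b := by
    rw [← AddChar.map_add_eq_mul]
    exact congrArg ψ (Subtype.ext (omega_add_right c.1 a.1 b.1))

omit hmove in
theorem chi_apply (ψ : AddChar (kfix φ) ℂ) (c d : V φ) : chi hinv ψ c d = ψ (omk hinv c d) := rfl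

include hmove in
theorem chi_bijective {ψ : AddChar (kfix φ) ℂ} (hψ : ψ ≠ 1) : Function.Bijective (chi hinv ψ) := by
  have := Fintype.ofFinite (V φ)
  refine (Fintype.bijective_iff_injective_and_card _).2 ⟨fun c c' h => ?_, AddChar.card_eq.symm⟩
  by_contra hne
  obtain ⟨u, hu⟩ : ∃ u, ψ u ≠ 1 := by
    by_contra hcon
    push Not at hcon
    exact hψ (DFunLike.ext _ _ fun u => by rw [hcon u, AddChar.one_apply])
  obtain ⟨d, hd, e⟩ := exists_omega_ne hinv hmove (c - c').2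
    (fun e => hne (sub_eq_zero.1 (Subtype.ext e))) (t := u.1) u.2
  have h1 := DFunLike.congr_fun h ⟨d, hd⟩
  rw [chi_apply, chi_apply, show omk hinv c ⟨d, hd⟩ = omk hinv c' ⟨d, hd⟩ + u from Subtype.ext (by
    show omega c.1 d = omega c'.1 d + u.1
    rw [← e, ← omega_add]
    congr 1
    simp), AddChar.map_add_eq_mul] at h1
  exact hu (mul_eq_left₀ (AddChar.val_isUnit ψ _).ne_zero |>.1 h1)

/-- The dimension of the weight space of coordinates. -/
noncomputable def D (ψ : AddChar (kfix φ) ℂ) (c : V φ) : ℕ := finrank ℂ (eigen (opV hinv ρ) (chi hinv ψ c))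

include hmove in
theorem sum_D {ψ : AddChar (kfix φ) ℂ} (hψ : ψ ≠ 1) [Fintype (V φ)] :
    ∑ c, D hinv ρ ψ c = finrank ℂ (MZ ρ) := by
  rw [← sum_finrank_eigen (isOp_opV hinv ρ)]
  exact Fintype.sum_bijective _ (chi_bijective hinv hmove hψ) _ _ fun c => rfl

omit hinv hmove in
theorem rho_inj (g : ↥(GT φ)) : Function.Injective (ρ g) := fun x y h => by
  have h' := congrArg (ρ g⁻¹) h
  rwa [← Module.End.mul_apply, ← Module.End.mul_apply, ← map_mul, inv_mul_cancel, map_one,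
    Module.End.one_apply, Module.End.one_apply] at h'

variable {ρ} in
omit hinv hmove in
theorem Norm.mem_MZ {g : GL chevE6.Idx K} {M : (Fin 20 → K) →+ (Fin 20 → K)} {l : K} (hg : Norm φ g M l)
    {v : W} (hv : v ∈ MZ ρ) : ρ ⟨g, hg.mem⟩ v ∈ MZ ρ := by
  rw [TwoE6.mem_MZ] at hv ⊢
  intro z hz
  have hz' : φ (l⁻¹ * z) = l⁻¹ * z := by rw [map_mul, map_inv₀, hg.fixed, hz]
  rw [← Module.End.mul_apply, ← map_mul, show (⟨X 71 z, z_mem_iff.2 hz⟩ : ↥(GT φ)) * ⟨g, hg.mem⟩ =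
    ⟨g, hg.mem⟩ * ⟨X 71 (l⁻¹ * z), z_mem_iff.2 hz'⟩ from Subtype.ext (by
      show X 71 z * g = g * X 71 (l⁻¹ * z)
      rw [mul_inv_eq_iff_eq_mul.1 (hg.central (l⁻¹ * z)), ← mul_assoc, mul_inv_cancel₀ hg.ne_zero, one_mul]),
    map_mul, Module.End.mul_apply, hv _ hz']

include hmove in
/-- The image of a weight vector is a weight vector for the image coordinates. -/
theorem map_weight {g : GL chevE6.Idx K} {M : (Fin 20 → K) →+ (Fin 20 → K)} {l : K} (hg : Norm φ g M l)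
    {ψ : AddChar (kfix φ) ℂ} {c c' : V φ} (hc : M c.1 = l • c'.1) {v : MZ ρ}
    (hv : v ∈ eigen (opV hinv ρ) (chi hinv ψ c)) :
    (⟨ρ ⟨g, hg.mem⟩ v.1, hg.mem_MZ v.2⟩ : MZ ρ) ∈ eigen (opV hinv ρ) (chi hinv ψ c') := by
  rw [mem_eigen] at hv ⊢
  intro d'
  obtain ⟨d, hd, hMd⟩ := hg.surj hinv hmove d'.2
  have homk : omk hinv c' d' = omk hinv c ⟨d, hd⟩ := Subtype.ext (by
    have := hg.omega_map c.1 d
    rw [hc, omega_smul, hMd] at this
    exact mul_left_cancel₀ hg.ne_zero this)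
  obtain ⟨_, ⟨z, rfl⟩, e⟩ := hg.acts.cls CQ (CQ.cls_el d)
  rw [hMd] at e
  have hzm : X 71 z ∈ GT φ := (Subgroup.mul_mem_cancel_left _ (H_mem hinv d'.2)).1 (e ▸
    Subgroup.mul_mem _ (Subgroup.mul_mem _ hg.mem (H_mem hinv hd)) (Subgroup.inv_mem _ hg.mem))
  refine Subtype.ext ?_
  show ρ (Hg hinv d') (ρ ⟨g, hg.mem⟩ v.1) = chi hinv ψ c' d' • ρ ⟨g, hg.mem⟩ v.1
  have hv' := congrArg Subtype.val (hv ⟨d, hd⟩)
  rw [chi_apply, homk, ← chi_apply, ← map_smul]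
  have e' : Hg hinv d' * ⟨X 71 z, hzm⟩ * ⟨g, hg.mem⟩ = ⟨g, hg.mem⟩ * Hg hinv ⟨d, hd⟩ := Subtype.ext (by
    show H d'.1 * X 71 z * g = g * H d
    exact mul_inv_eq_iff_eq_mul.1 e |>.symm)
  have h3 := congrArg (fun x => ρ x v.1) e'
  simp only [map_mul, Module.End.mul_apply] at h3
  rw [(TwoE6.mem_MZ ρ).1 (hg.mem_MZ v.2) z (z_mem_iff.1 hzm)] at h3
  rw [h3]
  exact congrArg _ hv'

include hmove in
theorem D_le {g : GL chevE6.Idx K} {M : (Fin 20 → K) →+ (Fin 20 → K)} {l : K} (hg : Norm φ g M l)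
    (ψ : AddChar (kfix φ) ℂ) {c c' : V φ} (hc : M c.1 = l • c'.1) : D hinv ρ ψ c ≤ D hinv ρ ψ c' := by
  let L : eigen (opV hinv ρ) (chi hinv ψ c) →ₗ[ℂ] eigen (opV hinv ρ) (chi hinv ψ c') :=
    { toFun := fun v => ⟨⟨ρ ⟨g, hg.mem⟩ v.1.1, hg.mem_MZ v.1.2⟩, map_weight hinv hmove ρ hg hc v.2⟩
      map_add' := fun v w => Subtype.ext (Subtype.ext (by simp))
      map_smul' := fun a v => Subtype.ext (Subtype.ext (by simp)) }
  exact LinearMap.finrank_le_finrank_of_injective (f := L) fun v w h =>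
    Subtype.ext (Subtype.ext (rho_inj ρ _ (congrArg (fun u => u.1.1) h)))

end Cfsg.Agent.MinDegree.TwoE6
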