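import Cfsg.Agent.Lib.MinDegree.TwoE6.Elts
import Cfsg.Agent.Lib.MinDegree.TwoE6.Weights

/-!
Vectors fixed by the elements of an orbit of roots, monomial elements of the twisted group moving them, and
sums over fixed root groups.
-/

set_option autoImplicit false
set_option linter.unusedSectionVars false
set_option maxRecDepth 4000

namespace Cfsg.Agent.MinDegree.TwoE6

open Cfsg.Lie Cfsg.Agent.Chev Cfsg.Agent.Chev.BNSetup Module

variable {K : Type*} [Field K] {φ : K ≃+* K}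
variable {W : Type*} [AddCommGroup W] [Module ℂ W] (ρ : Representation ℂ ↥(GT φ) W)

theorem rho_mul (g h : ↥(GT φ)) (v : W) : ρ (g * h) v = ρ g (ρ h v) := by
  rw [map_mul, Module.End.mul_apply]

theorem rho_inv (g : ↥(GT φ)) (v : W) : ρ g⁻¹ (ρ g v) = v := by
  rw [← rho_mul, inv_mul_cancel, map_one, Module.End.one_apply]

theorem rho_inv' (g : ↥(GT φ)) (v : W) : ρ g (ρ g⁻¹ v) = v := by
  rw [← rho_mul, mul_inv_cancel, map_one, Module.End.one_apply]

/-- An element of the twisted group on the two root groups of an orbit. -/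
def InOrb (r : ℕ) (g : ↥(GT φ)) : Prop := ∃ a b : K, (g : GL chevE6.Idx K) = X r a * X (bar r) b

/-- A vector fixed by the elements on the orbit of a root. -/
def F (v : W) (r : ℕ) : Prop := ∀ g : ↥(GT φ), InOrb r g → ρ g v = v

theorem F_bar {v : W} {r : ℕ} (hr : r < 72) (h : F ρ v r) : F ρ v (bar r) := by
  rintro g ⟨a, b, e⟩
  obtain ⟨-, hbb, -, -, hc⟩ := bar_lt r hr
  rw [hbb] at e
  refine h g ⟨b, a, ?_⟩
  by_cases hb : bar r = r
  · rw [e, hb, X_add hr, X_add hr, add_comm]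
  · rw [e, (X_commute (hc hb) b a).eq]

/-- The element of a root fixed by the symmetry. -/
noncomputable def xF (r : ℕ) (t : kfix φ) : ↥(GT φ) :=
  if h : r < 72 ∧ bar r = r then ⟨X r t.1, X_mem φ h.1 h.2 t.2⟩ else 1

theorem xF_coe {r : ℕ} (h : r < 72 ∧ bar r = r) (t : kfix φ) : (xF r t : GL chevE6.Idx K) = X r t.1 := by
  rw [xF, dif_pos h]

theorem xF_add {r : ℕ} (h : r < 72 ∧ bar r = r) (s t : kfix φ) : xF r s * xF r t = xF r (s + t) :=
  Subtype.ext (by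
    rw [Subgroup.coe_mul, xF_coe h, xF_coe h, xF_coe h, X_add h.1]
    rfl)

theorem xF_zero {r : ℕ} (h : r < 72 ∧ bar r = r) : xF r (0 : kfix φ) = 1 :=
  Subtype.ext (by rw [xF_coe h]; exact X_zero h.1)

theorem F_iff {v : W} {r : ℕ} (h : r < 72 ∧ bar r = r) : F ρ v r ↔ ∀ t : kfix φ, ρ (xF r t) v = v := by
  refine ⟨fun hv t => hv _ ⟨t.1, 0, by rw [xF_coe h, h.2, X_zero h.1, mul_one]⟩, fun hv g hg => ?_⟩
  obtain ⟨a, b, e⟩ := hg
  rw [h.2, X_add h.1] at e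
  have hm := sigma_eq_of_mem φ g.2
  rw [e, sigma_X φ h.1, h.2, (bar_lt r h.1).2.2.2.1 h.2, Int.cast_one, one_mul] at hm
  have hfix : φ (a + b) = a + b := X_inj h.1 hm
  rw [show g = xF r ⟨a + b, hfix⟩ from Subtype.ext (by rw [xF_coe h, e])]
  exact hv _

/-- Conjugation by the element permutes the root groups. -/
def Mono (g : ↥(GT φ)) (w : ℕ → ℕ) : Prop :=
  ∀ s < 72, w s < 72 ∧ ∃ e : K, e ≠ 0 ∧ ∀ a, (g : GL chevE6.Idx K) * X s a * (g : GL chevE6.Idx K)⁻¹ = X (w s) (e * a)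

theorem Mono.comp {g h : ↥(GT φ)} {w w' : ℕ → ℕ} (hg : Mono g w) (hh : Mono h w') :
    Mono (g * h) fun s => w (w' s) := by
  intro s hs
  obtain ⟨hs', e', he', he⟩ := hh s hs
  obtain ⟨hs'', e, he0, hge⟩ := hg _ hs'
  refine ⟨hs'', e * e', mul_ne_zero he0 he', fun a => ?_⟩
  rw [Subgroup.coe_mul, mul_inv_rev, mul_assoc e, ← hge, ← he]
  group

theorem Mono.inv {g : ↥(GT φ)} {w : ℕ → ℕ} (hg : Mono g w) {w' : ℕ → ℕ}
    (h' : ∀ s < 72, w' s < 72 ∧ w (w' s) = s) : Mono g⁻¹ w' := by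
  intro s hs
  obtain ⟨hs', hw⟩ := h' s hs
  obtain ⟨-, e, he0, he⟩ := hg _ hs'
  refine ⟨hs', e⁻¹, inv_ne_zero he0, fun a => ?_⟩
  have h := he (e⁻¹ * a)
  rw [hw, ← mul_assoc, mul_inv_cancel₀ he0, one_mul] at h
  rw [← h, Subgroup.coe_inv]
  group

/-- A monomial element moves fixed vectors. -/
theorem F_map {g : ↥(GT φ)} {w : ℕ → ℕ} (hg : Mono g w) {v : W} {r r' : ℕ} (hr : r < 72)
    (h1 : w r = r') (h2 : w (bar r) = bar r') (h : F ρ v r) : F ρ (ρ g v) r' := by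
  intro g' ⟨a, b, e⟩
  obtain ⟨-, e1, he1, hx1⟩ := hg r hr
  obtain ⟨-, e2, he2, hx2⟩ := hg _ (bar_lt r hr).1
  have k := h (g⁻¹ * g' * g) ⟨e1⁻¹ * a, e2⁻¹ * b, by
    have ha := hx1 (e1⁻¹ * a)
    have hb := hx2 (e2⁻¹ * b)
    rw [h1, ← mul_assoc, mul_inv_cancel₀ he1, one_mul] at ha
    rw [h2, ← mul_assoc, mul_inv_cancel₀ he2, one_mul] at hb
    rw [Subgroup.coe_mul, Subgroup.coe_mul, Subgroup.coe_inv, e, ← ha, ← hb]
    group⟩
  have k' := congrArg (ρ g) k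
  rw [rho_mul, rho_mul, rho_inv'] at k'
  exact k'

theorem Mono.fixed {g : ↥(GT φ)} {w : ℕ → ℕ} (hg : Mono g w) {r : ℕ} (h : r < 72 ∧ bar r = r)
    (h' : w r < 72 ∧ bar (w r) = w r) :
    ∃ e : kfix φ, e ≠ 0 ∧ ∀ t : kfix φ, g * xF r t * g⁻¹ = xF (w r) (e * t) := by
  obtain ⟨-, e, he0, he⟩ := hg r h.1
  have hfix : φ e = e := by
    have hm := (g * xF r (1 : kfix φ) * g⁻¹).2
    have hm' := sigma_eq_of_mem φ hm
    rw [Subgroup.coe_mul, Subgroup.coe_mul, Subgroup.coe_inv, xF_coe h, he, sigma_X φ h'.1, h'.2,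
      (bar_lt _ h'.1).2.2.2.1 h'.2, Int.cast_one, one_mul] at hm'
    simpa using X_inj h'.1 hm'
  refine ⟨⟨e, hfix⟩, fun h0 => he0 (congrArg Subtype.val h0), fun t => Subtype.ext ?_⟩
  rw [Subgroup.coe_mul, Subgroup.coe_mul, Subgroup.coe_inv, xF_coe h, xF_coe h', he]
  rfl

variable [Fintype K]

/-- The sum over a fixed root group. -/
noncomputable def A (r : ℕ) (v : W) : W :=
  haveI := Fintype.ofFinite (kfix φ)
  ∑ t : kfix φ, ρ (xF r t) v

theorem A_smul (r : ℕ) (c : ℂ) (v : W) : A ρ r (c • v) = c • A ρ r v := by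
  simp only [A, map_smul, Finset.smul_sum]

theorem A_add (r : ℕ) (v w : W) : A ρ r (v + w) = A ρ r v + A ρ r w := by
  simp only [A, map_add, Finset.sum_add_distrib]

theorem A_sum (r : ℕ) {ι : Type*} (s : Finset ι) (f : ι → W) : A ρ r (∑ i ∈ s, f i) = ∑ i ∈ s, A ρ r (f i) := by
  simp only [A, map_sum]
  exact Finset.sum_comm

theorem A_zero (r : ℕ) : A ρ r (0 : W) = 0 := by simp [A]

theorem A_fixed {r : ℕ} (h : r < 72 ∧ bar r = r) {q : ℕ} (hk : Nat.card (kfix φ) = q) {v : W}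
    (hv : F ρ v r) : A ρ r v = (q : ℂ) • v := by
  let _ := Fintype.ofFinite (kfix φ)
  simp only [A, (F_iff ρ h).1 hv, Finset.sum_const, Finset.card_univ]
  rw [← Nat.card_eq_fintype_card, hk, Nat.cast_smul_eq_nsmul]

theorem A_absorb {r : ℕ} (h : r < 72 ∧ bar r = r) (s : kfix φ) (v : W) : A ρ r (ρ (xF r s) v) = A ρ r v := by
  let _ := Fintype.ofFinite (kfix φ)
  simp only [A, ← rho_mul, xF_add h]
  exact Fintype.sum_equiv (Equiv.addRight s) _ _ fun t => rfl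

theorem F_A {r : ℕ} (h : r < 72 ∧ bar r = r) (v : W) : F ρ (A ρ r v) r := (F_iff ρ h).2 fun s => by
  let _ := Fintype.ofFinite (kfix φ)
  simp only [A, map_sum, ← rho_mul, xF_add h]
  exact Fintype.sum_equiv (Equiv.addLeft s) _ _ fun t => rfl

/-- A monomial element moves sums over root groups. -/
theorem A_map {g : ↥(GT φ)} {w : ℕ → ℕ} (hg : Mono g w) {r r' : ℕ} (h : r < 72 ∧ bar r = r) (hw : w r = r')
    (h' : r' < 72 ∧ bar r' = r') (v : W) : ρ g (A ρ r v) = A ρ r' (ρ g v) := by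
  let _ := Fintype.ofFinite (kfix φ)
  subst hw
  obtain ⟨e, he0, he⟩ := hg.fixed h h'
  simp only [A, map_sum]
  refine Fintype.sum_equiv (Equiv.mulLeft₀ e he0) _ _ fun t => ?_
  rw [Equiv.mulLeft₀_apply, ← he, ← rho_mul, ← rho_mul, inv_mul_cancel_right]

theorem A_comm {r s : ℕ} (h : r < 72 ∧ bar r = r) (h' : s < 72 ∧ bar s = s) (hc : commB r s = true) (v : W) :
    A ρ r (A ρ s v) = A ρ s (A ρ r v) := by
  let _ := Fintype.ofFinite (kfix φ)
  simp only [A, map_sum, ← rho_mul]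
  rw [Finset.sum_comm]
  refine Finset.sum_congr rfl fun t _ => Finset.sum_congr rfl fun u _ => ?_
  congr 2
  exact Subtype.ext (by
    rw [Subgroup.coe_mul, Subgroup.coe_mul, xF_coe h, xF_coe h']
    exact (X_commute hc _ _).eq)

theorem A_commute {r : ℕ} (h : r < 72 ∧ bar r = r) (g : ↥(GT φ))
    (hc : ∀ a : K, Commute (X r a) (g : GL chevE6.Idx K)) (v : W) : A ρ r (ρ g v) = ρ g (A ρ r v) := by
  let _ := Fintype.ofFinite (kfix φ)
  simp only [A, map_sum, ← rho_mul]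
  refine Finset.sum_congr rfl fun t _ => ?_
  congr 2
  exact Subtype.ext (by rw [Subgroup.coe_mul, Subgroup.coe_mul, xF_coe h]; exact (hc _).eq)

/-- The Weyl element at a node fixed by the symmetry. -/
noncomputable def nn (φ : K ≃+* K) (j : Fin 4) : ↥(GT φ) :=
  ⟨((orbE6.Jl 4 j).map fun k => ne' E6.good (chevE6.simple k) (1 : K)).prod,
    prod_ne'_mem_Gt E6.good orbE6_ok φ facts_chevE6 graphE6_cols negTri_chevE6 j (a := fun _ => (1 : K))
      fun _ _ => (map_one φ).symm⟩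

theorem mono_ne' {k : ℕ} (hk : k < 6) {s : ℕ} (hs : s < 72) :
    chevE6.reflectRoot k s < 72 ∧ ∃ e : K, e ≠ 0 ∧ ∀ a,
      ne' E6.good (chevE6.simple k) (1 : K) * X s a * (ne' E6.good (chevE6.simple k) 1)⁻¹ =
        X (chevE6.reflectRoot k s) (e * a) := by
  obtain ⟨e, he, hc, -⟩ := exists_conj E6.good (F := K) (show k < chevE6.rank from hk)
    (show s < chevE6.nroots from hs)
  exact ⟨E6.good.reflectRoot_lt hk hs, e, left_ne_zero_of_mul_eq_one he, hc⟩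

/-- The permutation of the roots by the Weyl element. -/
def wJ (j : Fin 4) (s : ℕ) : ℕ := (orbE6.Jl 4 j).foldr chevE6.reflectRoot s

theorem wJ_facts : ∀ j : Fin 4, ∀ s < 72, wJ j s < 72 ∧ wJ j (wJ j s) = s ∧ wJ j (bar s) = bar (wJ j s) := by
  decide +kernel

theorem mono_nn (j : Fin 4) : Mono (nn φ j) (wJ j) := by
  suffices key : ∀ l : List ℕ, (∀ k ∈ l, k < 6) → ∀ s < 72, l.foldr chevE6.reflectRoot s < 72 ∧
      ∃ e : K, e ≠ 0 ∧ ∀ a, (l.map fun k => ne' E6.good (chevE6.simple k) (1 : K)).prod * X s a *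
        ((l.map fun k => ne' E6.good (chevE6.simple k) (1 : K)).prod)⁻¹ =
          X (l.foldr chevE6.reflectRoot s) (e * a) from
    key _ (by revert j; decide +kernel)
  intro l hl s hs
  induction l with
  | nil => exact ⟨hs, 1, one_ne_zero, fun a => by simp⟩
  | cons k l ih =>
    obtain ⟨hlt, e, he, hx⟩ := ih fun k' h => hl k' (List.mem_cons_of_mem _ h)
    obtain ⟨hlt', e', he', hx'⟩ := mono_ne' (K := K) (hl k List.mem_cons_self) hlt
    refine ⟨hlt', e' * e, mul_ne_zero he' he, fun a => ?_⟩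
    rw [List.map_cons, List.prod_cons, mul_inv_rev, mul_assoc e', List.foldr_cons, ← hx', ← hx]
    group

theorem F_nn {v : W} {r : ℕ} (hr : r < 72) (j : Fin 4) (h : F ρ v r) : F ρ (ρ (nn φ j) v) (wJ j r) :=
  F_map ρ (mono_nn j) hr rfl (wJ_facts j r hr).2.2 h

theorem F_nn_inv {v : W} {r : ℕ} (hr : r < 72) (j : Fin 4) (h : F ρ v r) : F ρ (ρ (nn φ j)⁻¹ v) (wJ j r) :=
  F_map ρ ((mono_nn j).inv fun s hs => ⟨(wJ_facts j s hs).1, (wJ_facts j s hs).2.1⟩) hr rfl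
    (wJ_facts j r hr).2.2 h

/-- A word in the fixed root groups at a node fixes the vectors fixed by them. -/
theorem nn_fixed {j : Fin 4} {k : ℕ} (hj : orbE6.Jl 4 j = [k]) (hk : k < 6) {v : W}
    (h1 : F ρ v (chevE6.simple k)) (h2 : F ρ v (chevE6.neg (chevE6.simple k))) : ρ (nn φ j) v = v := by
  have hfix : ∀ k < 6, orbE6.Jl 4 0 = [k] ∨ orbE6.Jl 4 1 = [k] ∨ orbE6.Jl 4 2 = [k] ∨ orbE6.Jl 4 3 = [k] →
      (chevE6.simple k < 72 ∧ bar (chevE6.simple k) = chevE6.simple k) ∧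
        (chevE6.neg (chevE6.simple k) < 72 ∧ bar (chevE6.neg (chevE6.simple k)) = chevE6.neg (chevE6.simple k)) := by
    decide +kernel
  obtain ⟨hs, hn⟩ := hfix k hk (by fin_cases j <;> simp_all)
  have e : nn φ j = xF (chevE6.simple k) 1 * xF (chevE6.neg (chevE6.simple k)) (-1) * xF (chevE6.simple k) 1 :=
    Subtype.ext (by
      rw [Subgroup.coe_mul, Subgroup.coe_mul, xF_coe hs, xF_coe hn]
      show ((orbE6.Jl 4 j).map _).prod = _
      rw [hj, List.map_singleton, List.prod_singleton, ne', inv_one]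
      rfl)
  rw [e, rho_mul, rho_mul, (F_iff ρ hs).1 h1, (F_iff ρ hn).1 h2, (F_iff ρ hs).1 h1]

end Cfsg.Agent.MinDegree.TwoE6
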