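import Cfsg.Agent.Lib.MinDegree.TwoE6.Orbs

/-!
Vectors fixed by the special subgroup, root by root.
-/

set_option autoImplicit false
set_option linter.unusedSectionVars false
set_option maxRecDepth 4000

namespace Cfsg.Agent.MinDegree.TwoE6

open Cfsg.Lie Cfsg.Agent.Chev Cfsg.Agent.Chev.BNSetup Module

variable {K : Type*} [Field K] [Fintype K] {φ : K ≃+* K} (hinv : ∀ x, φ (φ x) = x)
variable {W : Type*} [AddCommGroup W] [Module ℂ W] [FiniteDimensional ℂ W]
variable (ρ : Representation ℂ ↥(GT φ) W)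

theorem fixd_71 : (71 < 72 ∧ bar 71 = 71) := by decide +kernel

theorem mem_MZ_iff_F {v : W} : v ∈ MZ ρ ↔ F ρ v 71 := by
  rw [F_iff ρ fixd_71, mem_MZ]
  have e : ∀ t : kfix φ, xF 71 t = ⟨X 71 t.1, z_mem_iff.2 t.2⟩ := fun t => Subtype.ext (xF_coe fixd_71 t)
  exact ⟨fun h t => (e t).symm ▸ h t.1 t.2, fun h z hz => (e ⟨z, hz⟩) ▸ h ⟨z, hz⟩⟩

/-- An element with given coordinates acts as the element of the coordinates. -/
theorem rho_of_cls {v : W} (hv : v ∈ MZ ρ) (g : ↥(GT φ)) (d : V φ)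
    (h : CQ.Cls (g : GL chevE6.Idx K) d.1) : ρ g v = ρ (Hg hinv d) v := by
  obtain ⟨_, ⟨z, rfl⟩, e⟩ := h
  have hz : X 71 z ∈ GT φ := (Subgroup.mul_mem_cancel_left _ (H_mem hinv d.2)).1 (e ▸ g.2)
  rw [show g = Hg hinv d * ⟨X 71 z, hz⟩ from Subtype.ext e, rho_mul, (mem_MZ ρ).1 hv z (z_mem_iff.1 hz)]

theorem rho_Hg_add (c d : V φ) {v : W} (hv : v ∈ MZ ρ) :
    ρ (Hg hinv (c + d)) v = ρ (Hg hinv c) (ρ (Hg hinv d) v) :=
  congrArg Subtype.val (DFunLike.congr_fun ((isOp_opV hinv ρ).add c d) (⟨v, hv⟩ : MZ ρ))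

theorem rho_Hg_zero (v : W) : ρ (Hg hinv (0 : V φ)) v = v := by
  rw [show Hg hinv (0 : V φ) = 1 from Subtype.ext CQ.el_zero, map_one, Module.End.one_apply]

/-- The coordinates on the orbit of one coordinate. -/
def piece (hinv : ∀ x, φ (φ x) = x) (d : V φ) (i : Fin 20) : V φ :=
  if h : pi20 i = i then ⟨Pi.single i (d.1 i), single_mem h (fixed_of d.2 h)⟩
  else ⟨Pi.single i (d.1 i) + Pi.single (pi20 i) ((sg20 i : K) * φ (d.1 i)), pair_mem hinv h _⟩
where
  fixed_of {c : Fin 20 → K} (hc : c ∈ V φ) {i : Fin 20} (hi : pi20 i = i) : φ (c i) = c i := by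
    obtain ⟨ha, hb, hc', -⟩ := rQ_facts i
    rw [hi] at hb
    have e := mem_V.1 hc i
    rw [hi, ← hc', (bar_lt _ ha).2.2.2.1 hb, Int.cast_one, one_mul] at e
    exact e.symm

theorem piece_apply (d : V φ) (i j : Fin 20) :
    (piece hinv d i).1 j = if j = i ∨ j = pi20 i then d.1 j else 0 := by
  obtain ⟨-, -, -, h4, h5, -⟩ := rQ_facts i
  by_cases h : pi20 i = i
  · rw [piece, dif_pos h]
    by_cases hj : j = i
    · subst hj; simp
    · simp [hj, h]
  · rw [piece, dif_neg h]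
    have e := mem_V.1 d.2 (pi20 i)
    rw [h4, h5] at e
    by_cases hj : j = i
    · subst hj; simp [Ne.symm h]
    by_cases hj' : j = pi20 i
    · subst hj'; simp [h, e]
    · simp [hj, hj']

theorem piece_cls (d : V φ) (i : Fin 20) :
    ∃ g : ↥(GT φ), InOrb (rQ i) g ∧ CQ.Cls (g : GL chevE6.Idx K) (piece hinv d i).1 := by
  obtain ⟨h1, h2, h3, -⟩ := rQ_facts i
  by_cases h : pi20 i = i
  · rw [piece, dif_pos h]
    refine ⟨⟨X (rQ i) (d.1 i), X_mem φ h1 (by rw [h2, h]) (piece.fixed_of d.2 h)⟩, ⟨d.1 i, 0, ?_⟩, CQ.cls_x i _⟩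
    show X (rQ i) (d.1 i) = _
    rw [h2, h, X_zero h1, mul_one]
  · rw [piece, dif_neg h]
    have hne : bar (rQ i) ≠ rQ i := fun e => h (by
      have := (show ∀ i, bar (rQ i) = rQ i → pi20 i = i by decide +kernel) i e
      exact this)
    refine ⟨⟨Y φ (rQ i) (d.1 i), Y_mem φ hinv h1 hne _⟩, ⟨_, _, rfl⟩, ?_⟩
    show CQ.Cls (Y φ (rQ i) (d.1 i)) _
    rw [Y, h2, h3]
    exact CQ.cls_mul (CQ.cls_x i _) (CQ.cls_x (pi20 i) _)

/-- A vector fixed by the special subgroup away from some coordinates. -/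
def QF (S : List (Fin 20)) (v : W) : Prop :=
  v ∈ MZ ρ ∧ ∀ d : V φ, (∀ i ∈ S, d.1 i = 0) → ρ (Hg hinv d) v = v

theorem qf_of_F {S : List (Fin 20)} {v : W} (h71 : F ρ v 71) (h : ∀ i, i ∉ S → F ρ v (rQ i)) :
    QF hinv ρ S v := by
  classical
  have hz := (mem_MZ_iff_F ρ).2 h71
  refine ⟨hz, fun d => ?_⟩
  induction hn : (Finset.univ.filter fun i => d.1 i ≠ 0).card using Nat.strong_induction_on generalizing d with
  | _ n ih =>
    intro hS
    subst hn
    by_cases h0 : ∀ i, d.1 i = 0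
    · rw [show d = 0 from Subtype.ext (funext h0)]
      exact rho_Hg_zero hinv ρ v
    push Not at h0
    obtain ⟨i, hi⟩ := h0
    have hp := piece_apply hinv d i
    have hsub : ∀ j, (d - piece hinv d i).1 j = if j = i ∨ j = pi20 i then 0 else d.1 j := fun j => by
      show d.1 j - (piece hinv d i).1 j = _
      rw [hp]; split_ifs <;> simp
    have hlt := ih (Finset.univ.filter fun j => (d - piece hinv d i).1 j ≠ 0).card
      (Finset.card_lt_card ((Finset.ssubset_iff_of_subset fun j hj => ?_).2 ⟨i, by simp [hi], by simp [hsub]⟩))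
      (d - piece hinv d i) rfl fun j hj => by rw [hsub]; split_ifs <;> simp [hS j hj]
    swap
    · simp only [Finset.mem_filter, Finset.mem_univ, true_and, hsub] at hj ⊢
      split_ifs at hj
      · exact absurd rfl hj
      · exact hj
    obtain ⟨g, hg, hcls⟩ := piece_cls hinv d i
    have hgi : i ∉ S := fun hiS => hi (hS i hiS)
    have hd : d = piece hinv d i + (d - piece hinv d i) := (add_sub_cancel _ _).symm
    rw [hd, rho_Hg_add hinv ρ _ _ hz, hlt, ← rho_of_cls hinv ρ hz g _ hcls]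
    exact h i hgi g hg

theorem F_of_QF {S : List (Fin 20)} {v : W} (hv : QF hinv ρ S v) {i : Fin 20} (hi : i ∉ S) (hi' : pi20 i ∉ S) :
    F ρ v (rQ i) := by
  rintro g ⟨a, b, e⟩
  obtain ⟨h1, h2, -⟩ := rQ_facts i
  have hc : CQ.Cls (g : GL chevE6.Idx K) (Pi.single i a + Pi.single (pi20 i) b) := by
    rw [e, h2]
    exact CQ.cls_mul (CQ.cls_x i _) (CQ.cls_x (pi20 i) _)
  rw [rho_of_cls hinv ρ hv.1 g ⟨_, cls_rational g.2 hc⟩ hc]
  refine hv.2 _ fun j hj => ?_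
  show (Pi.single i a + Pi.single (pi20 i) b : Fin 20 → K) j = 0
  rw [Pi.add_apply, Pi.single_eq_of_ne (fun e' : j = i => hi (e' ▸ hj)),
    Pi.single_eq_of_ne (fun e' : j = pi20 i => hi' (e' ▸ hj)), add_zero]

/-- Summing over the root group of a coordinate. -/
theorem QF.sum {S : List (Fin 20)} {i : Fin 20} (hi : pi20 i = i) (hiS : i ∉ S) {v : W}
    (hv : QF hinv ρ (i :: S) v) : QF hinv ρ S (A ρ (rQ i) v) := by
  let _ := Fintype.ofFinite (kfix φ)
  obtain ⟨h1, h2, -⟩ := rQ_facts i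
  have hf : rQ i < 72 ∧ bar (rQ i) = rQ i := ⟨h1, by rw [h2, hi]⟩
  let δ : kfix φ → V φ := fun t => ⟨Pi.single i t.1, single_mem hi t.2⟩
  have hx : ∀ t, ρ (xF (rQ i) t) v = ρ (Hg hinv (δ t)) v := fun t =>
    rho_of_cls hinv ρ hv.1 _ (δ t) (by rw [xF_coe hf]; exact CQ.cls_x i _)
  refine ⟨?_, fun d hd => ?_⟩
  · simp only [A, hx]
    exact Submodule.sum_mem _ fun t _ => rho_Hg_mem hinv ρ _ hv.1
  simp only [A, hx, map_sum]
  let t0 : kfix φ := ⟨d.1 i, piece.fixed_of d.2 hi⟩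
  refine Fintype.sum_equiv (Equiv.addLeft t0) _ _ fun t => ?_
  have hrest : ρ (Hg hinv (d - δ t0)) v = v := hv.2 _ fun j hj => by
    show d.1 j - Pi.single (M := fun _ => K) i (d.1 i) j = 0
    rcases List.mem_cons.1 hj with rfl | hj
    · rw [Pi.single_eq_same, sub_self]
    · rw [Pi.single_eq_of_ne (fun e : j = i => hiS (e ▸ hj)), hd j hj, sub_zero]
  rw [Equiv.coe_addLeft, ← rho_Hg_add hinv ρ _ _ hv.1, show d + δ t = δ (t0 + t) + (d - δ t0) from
    Subtype.ext (funext fun j => by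
      show d.1 j + Pi.single (M := fun _ => K) i t.1 j =
        Pi.single (M := fun _ => K) i (d.1 i + t.1) j + (d.1 j - Pi.single (M := fun _ => K) i (d.1 i) j)
      rw [Pi.single_add, Pi.add_apply]
      ring), rho_Hg_add hinv ρ _ _ hv.1, hrest]

/-- The vectors fixed by the special subgroup. -/
noncomputable def MQ : Submodule ℂ W := (eigen (opV hinv ρ) (1 : AddChar (V φ) ℂ)).map (MZ ρ).subtype

theorem mem_MQ {v : W} : v ∈ MQ hinv ρ ↔ QF hinv ρ [] v := by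
  simp only [MQ, Submodule.mem_map, mem_eigen, AddChar.one_apply, one_smul, Submodule.coe_subtype]
  refine ⟨?_, fun h => ⟨⟨v, h.1⟩, fun d => Subtype.ext (h.2 d (by simp)), rfl⟩⟩
  rintro ⟨y, hy, rfl⟩
  exact ⟨y.2, fun d _ => congrArg Subtype.val (hy d)⟩

theorem mem_MQ_iff_F {v : W} : v ∈ MQ hinv ρ ↔ F ρ v 71 ∧ ∀ i, F ρ v (rQ i) := by
  rw [mem_MQ]
  exact ⟨fun h => ⟨(mem_MZ_iff_F ρ).1 h.1, fun i => F_of_QF hinv ρ h (by simp) (by simp)⟩,
    fun h => qf_of_F hinv ρ h.1 fun i _ => h.2 i⟩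

theorem chi_zero (ψ : AddChar (kfix φ) ℂ) : chi hinv ψ 0 = 1 := DFunLike.ext _ _ fun d => by
  rw [chi_apply, show omk hinv 0 d = 0 from Subtype.ext (by simp [omk, omega]), AddChar.map_zero_eq_one,
    AddChar.one_apply]

theorem finrank_MQ (ψ : AddChar (kfix φ) ℂ) : finrank ℂ (MQ hinv ρ) = D hinv ρ ψ 0 := by
  rw [D, chi_zero]
  exact (Submodule.equivMapOfInjective _ (MZ ρ).injective_subtype _).finrank_eq.symm

end Cfsg.Agent.MinDegree.TwoE6
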