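import Cfsg.Agent.Lib.MinDegree.TwoE6.Heis

/-!
The rational points of the coordinates of the special subgroup and the characters given by the commutator
form.
-/

set_option autoImplicit false
set_option maxRecDepth 4000

namespace Cfsg.Agent.MinDegree.TwoE6

open Cfsg.Lie Cfsg.Agent.Chev Cfsg.Agent.Chev.BNSetup

variable {K : Type*} [Field K] (φ : K ≃+* K)

/-- The fixed field. -/
def kfix : Subfield K := (φ : K →+* K).eqLocusField (RingHom.id K)

theorem mem_kfix {x : K} : x ∈ kfix φ ↔ φ x = x := Iff.rfl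

/-- The rational coordinates. -/
def V : AddSubgroup (Fin 20 → K) := (tau φ).eqLocus (AddMonoidHom.id _)

variable {φ}

theorem mem_V {c : Fin 20 → K} : c ∈ V φ ↔ ∀ i, c i = (sg20 i : K) * φ (c (pi20 i)) :=
  ⟨fun h i => (congrFun h i).symm, fun h => funext fun i => (h i).symm⟩

theorem V_smul {a : K} (ha : φ a = a) {c : Fin 20 → K} (hc : c ∈ V φ) : a • c ∈ V φ :=
  mem_V.2 fun i => by
    rw [Pi.smul_apply, Pi.smul_apply, smul_eq_mul, smul_eq_mul, map_mul, ha, mem_V.1 hc i]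
    rw [← mem_V.1 hc i]
    conv_lhs => rw [mem_V.1 hc i]
    ring

theorem tau_tau (hinv : ∀ x, φ (φ x) = x) (c : Fin 20 → K) : tau φ (tau φ c) = c := funext fun i => by
  show (sg20 i : K) * φ ((sg20 (pi20 i) : K) * φ (c (pi20 (pi20 i)))) = c i
  obtain ⟨-, -, -, h4, h5, h6, -⟩ := rQ_facts i
  rw [map_mul, map_intCast, hinv, h4, h5, ← mul_assoc, sign_cast_sq h6, one_mul]

theorem H_mem (hinv : ∀ x, φ (φ x) = x) {c : Fin 20 → K} (hc : c ∈ V φ) : H c ∈ GT φ := by
  have one : ∀ i, pi20 i = i → X (rQ i) (c i) ∈ GT φ := fun i hi => by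
    obtain ⟨h1, h2, h3, -⟩ := rQ_facts i
    rw [hi] at h2
    refine X_mem φ h1 h2 ?_
    have e := mem_V.1 hc i
    rw [hi, ← h3, (bar_lt _ h1).2.2.2.1 h2, Int.cast_one, one_mul] at e
    exact e.symm
  have two : ∀ i j, pi20 i = j → bar (rQ i) ≠ rQ i → X (rQ i) (c i) * X (rQ j) (c j) ∈ GT φ := by
    intro i j hij hne
    obtain ⟨h1, h2, h3, -⟩ := rQ_facts i
    have e := mem_V.1 hc j
    rw [← hij, (rQ_facts i).2.2.2.1, (rQ_facts i).2.2.2.2.1, ← h3] at e
    have := Y_mem φ hinv h1 hne (c i)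
    rwa [Y, h2, ← e, hij] at this
  have e : H c = X (rQ 0) (c 0) * X (rQ 1) (c 1) * (X (rQ 2) (c 2) * X (rQ 3) (c 3)) *
      (X (rQ 4) (c 4) * X (rQ 5) (c 5)) * X (rQ 6) (c 6) * (X (rQ 7) (c 7) * X (rQ 8) (c 8)) *
      X (rQ 9) (c 9) * X (rQ 10) (c 10) * (X (rQ 11) (c 11) * X (rQ 12) (c 12)) *
      (X (rQ 13) (c 13) * X (rQ 14) (c 14)) * X (rQ 15) (c 15) * (X (rQ 16) (c 16) * X (rQ 17) (c 17)) *
      X (rQ 18) (c 18) * X (rQ 19) (c 19) := by
    simp [H, Coords.el, Coords.lp, CQ, List.finRange_succ, mul_assoc]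
  rw [e]
  exact (Subgroup.mul_mem _ (Subgroup.mul_mem _ (Subgroup.mul_mem _ (Subgroup.mul_mem _ (Subgroup.mul_mem _ (Subgroup.mul_mem _ (Subgroup.mul_mem _ (Subgroup.mul_mem _ (Subgroup.mul_mem _ (Subgroup.mul_mem _ (Subgroup.mul_mem _ (Subgroup.mul_mem _ (Subgroup.mul_mem _ (one 0 (by decide +kernel))
    (one 1 (by decide +kernel)))
    (two 2 3 (by decide +kernel) (by decide +kernel)))
    (two 4 5 (by decide +kernel) (by decide +kernel)))
    (one 6 (by decide +kernel)))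
    (two 7 8 (by decide +kernel) (by decide +kernel)))
    (one 9 (by decide +kernel)))
    (one 10 (by decide +kernel)))
    (two 11 12 (by decide +kernel) (by decide +kernel)))
    (two 13 14 (by decide +kernel) (by decide +kernel)))
    (one 15 (by decide +kernel)))
    (two 16 17 (by decide +kernel) (by decide +kernel)))
    (one 18 (by decide +kernel)))
    (one 19 (by decide +kernel)))

theorem z_mem_iff {z : K} : X 71 z ∈ GT φ ↔ φ z = z := by
  refine ⟨fun h => ?_, X_mem φ (by norm_num) (by decide +kernel)⟩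
  have e := sigma_eq_of_mem φ h
  rw [sigma_X φ (show 71 < 72 by norm_num), show bar 71 = 71 by decide +kernel,
    show sgn 71 = 1 by decide +kernel, Int.cast_one, one_mul] at e
  exact X_inj (by norm_num) e

theorem cls_rational {g : GL chevE6.Idx K} (hg : g ∈ GT φ) {c : Fin 20 → K} (h : CQ.Cls g c) : c ∈ V φ := by
  obtain ⟨_, ⟨z, rfl⟩, rfl⟩ := h
  refine cls_unique (g := sigma φ (H c * X 71 z)) ?_ ?_
  · refine (map_mul (sigma φ) _ _).symm ▸ ?_
    have := CQ.cls_mul (cls_sigma φ c) (CQ.cls_of_mem (z := sigma φ (X 71 z))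
      ⟨_, (sigma_X φ (show 71 < 72 by norm_num) z).symm⟩)
    rwa [add_zero] at this
  · rw [sigma_eq_of_mem φ hg]
    exact ⟨_, ⟨z, rfl⟩, rfl⟩

theorem omega_fixed (hinv : ∀ x, φ (φ x) = x) {c d : Fin 20 → K} (hc : c ∈ V φ) (hd : d ∈ V φ) :
    φ (omega c d) = omega c d := by
  refine z_mem_iff.1 ?_
  have h := H_conj c d
  rw [← mul_left_cancel_iff (a := (H d)⁻¹), inv_mul_cancel_left] at h
  rw [← h]
  exact Subgroup.mul_mem _ (Subgroup.inv_mem _ (H_mem hinv hd))
    (Subgroup.mul_mem _ (Subgroup.mul_mem _ (H_mem hinv hc) (H_mem hinv hd)) (Subgroup.inv_mem _ (H_mem hinv hc)))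

theorem eq_zero_of_lin (hmove : ∃ x, φ x ≠ x) {a b : K} (h : ∀ u, a * u + b * φ u = 0) : a = 0 := by
  obtain ⟨x, hx⟩ := hmove
  have h1 := h 1
  rw [map_one, mul_one, mul_one] at h1
  have h2 : a * (x - φ x) = 0 := by linear_combination h x - φ x * h1
  exact (mul_eq_zero.1 h2).resolve_right (sub_ne_zero.2 (Ne.symm hx))

theorem eq_zero_of_quad (hinv : ∀ x, φ (φ x) = x) (hmove : ∃ x, φ x ≠ x) {a b γ : K}
    (h : ∀ u, a * u + b * φ u + γ * (u * φ u) = 0) : a = 0 := by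
  obtain ⟨x, hx⟩ := hmove
  have hx0 : x ≠ 0 := fun e => hx (by rw [e, map_zero])
  have hp0 : φ x ≠ 0 := (map_ne_zero φ).2 hx0
  set w := x / φ x with hw
  have hw1 : w - 1 ≠ 0 := sub_ne_zero.2 fun e => hx ((div_eq_one_iff_eq hp0).1 e).symm
  have hn : w * φ w = 1 := by
    rw [hw, map_div₀, hinv]
    field_simp
  refine (mul_eq_zero.1 (eq_zero_of_lin ⟨x, hx⟩ (a := a * (w - 1)) (b := b * (φ w - 1)) fun u => ?_)).resolve_right hw1
  have h1 := h (w * u)
  rw [map_mul] at h1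
  linear_combination h1 - h u - γ * u * φ u * hn

theorem single_mem {j : Fin 20} (hj : pi20 j = j) {a : K} (ha : φ a = a) : Pi.single j a ∈ V φ :=
  mem_V.2 fun i => by
    obtain ⟨h1, h2, h3, h4, -⟩ := rQ_facts i
    by_cases h : i = j
    · subst h
      rw [hj] at h2
      rw [hj, Pi.single_eq_same, ha, ← h3, (bar_lt _ h1).2.2.2.1 h2, Int.cast_one, one_mul]
    · rw [Pi.single_eq_of_ne h, Pi.single_eq_of_ne (fun e => h (by rw [← h4, e, hj])), map_zero, mul_zero]

theorem pair_mem (hinv : ∀ x, φ (φ x) = x) {j : Fin 20} (hj : pi20 j ≠ j) (a : K) :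
    Pi.single j a + Pi.single (pi20 j) ((sg20 j : K) * φ a) ∈ V φ :=
  mem_V.2 fun i => by
    obtain ⟨-, -, -, h4, h5, h6, -⟩ := rQ_facts j
    by_cases h : i = j
    · subst h
      simp only [Pi.add_apply, Pi.single_eq_same, Pi.single_eq_of_ne hj, Pi.single_eq_of_ne (Ne.symm hj), add_zero,
        zero_add, map_mul, map_intCast, hinv, ← mul_assoc, sign_cast_sq h6, one_mul]
    by_cases h' : i = pi20 j
    · subst h'
      simp only [Pi.add_apply, h4, h5, Pi.single_eq_same, Pi.single_eq_of_ne hj, Pi.single_eq_of_ne (Ne.symm hj),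
        add_zero, zero_add]
    · have hi : pi20 i ≠ j := fun e => h' (by rw [← e, (rQ_facts i).2.2.2.1])
      have hi' : pi20 i ≠ pi20 j := fun e => h (by
        rw [← (rQ_facts i).2.2.2.1, e, h4])
      simp [Pi.single_eq_of_ne h, Pi.single_eq_of_ne h', Pi.single_eq_of_ne hi, Pi.single_eq_of_ne hi']

theorem eq_zero_of_omega (hinv : ∀ x, φ (φ x) = x) (hmove : ∃ x, φ x ≠ x) {c : Fin 20 → K}
    (h : ∀ d ∈ V φ, omega c d = 0) : c = 0 := funext fun i => by
  obtain ⟨j, rfl⟩ : ∃ j, opp20 j = i := ⟨opp20 i, (opp_facts 0 i).1⟩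
  by_cases hj : pi20 j = j
  · have := h _ (single_mem hj (map_one φ))
    rw [omega_single', mul_one] at this
    exact (mul_eq_zero.1 this).resolve_left wsign_ne
  · refine (mul_eq_zero.1 (eq_zero_of_lin hmove (a := (wcoef (opp20 j) j : K) * c (opp20 j))
      (b := (wcoef (opp20 (pi20 j)) (pi20 j) : K) * c (opp20 (pi20 j)) * sg20 j) fun a => ?_)).resolve_left wsign_ne
    have := h _ (pair_mem hinv hj a)
    rw [omega_add_right, omega_single', omega_single', ← mul_assoc] at this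
    exact this

theorem exists_omega_ne (hinv : ∀ x, φ (φ x) = x) (hmove : ∃ x, φ x ≠ x) {c : Fin 20 → K} (hc : c ∈ V φ)
    (h0 : c ≠ 0) {t : K} (ht : φ t = t) : ∃ d ∈ V φ, omega c d = t := by
  obtain ⟨d, hd, hne⟩ : ∃ d ∈ V φ, omega c d ≠ 0 := by
    by_contra hcon
    push Not at hcon
    exact h0 (eq_zero_of_omega hinv hmove hcon)
  refine ⟨(t * (omega c d)⁻¹) • d, V_smul ?_ hd, ?_⟩
  · rw [map_mul, map_inv₀, omega_fixed hinv hc hd, ht]
  · rw [omega_smul_right, inv_mul_cancel_right₀ hne]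

theorem card_V [Fintype K] (hinv : ∀ x, φ (φ x) = x) (hmove : ∃ x, φ x ≠ x) :
    Nat.card (V φ) ^ 2 = Fintype.card K ^ 20 := by
  obtain ⟨l, hl⟩ := hmove
  have hl' : l - φ l ≠ 0 := sub_ne_zero.2 (Ne.symm hl)
  have htau : ∀ (a : K) (x : Fin 20 → K), tau φ (a • x) = φ a • tau φ x := fun a x => funext fun i => by
    show (sg20 i : K) * φ (a * x (pi20 i)) = φ a * ((sg20 i : K) * φ (x (pi20 i)))
    rw [map_mul]; ring
  classical
  rw [sq, ← Nat.card_prod, show Fintype.card K ^ 20 = Fintype.card (Fin 20 → K) by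
    rw [Fintype.card_fun, Fintype.card_fin], ← Nat.card_eq_fintype_card]
  refine Nat.card_congr (Equiv.ofBijective (fun p : V φ × V φ => p.1.1 + l • p.2.1) ⟨?_, fun x => ?_⟩)
  · rintro ⟨⟨c, hc⟩, ⟨d, hd⟩⟩ ⟨⟨c', hc'⟩, ⟨d', hd'⟩⟩ (e : c + l • d = c' + l • d')
    have e' := congrArg (tau φ) e
    rw [map_add, map_add, htau, htau, show tau φ c = c from hc, show tau φ c' = c' from hc',
      show tau φ d = d from hd, show tau φ d' = d' from hd'] at e'
    obtain rfl : d = d' := funext fun i => by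
      have h1 := congrFun e i
      have h2 := congrFun e' i
      simp only [Pi.add_apply, Pi.smul_apply, smul_eq_mul] at h1 h2
      exact mul_left_cancel₀ hl' (by linear_combination h1 - h2)
    obtain rfl : c = c' := add_right_cancel e
    rfl
  · set d : Fin 20 → K := (l - φ l)⁻¹ • (x - tau φ x) with hd
    have hdV : tau φ d = d := by
      rw [hd, htau, map_sub, tau_tau hinv, map_inv₀, map_sub, hinv]
      funext i
      simp only [Pi.smul_apply, Pi.sub_apply, smul_eq_mul]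
      rw [← neg_sub l (φ l), inv_neg, neg_mul, ← mul_neg, neg_sub]
    have hcV : tau φ (x - l • d) = x - l • d := by
      rw [map_sub, htau, hdV, hd]
      funext i
      simp only [Pi.smul_apply, Pi.sub_apply, smul_eq_mul]
      field_simp
      ring
    exact ⟨⟨⟨_, hcV⟩, ⟨d, hdV⟩⟩, sub_add_cancel _ _⟩

/-- An element of the group normalising the special subgroup, with its effect on coordinates and centre. -/
structure Norm (φ : K ≃+* K) (g : GL chevE6.Idx K) (M : (Fin 20 → K) →+ (Fin 20 → K)) (l : K) : Prop where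
  mem : g ∈ GT φ
  acts : CQ.Acts g M
  central : ∀ z, g * X 71 z * g⁻¹ = X 71 (l * z)
  fixed : φ l = l
  ne_zero : l ≠ 0

theorem Norm.map_mem {g : GL chevE6.Idx K} {M : (Fin 20 → K) →+ (Fin 20 → K)} {l : K} (hg : Norm φ g M l)
    (hinv : ∀ x, φ (φ x) = x) {c : Fin 20 → K} (hc : c ∈ V φ) : M c ∈ V φ :=
  cls_rational (Subgroup.mul_mem _ (Subgroup.mul_mem _ hg.mem (H_mem hinv hc)) (Subgroup.inv_mem _ hg.mem))
    (hg.acts.cls CQ (CQ.cls_el c))

theorem Norm.omega_map {g : GL chevE6.Idx K} {M : (Fin 20 → K) →+ (Fin 20 → K)} {l : K} (hg : Norm φ g M l)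
    (c d : Fin 20 → K) : omega (M c) (M d) = l * omega c d := by
  obtain ⟨_, ⟨z, rfl⟩, ec⟩ := hg.acts.cls CQ (CQ.cls_el c)
  obtain ⟨_, ⟨z', rfl⟩, ed⟩ := hg.acts.cls CQ (CQ.cls_el d)
  have h := congrArg (MulAut.conj g) (H_conj c d)
  simp only [map_mul, map_inv, MulAut.conj_apply] at h
  have hz : g * X 71 (omega c d) * g⁻¹ = X 71 (l * omega c d) := hg.central _
  rw [ec, ed, hz] at h
  have h' : H (M c) * X 71 z * (H (M d) * X 71 z') * (H (M c) * X 71 z)⁻¹ =
      H (M d) * X 71 (omega (M c) (M d)) * X 71 z' := by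
    rw [mul_inv_rev, ← mul_assoc (H (M c) * X 71 z), mul_assoc (H (M c)) (X 71 z), (z_commute z (M d)).eq]
    rw [← H_conj]
    have e1 : X (K := K) 71 z * X 71 z' = X 71 z' * X 71 z := (X_commute (by decide +kernel) z z').eq
    calc H (M c) * (H (M d) * X 71 z) * X 71 z' * ((X 71 z)⁻¹ * (H (M c))⁻¹)
        = H (M c) * H (M d) * (X 71 z * X 71 z') * (X 71 z)⁻¹ * (H (M c))⁻¹ := by simp only [mul_assoc]
      _ = H (M c) * H (M d) * (X 71 z' * (H (M c))⁻¹) := by rw [e1]; group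
      _ = _ := by rw [((z_commute z' (M c)).inv_right).eq]; simp only [mul_assoc]
  rw [h', mul_assoc, X_add (by norm_num), mul_assoc, X_add (by norm_num)] at h
  have := (H_inj h).2
  linear_combination this

theorem Norm.inj {g : GL chevE6.Idx K} {M : (Fin 20 → K) →+ (Fin 20 → K)} {l : K} (hg : Norm φ g M l)
    (hinv : ∀ x, φ (φ x) = x) (hmove : ∃ x, φ x ≠ x) {c : Fin 20 → K} (h : M c = 0) : c = 0 := by
  refine eq_zero_of_omega hinv hmove fun d _ => ?_
  have e := hg.omega_map c d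
  rw [h, show omega (0 : Fin 20 → K) (M d) = 0 by simp [omega]] at e
  exact (mul_eq_zero.1 e.symm).resolve_left hg.ne_zero

theorem Norm.surj [Fintype K] {g : GL chevE6.Idx K} {M : (Fin 20 → K) →+ (Fin 20 → K)} {l : K}
    (hg : Norm φ g M l) (hinv : ∀ x, φ (φ x) = x) (hmove : ∃ x, φ x ≠ x) {d : Fin 20 → K} (hd : d ∈ V φ) :
    ∃ c ∈ V φ, M c = d := by
  let f : V φ → V φ := fun c => ⟨M c.1, hg.map_mem hinv c.2⟩
  have hf : Function.Surjective f := Finite.surjective_of_injective fun a b e => Subtype.ext <| sub_eq_zero.1 <|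
    hg.inj hinv hmove (by rw [map_sub, sub_eq_zero]; exact congrArg Subtype.val e)
  obtain ⟨c, hc⟩ := hf ⟨d, hd⟩
  exact ⟨c.1, c.2, congrArg Subtype.val hc⟩

theorem Norm.mul {g g' : GL chevE6.Idx K} {M M' : (Fin 20 → K) →+ (Fin 20 → K)} {l l' : K}
    (hg : Norm φ g M l) (hg' : Norm φ g' M' l') : Norm φ (g * g') (M.comp M') (l * l') := by
  refine ⟨Subgroup.mul_mem _ hg.mem hg'.mem, hg.acts.mul CQ hg'.acts, fun z => ?_, by
    rw [map_mul, hg.fixed, hg'.fixed], mul_ne_zero hg.ne_zero hg'.ne_zero⟩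
  rw [show g * g' * X 71 z * (g * g')⁻¹ = g * (g' * X 71 z * g'⁻¹) * g⁻¹ by group, hg'.central, hg.central,
    mul_assoc]

end Cfsg.Agent.MinDegree.TwoE6
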