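import Cfsg.Agent.Lib.MinDegree.TwoE6.Radical

/-!
The middle unipotent group of the Levi complement, with the coordinates of level one as parameters.
-/

set_option autoImplicit false
set_option linter.unusedSectionVars false
set_option maxRecDepth 4000

namespace Cfsg.Agent.MinDegree.TwoE6

open Cfsg.Lie Cfsg.Agent.Chev Cfsg.Agent.Chev.BNSetup Module

/-- The coordinates of level one. -/
def L1 : List (Fin 20) := [1, 2, 3, 4, 5, 6, 7, 8, 9]

/-- The coordinates of level two. -/
def L2 : List (Fin 20) := [10, 11, 12, 13, 14, 15, 16, 17, 18]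

/-- The root of the middle unipotent group over a coordinate of level one. -/
def yr : Fin 20 → ℕ := ![39, 39, 40, 43, 41, 58, 44, 45, 59, 60, 39, 39, 39, 39, 39, 39, 39, 39, 39, 39]

/-- The coefficient over a coordinate of level one. -/
def ym (i : Fin 20) : ℤ :=
  match ntab (yr i) i with
  | some (_, m) => m
  | none => 0

theorem yr_facts : ∀ i ∈ L1, yr i ∈ leviRoots ∧ bar (yr i) = yr (pi20 i) ∧ pi20 i ∈ L1 ∧
    ntab (yr i) i = some (0, ym i) ∧ ym i * ym i = 1 ∧ sgn (yr i) * ym i = ym (pi20 i) * sg20 i ∧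
    commB (yr i) 71 = true ∧ (∀ j ∈ L1, j = i ∨ (ntab (yr i) j).isNone = true) ∧
    (ntab (yr i) 0).isNone = true ∧ (∀ j ∈ L1, commB (yr i) (yr j) = true) ∧
    (bar (yr i) = yr i → pi20 i = i) := by decide +kernel

variable {K : Type*} [Field K]

/-- The coordinates of the middle unipotent group. -/
noncomputable def CY : Coords (GL chevE6.Idx K) K 20 where
  x i a := if i ∈ L1 then X (yr i) ((ym i : K) * a) else 1
  Z := ⊥
  x_add i a b := by
    split_ifs with h
    · rw [X_add (ntab_table _ (yr_facts i h).1).1, mul_add]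
    · rw [one_mul]
  central := by
    intro z hz i a
    rw [Subgroup.mem_bot] at hz
    subst hz
    exact Commute.one_left _
  swap i j a b := by
    refine ⟨1, Subgroup.one_mem _, ?_⟩
    rw [mul_one]
    split_ifs with h h'
    · exact (X_commute ((yr_facts i h).2.2.2.2.2.2.2.2.2.1 j h') _ _).eq
    · rw [mul_one, one_mul]
    · rw [mul_one, one_mul]
    · rfl

/-- The element of the middle unipotent group. -/
noncomputable abbrev Yg (d : Fin 20 → K) : GL chevE6.Idx K := CY.el d

theorem CY_x {i : Fin 20} (h : i ∈ L1) (a : K) : CY.x i a = X (yr i) ((ym i : K) * a) := by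
  show (if i ∈ L1 then _ else _) = _
  rw [if_pos h]

theorem CY_x_one {i : Fin 20} (h : i ∉ L1) (a : K) : CY.x i a = 1 := by
  show (if i ∈ L1 then _ else _) = _
  rw [if_neg h]

theorem eq_Yg {g : GL chevE6.Idx K} {c : Fin 20 → K} (h : CY.Cls g c) : g = Yg c := by
  obtain ⟨z, hz, rfl⟩ := h
  rw [show z = 1 from Subgroup.mem_bot.1 hz, mul_one]

theorem Yg_add (c d : Fin 20 → K) : Yg c * Yg d = Yg (c + d) := eq_Yg (CY.el_mul c d)

theorem Yg_single (i : Fin 20) (a : K) : Yg (Pi.single i a) = CY.x i a := (eq_Yg (CY.cls_x i a)).symm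

theorem Yg_zero : Yg (0 : Fin 20 → K) = 1 := CY.el_zero

/-- Forgetting the coordinates outside a list. -/
def mask (l : List (Fin 20)) (c : Fin 20 → K) : Fin 20 → K := fun j => if j ∈ l then c j else 0

theorem Yg_mask (c : Fin 20 → K) : Yg (mask L1 c) = Yg c :=
  congrArg List.prod <| List.map_congr_left fun i _ => by
    by_cases h : i ∈ L1
    · rw [mask, if_pos h]
    · rw [CY_x_one h, CY_x_one h]

/-- The action of the middle unipotent group on the coordinates. -/
theorem Yg_acts (d : Fin 20 → K) : ∃ M, CQ.Acts (Yg d) M ∧ (∀ z, Commute (Yg d) (X 71 z)) ∧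
    ∀ v, M v 0 = v 0 ∧ ∀ j ∈ L1, M v j = v j + d j * v 0 := by
  suffices key : ∀ l : List (Fin 20), l.Nodup → ∃ M, CQ.Acts (CY.lp l d) M ∧
      (∀ z, Commute (CY.lp l d) (X 71 z)) ∧
      ∀ v, M v 0 = v 0 ∧ ∀ j ∈ L1, M v j = v j + (if j ∈ l then d j * v 0 else 0) by
    obtain ⟨M, h1, h2, h3⟩ := key _ (List.nodup_finRange 20)
    exact ⟨M, h1, h2, fun v => ⟨(h3 v).1, fun j hj => by rw [(h3 v).2 j hj, if_pos (List.mem_finRange j)]⟩⟩
  intro l hl
  induction l with
  | nil => exact ⟨AddMonoidHom.id _, CQ.acts_one, fun z => Commute.one_left _, fun v => ⟨rfl, fun j _ => by simp⟩⟩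
  | cons i l ih =>
    obtain ⟨hil, hl⟩ := List.nodup_cons.1 hl
    obtain ⟨M, hM, hz, hv⟩ := ih hl
    rw [show CY.lp (i :: l) d = CY.x i (d i) * CY.lp l d from rfl]
    by_cases hi : i ∈ L1
    · obtain ⟨h1, -, -, h4, h5, -, h7, h8, h9, -, -⟩ := yr_facts i hi
      rw [CY_x hi]
      refine ⟨(op (yr i) ((ym i : K) * d i)).comp M, (acts_X h1 _).mul CQ hM,
        fun z => (X_commute h7 _ z).mul_left (hz z), fun v => ⟨?_, fun j hj => ?_⟩⟩
      · rw [AddMonoidHom.comp_apply, op_apply, Option.isNone_iff_eq_none.1 h9, (hv v).1]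
        exact add_zero _
      · rw [AddMonoidHom.comp_apply, op_apply, (hv v).2 j hj]
        by_cases hji : j = i
        · subst hji
          simp only [h4, (hv v).1, if_neg hil, List.mem_cons_self, if_true, add_zero]
          rw [← mul_assoc (ym j : K), sign_cast_sq h5, one_mul]
        · rw [Option.isNone_iff_eq_none.1 ((h8 j hj).resolve_left hji)]
          simp [hji]
    · rw [CY_x_one hi, one_mul]
      refine ⟨M, hM, hz, fun v => ⟨(hv v).1, fun j hj => ?_⟩⟩
      have hji : j ≠ i := fun e => hi (e ▸ hj)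
      rw [(hv v).2 j hj]
      simp [hji]

variable {φ : K ≃+* K}

theorem mask_mem {l : List (Fin 20)} (hl : ∀ i ∈ l, pi20 i ∈ l) {c : Fin 20 → K} (hc : c ∈ V φ) :
    mask l c ∈ V φ := mem_V.2 fun i => by
  by_cases h : i ∈ l
  · rw [mask, if_pos h, mask, if_pos (hl i h), ← mem_V.1 hc i]
  · rw [mask, if_neg h, mask, if_neg (fun h' => h (by
      have := hl _ h'; rwa [(rQ_facts i).2.2.2.1] at this)), map_zero, mul_zero]

theorem L_pi : (∀ i ∈ L1, pi20 i ∈ L1) ∧ ∀ i ∈ L2, pi20 i ∈ L2 := by decide +kernel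

/-- The parameters of a rational element are rational. -/
theorem mask_of_mem (hinv : ∀ x, φ (φ x) = x) {d : Fin 20 → K} (h : Yg d ∈ GT φ) : mask L1 d ∈ V φ := by
  obtain ⟨M, hM, -, hv⟩ := Yg_acts d
  have hs : (Pi.single 0 1 : Fin 20 → K) ∈ V φ := single_mem (by decide) (map_one φ)
  have hm := cls_rational (Subgroup.mul_mem _ (Subgroup.mul_mem _ h (H_mem hinv hs)) (Subgroup.inv_mem _ h))
    (hM.cls CQ (CQ.cls_el (Pi.single 0 1)))
  have e : mask L1 d = mask L1 (M (Pi.single 0 1)) := funext fun j => by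
    by_cases hj : j ∈ L1
    · rw [mask, if_pos hj, mask, if_pos hj, (hv _).2 j hj, Pi.single_eq_same,
        Pi.single_eq_of_ne (fun e : j = 0 => absurd (e ▸ hj) (by decide)), zero_add, mul_one]
    · rw [mask, if_neg hj, mask, if_neg hj]
  rw [e]
  exact mask_mem L_pi.1 hm

theorem Yg_mem [Fintype K] (hinv : ∀ x, φ (φ x) = x) (d : V φ) (hd : ∀ i, i ∉ L1 → d.1 i = 0) :
    Yg d.1 ∈ GT φ := by
  classical
  induction hn : (Finset.univ.filter fun i => d.1 i ≠ 0).card using Nat.strong_induction_on generalizing d with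
  | _ n ih =>
    subst hn
    by_cases h0 : ∀ i, d.1 i = 0
    · rw [show d.1 = 0 from funext h0, Yg_zero]
      exact one_mem _
    push Not at h0
    obtain ⟨i, hi⟩ := h0
    have hiL : i ∈ L1 := by by_contra hn'; exact hi (hd i hn')
    have hp := piece_apply hinv d i
    have hsub : ∀ j, (d - piece hinv d i).1 j = if j = i ∨ j = pi20 i then 0 else d.1 j := fun j => by
      show d.1 j - (piece hinv d i).1 j = _
      rw [hp]; split_ifs <;> simp
    have hlt := ih (Finset.univ.filter fun j => (d - piece hinv d i).1 j ≠ 0).card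
      (Finset.card_lt_card ((Finset.ssubset_iff_of_subset fun j hj => ?_).2 ⟨i, by simp [hi], by simp [hsub]⟩))
      (d - piece hinv d i) (fun j hj => by rw [hsub]; split_ifs <;> simp [hd j hj]) rfl
    swap
    · simp only [Finset.mem_filter, Finset.mem_univ, true_and, hsub] at hj ⊢
      split_ifs at hj
      · exact absurd rfl hj
      · exact hj
    rw [show d.1 = (piece hinv d i).1 + (d - piece hinv d i).1 from (add_sub_cancel _ _).symm, ← Yg_add]
    refine Subgroup.mul_mem _ ?_ hlt
    obtain ⟨h1, h2, h3, -, h5, h6, -, -, -, -, h11⟩ := yr_facts i hiL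
    have hl := (ntab_table _ h1).1
    by_cases hpi : pi20 i = i
    · rw [piece, dif_pos hpi]
      show Yg (Pi.single i (d.1 i)) ∈ _
      rw [Yg_single, CY_x hiL]
      exact X_mem φ hl (by rw [h2, hpi]) (by rw [map_mul, map_intCast, piece.fixed_of d.2 hpi])
    · have e : (piece hinv d i).1 = Pi.single i (d.1 i) + Pi.single (pi20 i) ((sg20 i : K) * φ (d.1 i)) := by
        rw [piece, dif_neg hpi]
      rw [e, ← Yg_add, Yg_single, Yg_single, CY_x hiL, CY_x h3]
      have hY := Y_mem φ hinv hl (fun e => hpi (h11 e)) ((ym i : K) * d.1 i)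
      rw [Y, h2, map_mul, map_intCast, ← mul_assoc, show (sgn (yr i) : K) * (ym i : K) =
        (ym (pi20 i) : K) * (sg20 i : K) by rw [← Int.cast_mul, ← Int.cast_mul, h6], mul_assoc] at hY
      exact hY

end Cfsg.Agent.MinDegree.TwoE6
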