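import Cfsg.Agent.Lib.MinDegree.TwoE6.Elts

/-!
Moving the coordinates by root elements of the Levi complement: one step in one coordinate.
-/

set_option autoImplicit false
set_option linter.unusedSectionVars false
set_option maxRecDepth 4000

namespace Cfsg.Agent.MinDegree.TwoE6

open Cfsg.Lie Cfsg.Agent.Chev Cfsg.Agent.Chev.BNSetup

variable {K : Type*} [Field K] {φ : K ≃+* K}

/-- The source of a change lies in a set of vanishing coordinates. -/
def srcB (s : ℕ) (Z : List (Fin 20)) (i : Fin 20) : Bool :=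
  match ntab s i with
  | some (j, _) => Z.contains j
  | none => true

/-- A coordinate is not changed. -/
def fixB (r : ℕ) (Z : List (Fin 20)) (i : Fin 20) : Bool :=
  (decide (bar r = r) || srcB (bar r) Z i) &&
    match ntab r i with
    | some (j, _) => Z.contains j && (decide (bar r = r) || srcB (bar r) Z j)
    | none => true

/-- A coordinate receives a multiple of another one. -/
def entryB (r : ℕ) (Z : List (Fin 20)) (top t : Fin 20) : Bool :=
  (decide (bar r = r) || srcB (bar r) Z t && srcB (bar r) Z top) &&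
    match ntab r t with
    | some (j, _) => decide (j = top)
    | none => false

/-- The coefficient of an entry. -/
def coefAt (r : ℕ) (t : Fin 20) : ℤ :=
  match ntab r t with
  | some (_, m) => m
  | none => 0

theorem ntab_sign : ∀ r ∈ leviRoots, ∀ i, (match ntab r i with | some (_, m) => m * m | none => 1) = 1 := by
  decide +kernel

theorem coefAt_ne {r : ℕ} (hr : r ∈ leviRoots) {i j : Fin 20} {m : ℤ} (h : ntab r i = some (j, m)) :
    (m : K) ≠ 0 := by
  have := ntab_sign r hr i
  rw [h] at this
  exact left_ne_zero_of_mul_eq_one (sign_cast_sq this)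

theorem op_of_src {s : ℕ} {Z : List (Fin 20)} {i : Fin 20} (h : srcB s Z i = true) {c : Fin 20 → K}
    (hc : ∀ j ∈ Z, c j = 0) (b : K) : op s b c i = c i := by
  rw [op_apply]
  rcases hn : ntab s i with _ | ⟨j, m⟩
  · simp
  · simp only [srcB, hn, List.contains_iff_mem] at h
    simp [hc j h]

theorem elMap_fix {r : ℕ} {Z : List (Fin 20)} {i : Fin 20} (h : fixB r Z i = true) {c : Fin 20 → K}
    (hc : ∀ j ∈ Z, c j = 0) (a : K) : elMap φ r a c i = c i := by
  simp only [fixB, Bool.and_eq_true, Bool.or_eq_true, decide_eq_true_eq] at h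
  obtain ⟨h1, h2⟩ := h
  by_cases hb : bar r = r
  · rw [elMap, if_pos hb, op_apply]
    rcases hn : ntab r i with _ | ⟨j, m⟩
    · simp
    · simp only [hn, Bool.and_eq_true, List.contains_iff_mem] at h2
      simp [hc j h2.1]
  · rw [elMap, if_neg hb, AddMonoidHom.comp_apply, op_apply, op_of_src (h1.resolve_left hb) hc]
    rcases hn : ntab r i with _ | ⟨j, m⟩
    · simp
    · simp only [hn, Bool.and_eq_true, Bool.or_eq_true, decide_eq_true_eq, List.contains_iff_mem] at h2
      simp [op_of_src (h2.2.resolve_left hb) hc, hc j h2.1]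

theorem elMap_entry {r : ℕ} {Z : List (Fin 20)} {top t : Fin 20} (h : entryB r Z top t = true)
    {c : Fin 20 → K} (hc : ∀ j ∈ Z, c j = 0) (a : K) :
    elMap φ r a c t = c t + (coefAt r t : K) * a * c top := by
  simp only [entryB, Bool.and_eq_true, Bool.or_eq_true, decide_eq_true_eq] at h
  obtain ⟨h1, h2⟩ := h
  rcases hn : ntab r t with _ | ⟨j, m⟩
  · rw [hn] at h2; exact absurd h2 Bool.false_ne_true
  rw [hn] at h2
  obtain rfl := of_decide_eq_true h2
  by_cases hb : bar r = r
  · rw [elMap, if_pos hb, op_apply, coefAt, hn]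
  · obtain ⟨h3, h4⟩ := h1.resolve_left hb
    rw [elMap, if_neg hb, AddMonoidHom.comp_apply, op_apply, op_of_src h3 hc, coefAt, hn]
    simp only [op_of_src h4 hc]

/-- A coordinate moved by a nonzero one takes every value but at most one. -/
theorem exists_coord_ne (hinv : ∀ x, φ (φ x) = x) (hmove : ∃ x, φ x ≠ x) {r : ℕ} (hr : r ∈ leviRoots)
    {i j : Fin 20} {m : ℤ} (hn : ntab r i = some (j, m)) {c : Fin 20 → K} (hj : c j ≠ 0) (v : K) :
    ∃ a : Param φ r, elMap φ r a.1 c i ≠ v := by
  have hm := coefAt_ne (K := K) hr hn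
  by_contra hall
  push Not at hall
  have h0 := hall (Param.ofFixed r (map_zero φ))
  rw [show (Param.ofFixed (φ := φ) r (map_zero φ)).1 = 0 from rfl, elMap_zero] at h0
  subst h0
  by_cases hb : bar r = r
  · have h1 := hall (Param.ofFixed r (map_one φ))
    rw [show (Param.ofFixed (φ := φ) r (map_one φ)).1 = 1 from rfl, elMap, if_pos hb, op_apply, hn] at h1
    simp [hm, hj] at h1
  · obtain ⟨B, Γ, hval⟩ : ∃ B Γ : K, ∀ a : K,
        elMap φ r a c i = c i + ((m : K) * c j * a + B * φ a + Γ * (a * φ a)) := by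
      refine ⟨(match ntab (bar r) i with | some (i', m') => (m' : K) * sgn r * c i' | none => 0),
        (match ntab (bar r) j with | some (i', m') => (m : K) * m' * sgn r * c i' | none => 0), fun a => ?_⟩
      rw [elMap, if_neg hb, AddMonoidHom.comp_apply, op_apply, op_apply, hn]
      simp only [op_apply]
      rcases ntab (bar r) i with _ | ⟨i', m'⟩ <;> rcases ntab (bar r) j with _ | ⟨i'', m''⟩ <;> simp <;> ring
    refine (mul_ne_zero hm hj) (eq_zero_of_quad hinv hmove (b := B) (γ := Γ) fun a => ?_)
    have h1 := hall ⟨a, fun h => absurd h hb⟩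
    rw [hval] at h1
    exact add_eq_left.1 h1

variable [Fintype K]

noncomputable instance (r : ℕ) : Fintype (Param φ r) := by
  classical exact inferInstanceAs (Fintype {a : K // bar r = r → φ a = a})

theorem card_param (hinv : ∀ x, φ (φ x) = x) {q : ℕ} (hk : Nat.card (kfix φ) = q) (hK : Fintype.card K = q ^ 2)
    (r : ℕ) : Fintype.card (Param φ r) = if bar r = r then q else q ^ 2 := by
  have _ := hinv
  rw [← Nat.card_eq_fintype_card]
  by_cases hb : bar r = r
  · rw [if_pos hb, ← hk]
    exact Nat.card_congr (Equiv.subtypeEquivRight fun a => by simp [hb, mem_kfix])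
  · rw [if_neg hb, ← hK, ← Nat.card_eq_fintype_card]
    exact Nat.card_congr (Equiv.subtypeUnivEquiv fun a h => absurd h hb)

/-- A step: the image of a set under a root group is a disjoint union of copies of it. -/
theorem exists_step [DecidableEq K] (hinv : ∀ x, φ (φ x) = x) (hmove : ∃ x, φ x ≠ x) {r : ℕ}
    (hr : r ∈ leviRoots) {Z : List (Fin 20)} {top t : Fin 20} (he : entryB r Z top t = true)
    (hf : fixB r Z top = true) (S : Finset (Fin 20 → K)) (hS : ∀ c ∈ S, (∀ j ∈ Z, c j = 0) ∧ c t = 0 ∧ c top ≠ 0) :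
    ∃ S' : Finset (Fin 20 → K), S'.card = Fintype.card (Param φ r) * S.card ∧
      ∀ d ∈ S', ∃ c ∈ S, ∃ a : Param φ r, d = elMap φ r a.1 c ∧ ∀ i, fixB r Z i = true → d i = c i := by
  refine ⟨(Finset.univ ×ˢ S).image fun p : Param φ r × (Fin 20 → K) => elMap φ r p.1.1 p.2, ?_, ?_⟩
  · rw [Finset.card_image_of_injOn ?_, Finset.card_product, Finset.card_univ]
    rintro ⟨a, c⟩ hac ⟨a', c'⟩ hac' (e : elMap φ r a.1 c = elMap φ r a'.1 c')
    simp only [Finset.mem_coe, Finset.mem_product] at hac hac'
    obtain ⟨hz, ht, htop⟩ := hS c hac.2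
    obtain ⟨hz', ht', htop'⟩ := hS c' hac'.2
    have e1 := congrFun e t
    rw [elMap_entry he hz, elMap_entry he hz', ht, ht', zero_add, zero_add] at e1
    have hcoef : (coefAt r t : K) ≠ 0 := by
      simp only [entryB, Bool.and_eq_true] at he
      rcases hn : ntab r t with _ | ⟨j, m⟩
      · rw [hn] at he; exact absurd he.2 Bool.false_ne_true
      · simpa [coefAt, hn] using coefAt_ne (K := K) hr hn
    have e2 := congrFun e top
    rw [elMap_fix hf hz, elMap_fix hf hz'] at e2
    obtain rfl : a = a' := Subtype.ext (by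
      rw [← e2] at e1
      exact mul_left_cancel₀ hcoef (mul_right_cancel₀ htop e1))
    obtain rfl : c = c' := sub_eq_zero.1 ((norm_el hinv hr a).inj hinv hmove (by rw [map_sub, e, sub_self]))
    rfl
  · intro d hd
    obtain ⟨⟨a, c⟩, hac, rfl⟩ := Finset.mem_image.1 hd
    exact ⟨c, (Finset.mem_product.1 hac).2, a, rfl, fun i hi => elMap_fix hi (hS c (Finset.mem_product.1 hac).2).1 _⟩

end Cfsg.Agent.MinDegree.TwoE6
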